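import Groth.Prelude.Def_EGA43
import Mathlib.AlgebraicGeometry.PullbackCarrier
import Mathlib.AlgebraicGeometry.Morphisms.UniversallyClosed

/-! Formal properties of universal openness at a point. -/

set_option autoImplicit false
universe u

open CategoryTheory AlgebraicGeometry Topology Filter

namespace UOpenLib

theorem IsOpenAt.comp {α β γ : Type*} [TopologicalSpace α] [TopologicalSpace β] [TopologicalSpace γ]
    {f : α → β} {g : β → γ} {x : α} (hg : EGA43.IsOpenAt g (f x)) (hf : EGA43.IsOpenAt f x) :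
    EGA43.IsOpenAt (g ∘ f) x := fun U hU => by
  rw [Set.image_comp]
  exact hg _ (hf U hU)

theorem IsOpenAt.of_comp {α β γ : Type*} [TopologicalSpace α] [TopologicalSpace β] [TopologicalSpace γ]
    {f : α → β} {g : β → γ} {x : α} (hf : ContinuousAt f x) (h : EGA43.IsOpenAt (g ∘ f) x) :
    EGA43.IsOpenAt g (f x) := fun U hU => by
  refine Filter.mem_of_superset (h _ (hf hU)) ?_
  rw [Set.image_comp]
  exact Set.image_mono (Set.image_preimage_subset f U)

/-- A closed surjection detects openness at a point. -/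
theorem IsOpenAt.descend {α β γ : Type*} [TopologicalSpace α] [TopologicalSpace β] [TopologicalSpace γ]
    {f : α → β} {v : γ → β} (hv : IsClosedMap v) (hs : Function.Surjective v) {x : α}
    (h : ∀ U ∈ 𝓝 x, ∀ c, v c = f x → v ⁻¹' (f '' U) ∈ 𝓝 c) : EGA43.IsOpenAt f x := fun U hU => by
  refine mem_nhds_iff.2 ⟨(v '' (interior (v ⁻¹' (f '' U)))ᶜ)ᶜ, fun b hb => ?_,
    (hv _ isOpen_interior.isClosed_compl).isOpen_compl, ?_⟩
  · obtain ⟨c, rfl⟩ := hs b
    by_contra hc
    exact hb ⟨c, fun h' => hc (interior_subset (s := v ⁻¹' (f '' U)) h'), rfl⟩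
  · rintro ⟨c, hc, hcx⟩
    exact hc (mem_interior_iff_mem_nhds.2 (h U hU c hcx))

theorem image_fst_snd {P X Y Z : Scheme.{u}} {a : P ⟶ X} {b : P ⟶ Y} {f : X ⟶ Z} {g : Y ⟶ Z}
    (h : IsPullback a b f g) (x : X) (y : Y) (hxy : f.base x = g.base y) :
    ∃ z : P, a.base z = x ∧ b.base z = y := by
  obtain ⟨z, h1, h2⟩ := Scheme.Pullback.exists_preimage_pullback x y hxy
  refine ⟨h.isoPullback.inv.base z, ?_, ?_⟩
  · rw [← Scheme.Hom.comp_apply, h.isoPullback_inv_fst]; exact h1
  · rw [← Scheme.Hom.comp_apply, h.isoPullback_inv_snd]; exact h2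

/-- Universal openness at a point, tested on any pullback square. -/
theorem IsUnivOpenAt.isOpenAt {X Y Y' P : Scheme.{u}} {f : X ⟶ Y} {g : Y' ⟶ Y} {a : P ⟶ X} {b : P ⟶ Y'}
    {x : X} (h : EGA43.IsUnivOpenAt f x) (sq : IsPullback a b f g) (p : P) (hp : a.base p = x) :
    EGA43.IsOpenAt b.base p := by
  have h1 := h Y' g (sq.isoPullback.hom.base p) (by
    rw [← Scheme.Hom.comp_apply, sq.isoPullback_hom_fst]; exact hp)
  have h2 : EGA43.IsOpenAt sq.isoPullback.hom.base p := fun U hU =>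
    (Scheme.Hom.homeomorph sq.isoPullback.hom).isOpenMap.image_mem_nhds hU
  have h3 := IsOpenAt.comp h1 h2
  have h4 : (⇑(Limits.pullback.snd f g).base ∘ ⇑sq.isoPullback.hom.base) = ⇑b.base := funext fun z => by
    show (Limits.pullback.snd f g).base (sq.isoPullback.hom.base z) = _
    rw [← Scheme.Hom.comp_apply, sq.isoPullback_hom_snd]
  rwa [h4] at h3

theorem IsUnivOpenAt.comp {X Y Z : Scheme.{u}} {f : X ⟶ Y} {g : Y ⟶ Z} {x : X}
    (hf : EGA43.IsUnivOpenAt f x) (hg : EGA43.IsUnivOpenAt g (f.base x)) : EGA43.IsUnivOpenAt (f ≫ g) x := by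
  intro Z' h x' hx'
  let m : Limits.pullback (f ≫ g) h ⟶ Limits.pullback g h :=
    Limits.pullback.lift (Limits.pullback.fst (f ≫ g) h ≫ f) (Limits.pullback.snd (f ≫ g) h)
      (by rw [Category.assoc, Limits.pullback.condition])
  have hm : m ≫ Limits.pullback.snd g h = Limits.pullback.snd (f ≫ g) h := Limits.pullback.lift_snd _ _ _
  have sq : IsPullback (Limits.pullback.fst (f ≫ g) h) m f (Limits.pullback.fst g h) :=
    IsPullback.of_bot (hm.symm ▸ IsPullback.of_hasPullback (f ≫ g) h) (Limits.pullback.lift_fst _ _ _).symm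
      (IsPullback.of_hasPullback g h)
  have h1 := IsUnivOpenAt.isOpenAt hf sq x' hx'
  have h2 : EGA43.IsOpenAt (Limits.pullback.snd g h).base (m.base x') :=
    IsUnivOpenAt.isOpenAt hg (IsPullback.of_hasPullback g h) _ (by
      rw [← hx', ← Scheme.Hom.comp_apply, ← Scheme.Hom.comp_apply, sq.w])
  have h3 := IsOpenAt.comp h2 h1
  have h4 : (⇑(Limits.pullback.snd g h).base ∘ ⇑m.base) = ⇑(Limits.pullback.snd (f ≫ g) h).base := funext fun z => by
    show (Limits.pullback.snd g h).base (m.base z) = _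
    rw [← Scheme.Hom.comp_apply, hm]
  rwa [h4] at h3

theorem IsUnivOpenAt.of_comp {X Y Z : Scheme.{u}} {f : X ⟶ Y} {g : Y ⟶ Z} {x : X}
    (h : EGA43.IsUnivOpenAt (f ≫ g) x) : EGA43.IsUnivOpenAt g (f.base x) := by
  intro Z' k y' hy'
  have sq := (IsPullback.of_hasPullback f (Limits.pullback.fst g k)).paste_vert (IsPullback.of_hasPullback g k)
  obtain ⟨z, h1, h2⟩ := image_fst_snd (IsPullback.of_hasPullback f (Limits.pullback.fst g k)) x y' hy'.symm
  have h3 := IsUnivOpenAt.isOpenAt h sq z h1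
  subst h2
  refine IsOpenAt.of_comp (f := (Limits.pullback.snd f (Limits.pullback.fst g k)).base)
    (g := (Limits.pullback.snd g k).base) (Scheme.Hom.continuous _).continuousAt ?_
  exact h3

theorem IsUnivOpenAt.of_isPullback {P X Y Y' : Scheme.{u}} {f : X ⟶ Y} {g : Y' ⟶ Y} {a : P ⟶ X} {b : P ⟶ Y'}
    {x : X} (h : EGA43.IsUnivOpenAt f x) (sq : IsPullback a b f g) (p : P) (hp : a.base p = x) :
    EGA43.IsUnivOpenAt b p := by
  intro Z k z hz
  exact IsUnivOpenAt.isOpenAt h ((IsPullback.of_hasPullback b k).paste_horiz sq) z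
    (by rw [Scheme.Hom.comp_apply, hz, hp])

theorem IsUnivOpenAt.descend {X Y Y₁ : Scheme.{u}} {v : Y₁ ⟶ Y} [UniversallyClosed v] [Surjective v]
    {f : X ⟶ Y} {x : X}
    (h : ∀ x₁ : ↥(Limits.pullback f v), (Limits.pullback.fst f v).base x₁ = x →
      EGA43.IsUnivOpenAt (Limits.pullback.snd f v) x₁) : EGA43.IsUnivOpenAt f x := by
  intro Y' g x' hx'
  let v' := Limits.pullback.fst g v
  refine IsOpenAt.descend (v := v'.base) (Scheme.Hom.isClosedMap v') (Surjective.surj (f := v')) fun U hU c hc => ?_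
  let f' := Limits.pullback.snd f g
  obtain ⟨z, hz1, hz2⟩ := image_fst_snd (IsPullback.of_hasPullback f' v') x' c hc.symm
  let P := Limits.pullback f' v'
  have sq0 := (IsPullback.of_hasPullback f' v').paste_horiz (IsPullback.of_hasPullback f g)
  have hvg : v' ≫ g = Limits.pullback.snd g v ≫ v := Limits.pullback.condition
  rw [hvg] at sq0
  have sq1 := IsPullback.of_right' sq0 (IsPullback.of_hasPullback f v)
  have h1 := IsUnivOpenAt.isOpenAt (h _ (by
    rw [← Scheme.Hom.comp_apply, IsPullback.lift_fst, Scheme.Hom.comp_apply, hz1]; exact hx')) sq1 z rfl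
  have h2 : (Limits.pullback.fst f' v').base ⁻¹' U ∈ 𝓝 z :=
    (Scheme.Hom.continuous _).continuousAt (hz1.symm ▸ hU)
  refine Filter.mem_of_superset (hz2 ▸ h1 _ h2) ?_
  rintro _ ⟨w, hw, rfl⟩
  exact ⟨_, hw, by rw [← Scheme.Hom.comp_apply, ← Scheme.Hom.comp_apply, Limits.pullback.condition]⟩

end UOpenLib
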