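import Mathlib
import Groth.Prelude.Def_EGA43
import Groth.Agent.UOpenLib.Basic
import Groth.Agent.DvrDom.Descent
import Groth.Agent.DvrDom.Scheme
import Groth.Agent.S3404

/-!
# Universal openness at a point: tests by generizations and discrete valuation rings
-/

set_option autoImplicit false

universe u

open CategoryTheory Limits AlgebraicGeometry Topology

namespace UOpenLib

theorem locallyOfFinitePresentation_of_isLocallyNoetherian {X Y : Scheme.{u}} [IsLocallyNoetherian Y]
    (f : X ⟶ Y) [LocallyOfFiniteType f] : LocallyOfFinitePresentation f := by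
  rw [HasRingHomProperty.iff_appLE (P := @LocallyOfFinitePresentation)]
  intro U V e
  have : IsNoetherianRing Γ(Y, U) := IsLocallyNoetherian.component_noetherian U
  exact RingHom.FinitePresentation.of_finiteType.mp (f.finiteType_appLE U.2 V.2 e)

/-- Generizations lift after base change along `g`, at points over `x`. -/
def GenLift {X Y Y' : Scheme.{u}} (f : X ⟶ Y) (x : X) (g : Y' ⟶ Y) : Prop :=
  ∀ (x' : ↥(pullback f g)), (pullback.fst f g).base x' = x → ∀ y₁ : Y',
    y₁ ⤳ (pullback.snd f g).base x' → ∃ z, z ⤳ x' ∧ (pullback.snd f g).base z = y₁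

theorem genLift_of_isUnivOpenAt {X Y Y' : Scheme.{u}} {f : X ⟶ Y} {x : X}
    (h : EGA43.IsUnivOpenAt f x) (g : Y' ⟶ Y) : GenLift f x g :=
  fun x' hx' y₁ hy₁ ↦ (Groth.Agent.S3404.result (pullback.snd f g) x').1 (h Y' g x' hx') y₁ hy₁

/-- For morphisms locally of finite presentation, universal openness at a point is lifting of
generizations after every base change. -/
theorem isUnivOpenAt_iff_genLift {X Y : Scheme.{u}} (f : X ⟶ Y) [LocallyOfFinitePresentation f]
    (x : X) : EGA43.IsUnivOpenAt f x ↔ ∀ (Y' : Scheme.{u}) (g : Y' ⟶ Y), GenLift f x g :=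
  ⟨fun h _ g ↦ genLift_of_isUnivOpenAt h g,
    fun h Y' g x' hx' ↦ ((Groth.Agent.S3404.result (pullback.snd f g) x').2 inferInstance).mpr
      (h Y' g x' hx')⟩

/-- Over a noetherian affine base, openness after any affine base change follows from lifting of
generizations over finitely generated algebras. -/
theorem isOpenAt_bc {X : Scheme.{u}} {B : Type u} [CommRing B] [IsNoetherianRing B]
    (f : X ⟶ Spec (CommRingCat.of B)) [LocallyOfFiniteType f] {x : X}
    (H : ∀ (D : Type u) [CommRing D] [Algebra B D] [Algebra.FiniteType B D],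
      GenLift f x (Spec.map (CommRingCat.ofHom (algebraMap B D))))
    (C : Type u) [CommRing C] [Algebra B C] (q : DvrDomLib.Descent.bc f C)
    (hq : (pullback.fst f _).base q = x) :
    EGA43.IsOpenAt (pullback.snd f (Spec.map (CommRingCat.ofHom (algebraMap B C)))).base q := by
  intro W hW
  obtain ⟨O, hOW, hO, hqO⟩ := mem_nhds_iff.mp hW
  obtain ⟨s, V, hqV, hV⟩ := DvrDomLib.Descent.exists_local_descent f q O hO hqO
  let S : Subalgebra B C := Algebra.adjoin B (s : Set C)
  have : Algebra.FiniteType B S := S.fg_iff_finiteType.mp (Subalgebra.fg_adjoin_finset s)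
  have : IsNoetherianRing S := Algebra.FiniteType.isNoetherianRing B S
  let t := DvrDomLib.Descent.trans f S.val
  let p := pullback.snd f (Spec.map (CommRingCat.ofHom (algebraMap B S)))
  have : LocallyOfFinitePresentation p := locallyOfFinitePresentation_of_isLocallyNoetherian p
  have ht : (pullback.fst f (Spec.map (CommRingCat.ofHom (algebraMap B S)))).base (t q) = x := by
    rw [← Scheme.Hom.comp_apply, DvrDomLib.Descent.trans_fst]; exact hq
  have hopen : EGA43.IsOpenAt p.base (t q) :=
    ((Groth.Agent.S3404.result p (t q)).2 inferInstance).mpr (H S (t q) ht)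
  have hN : p.base '' (V : Set _) ∈ 𝓝 (p.base (t q)) := hopen _ (V.isOpen.mem_nhds hqV)
  have hj : p.base (t q) = (Spec.map (CommRingCat.ofHom S.val.toRingHom)).base
      ((pullback.snd f (Spec.map (CommRingCat.ofHom (algebraMap B C)))).base q) := by
    rw [← Scheme.Hom.comp_apply, ← Scheme.Hom.comp_apply, DvrDomLib.Descent.trans_snd]
  rw [hj] at hN
  refine Filter.mem_of_superset ((Spec.map (CommRingCat.ofHom S.val.toRingHom)).continuous.continuousAt hN) ?_
  rintro c ⟨v, hv, hvc⟩
  obtain ⟨q', hq1, hq2⟩ := image_fst_snd (DvrDomLib.Descent.isPullback_trans f S.val) v c hvc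
  exact ⟨q', hOW (hV q' (by rw [hq1]; exact hv)), hq2⟩

/-- Over a locally noetherian base, it suffices to lift generizations after base change to locally
noetherian schemes. -/
theorem isUnivOpenAt_of_genLift {X Y : Scheme.{u}} [IsLocallyNoetherian Y] (f : X ⟶ Y)
    [LocallyOfFiniteType f] {x : X}
    (H : ∀ (Y' : Scheme.{u}) (g : Y' ⟶ Y) [IsLocallyNoetherian Y'], GenLift f x g) :
    EGA43.IsUnivOpenAt f x := by
  intro Y' g x' hx'
  obtain ⟨_, ⟨U, hU, rfl⟩, hyU, -⟩ :=
    Y.isBasis_affineOpens.exists_subset_of_mem_open (Set.mem_univ (f.base x)) isOpen_univ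
  have hU : IsAffineOpen U := hU
  have : IsNoetherianRing Γ(Y, U) := IsLocallyNoetherian.component_noetherian ⟨U, hU⟩
  have hy'U : (pullback.snd f g).base x' ∈ g ⁻¹ᵁ U := by
    show g.base ((pullback.snd f g).base x') ∈ U
    rw [← Scheme.Hom.comp_apply, ← pullback.condition, Scheme.Hom.comp_apply, hx']
    exact hyU
  obtain ⟨_, ⟨C, hC, rfl⟩, hy'C, hCU⟩ :=
    Y'.isBasis_affineOpens.exists_subset_of_mem_open hy'U (g ⁻¹ᵁ U).isOpen
  have hC : IsAffineOpen C := hC
  have hr : Set.range (hC.fromSpec ≫ g) ⊆ Set.range hU.fromSpec := by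
    rw [hU.range_fromSpec]
    rintro _ ⟨t, rfl⟩
    exact hCU (hC.range_fromSpec.le ⟨t, rfl⟩)
  obtain ⟨φ, hφ⟩ := Spec.map_surjective (IsOpenImmersion.lift hU.fromSpec _ hr)
  have hφ' : Spec.map φ ≫ hU.fromSpec = hC.fromSpec ≫ g := by
    rw [hφ, IsOpenImmersion.lift_fac]
  let fU := pullback.snd f hU.fromSpec
  letI : Algebra Γ(Y, U) Γ(Y', C) := φ.hom.toAlgebra
  have sq : IsPullback (pullback.fst fU (Spec.map φ) ≫ pullback.fst f hU.fromSpec)
      (pullback.snd fU (Spec.map φ)) f (hC.fromSpec ≫ g) := by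
    rw [← hφ']
    exact (IsPullback.of_hasPullback fU (Spec.map φ)).paste_horiz (IsPullback.of_hasPullback f _)
  let j := pullback.lift (f := f) (g := g) (pullback.fst fU (Spec.map φ) ≫ pullback.fst f hU.fromSpec)
    (pullback.snd fU (Spec.map φ) ≫ hC.fromSpec) (by rw [Category.assoc]; exact sq.w)
  have sq' : IsPullback j (pullback.snd fU (Spec.map φ)) (pullback.snd f g) hC.fromSpec :=
    IsPullback.of_right (by rw [pullback.lift_fst]; exact sq) (pullback.lift_snd _ _ _)
      (IsPullback.of_hasPullback f g)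
  obtain ⟨y₀, hy₀⟩ : (pullback.snd f g).base x' ∈ Set.range hC.fromSpec := by
    rw [hC.range_fromSpec]; exact hy'C
  obtain ⟨q, hq1, hq2⟩ := image_fst_snd sq' x' y₀ hy₀.symm
  have hqx : (pullback.fst f hU.fromSpec).base ((pullback.fst fU (Spec.map φ)).base q) = x := by
    rw [← Scheme.Hom.comp_apply, show pullback.fst fU (Spec.map φ) ≫ pullback.fst f hU.fromSpec =
      j ≫ pullback.fst f g from (pullback.lift_fst _ _ _).symm, Scheme.Hom.comp_apply, hq1, hx']
  have hopen : EGA43.IsOpenAt (pullback.snd fU (Spec.map φ)).base q := by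
    refine isOpenAt_bc (B := Γ(Y, U)) fU
      (x := (pullback.fst fU (Spec.map φ)).base q) (fun D _ _ _ ↦ ?_) Γ(Y', C) q rfl
    have : IsNoetherianRing D := Algebra.FiniteType.isNoetherianRing Γ(Y, U) D
    intro p hp y₁ hy₁
    have sqD := (IsPullback.of_hasPullback fU (Spec.map (CommRingCat.ofHom (algebraMap Γ(Y, U) D)))).paste_horiz
      (IsPullback.of_hasPullback f hU.fromSpec)
    obtain ⟨z, hz, hzy⟩ := H _ (Spec.map (CommRingCat.ofHom (algebraMap Γ(Y, U) D)) ≫ hU.fromSpec)
      (sqD.isoPullback.hom.base p) (by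
        rw [← Scheme.Hom.comp_apply, sqD.isoPullback_hom_fst, Scheme.Hom.comp_apply, hp, hqx]) y₁ (by
        rw [← Scheme.Hom.comp_apply, sqD.isoPullback_hom_snd]; exact hy₁)
    refine ⟨sqD.isoPullback.inv.base z, ?_, ?_⟩
    · have := hz.map sqD.isoPullback.inv.continuous
      rw [← Scheme.Hom.comp_apply, Iso.hom_inv_id] at this
      simpa using this
    · rw [← Scheme.Hom.comp_apply, sqD.isoPullback_inv_snd]; exact hzy
  subst hq1
  refine IsOpenAt.of_comp (f := j.base) (g := (pullback.snd f g).base) j.continuous.continuousAt ?_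
  have e : (⇑(pullback.snd f g).base ∘ ⇑j.base) =
      ⇑hC.fromSpec.base ∘ ⇑(pullback.snd fU (Spec.map φ)).base := funext fun w ↦ by
    show (pullback.snd f g).base (j.base w) = hC.fromSpec.base ((pullback.snd fU (Spec.map φ)).base w)
    rw [← Scheme.Hom.comp_apply, ← Scheme.Hom.comp_apply, sq'.w]
  rw [e]
  exact IsOpenAt.comp (fun N hN ↦ hC.fromSpec.isOpenEmbedding.isOpenMap.image_mem_nhds hN) hopen

theorem eq_closedPoint_or_eq_bot {A : Type u} [CommRing A] [IsDomain A] [IsDiscreteValuationRing A]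
    (p : PrimeSpectrum A) : p = IsLocalRing.closedPoint A ∨ p = ⟨⊥, Ideal.isPrime_bot⟩ := by
  by_cases hp : p.asIdeal = ⊥
  · exact Or.inr (PrimeSpectrum.ext hp)
  · exact Or.inl (PrimeSpectrum.ext (IsLocalRing.eq_maximalIdeal
      (IsPrime.to_maximal_ideal hp)))

/-- The discrete valuation ring criterion, with the generization over the generic point. -/
theorem isUnivOpenAt_iff_dvr {X Y : Scheme.{u}} [IsLocallyNoetherian Y] (f : X ⟶ Y)
    [LocallyOfFiniteType f] (x : X) :
    EGA43.IsUnivOpenAt f x ↔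
      ∀ (A : Type u) [CommRing A] [IsDomain A] [IsDiscreteValuationRing A]
        (g : Spec (CommRingCat.of A) ⟶ Y), g.base (IsLocalRing.closedPoint A) = f.base x →
        ∀ x' : ↥(pullback f g), (pullback.fst f g).base x' = x →
          (pullback.snd f g).base x' = IsLocalRing.closedPoint A →
          ∃ z' : ↥(pullback f g), z' ⤳ x' ∧ (pullback.snd f g).base z' ≠ IsLocalRing.closedPoint A := by
  constructor
  · intro h A _ _ _ g _ x' hx' hcl
    obtain ⟨z, hz, hzy⟩ := genLift_of_isUnivOpenAt h g x' hx' (⟨⊥, Ideal.isPrime_bot⟩ : PrimeSpectrum A)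
      (by rw [hcl]; exact (PrimeSpectrum.le_iff_specializes _ _).mp bot_le)
    refine ⟨z, hz, fun e ↦ IsDiscreteValuationRing.not_a_field A ?_⟩
    exact (congrArg PrimeSpectrum.asIdeal (hzy.symm.trans e)).symm
  · intro H
    refine isUnivOpenAt_of_genLift f fun Y' g _ x' hx' y₁ hy₁ ↦ ?_
    by_cases hne : (pullback.snd f g).base x' = y₁
    · exact ⟨x', specializes_rfl, hne⟩
    obtain ⟨A, h, hA, hcl, hgen⟩ := DvrDomLib.exists_dvr_through_specialization (𝟙 Y') y₁
      ((pullback.snd f g).base x') hy₁ hne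
    have hclosed : (h ≫ g).base (IsLocalRing.closedPoint A) = f.base x := by
      rw [Scheme.Hom.comp_apply, hcl, ← hx', ← Scheme.Hom.comp_apply, ← Scheme.Hom.comp_apply,
        pullback.condition]
    obtain ⟨w, hw1, hw2⟩ := Scheme.Pullback.exists_preimage_pullback (f := pullback.snd f g) (g := h)
      x' (IsLocalRing.closedPoint A) hcl.symm
    have sq := (IsPullback.of_hasPullback (pullback.snd f g) h).paste_horiz
      (IsPullback.of_hasPullback f g)
    obtain ⟨z', hz', hzne⟩ := H A (h ≫ g) hclosed (sq.isoPullback.hom.base w)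
      (by rw [← Scheme.Hom.comp_apply, sq.isoPullback_hom_fst, Scheme.Hom.comp_apply, hw1, hx'])
      (by rw [← Scheme.Hom.comp_apply, sq.isoPullback_hom_snd]; exact hw2)
    let z := sq.isoPullback.inv.base z'
    have hzw : z ⤳ w := by
      have := hz'.map sq.isoPullback.inv.continuous
      rw [← Scheme.Hom.comp_apply, Iso.hom_inv_id] at this
      simpa using this
    refine ⟨(pullback.fst (pullback.snd f g) h).base z, ?_, ?_⟩
    · rw [← hw1]
      exact hzw.map (pullback.fst (pullback.snd f g) h).continuous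
    · have hz0 : (pullback.snd (pullback.snd f g) h).base z = (⟨⊥, Ideal.isPrime_bot⟩ : PrimeSpectrum A) := by
        rw [← Scheme.Hom.comp_apply, sq.isoPullback_inv_snd]
        exact (eq_closedPoint_or_eq_bot _).resolve_left hzne
      have hb : (Spec.map (CommRingCat.ofHom A.subtype)).base (IsLocalRing.closedPoint _) =
          (⟨⊥, Ideal.isPrime_bot⟩ : PrimeSpectrum A) := by
        apply PrimeSpectrum.ext
        show Ideal.comap A.subtype (IsLocalRing.maximalIdeal _) = ⊥
        rw [IsLocalRing.isField_iff_maximalIdeal_eq.mp (Field.toIsField _), ← RingHom.ker_eq_comap_bot,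
          (RingHom.injective_iff_ker_eq_bot A.subtype).mp Subtype.val_injective]
      rw [← Scheme.Hom.comp_apply, pullback.condition, Scheme.Hom.comp_apply, hz0, ← hb,
        ← Scheme.Hom.comp_apply, hgen, Category.comp_id, Scheme.fromSpecResidueField_apply]

end UOpenLib
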