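import Mathlib
import Groth.Agent.FibDimLib.QFScheme
import Groth.Agent.FibDimLib.Local
import Groth.Agent.FibDimLib.QFChain
import Groth.Agent.FibDimLib.QFGeneric

/-!
# Dimensions of closures in fibres and maps quasi-finite over affine space
-/

set_option autoImplicit false

universe u

open CategoryTheory AlgebraicGeometry TopologicalSpace Topology MvPolynomial

namespace UOpenLib

variable {X Y : Scheme.{u}} (g : X ⟶ Y) [LocallyOfFiniteType g]

theorem lft_fiberToSpec (y : Y) : LocallyOfFiniteType (g.fiberToSpecResidueField y) :=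
  MorphismProperty.pullback_snd _ _ inferInstance

/-- The dimension of the closure of a point in its fibre. -/
noncomputable def fibreClosureDim (x : X) : WithBot ℕ∞ :=
  topologicalKrullDim (closure ({g.asFiber x} : Set (g.fiber (g.base x))))

omit [LocallyOfFiniteType g] in
/-- A maximal point of a fibre is the generic point of a component of the fibre. -/
theorem closure_asFiber_mem {x : X}
    (hmax : ∀ x' : X, g.base x' = g.base x → x ∈ closure {x'} → x' = x) :
    closure {g.asFiber x} ∈ irreducibleComponents (g.fiber (g.base x) : Type u) := by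
  refine FibDimLib.closure_mem_irreducibleComponents_of_max fun z hz ↦ ?_
  have h1 := hz.map (g.fiberι (g.base x)).continuous
  rw [g.fiberι_asFiber] at h1
  have h2 : g.base ((g.fiberι (g.base x)).base z) = g.base x := by
    have h := Set.mem_range_self (f := (g.fiberι (g.base x)).base) z
    rw [g.range_fiberι] at h
    exact h
  exact (g.fiberι (g.base x)).isEmbedding.injective
    ((hmax _ h2 h1.mem_closure).trans (g.fiberι_asFiber x).symm)

omit [LocallyOfFiniteType g] in
/-- Maximal points of fibres from components of fibres. -/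
theorem max_of_closure_mem {y : Y} {z : g.fiber y}
    (hz : closure {z} ∈ irreducibleComponents (g.fiber y : Type u)) :
    ∀ x' : X, g.base x' = g.base ((g.fiberι y).base z) →
      (g.fiberι y).base z ∈ closure {x'} → x' = (g.fiberι y).base z := by
  intro x' hx' hsp
  have hy : ∀ w, g.base ((g.fiberι y).base w) = y := fun w ↦ by
    have h := Set.mem_range_self (f := (g.fiberι y).base) w
    rw [g.range_fiberι] at h
    exact h
  obtain ⟨w, rfl⟩ : x' ∈ Set.range (g.fiberι y).base := by
    rw [g.range_fiberι]; exact hx'.trans (hy z)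
  have : w ⤳ z := (g.fiberι y).isEmbedding.isInducing.specializes_iff.mp
    (specializes_iff_mem_closure.mpr hsp)
  rw [FibDimLib.eq_of_specializes_of_closure_mem hz this]

/-- The closure of a point in its fibre, as a subspace. -/
theorem fibreClosureDim_eq_inter (x : X) :
    fibreClosureDim g x = topologicalKrullDim ↥(closure ({x} : Set X) ∩ g.base ⁻¹' {g.base x}) := by
  let ι := g.fiberι (g.base x)
  have h : ι.base '' closure {g.asFiber x} = closure {x} ∩ g.base ⁻¹' {g.base x} := by
    rw [ι.isEmbedding.isInducing.closure_eq_preimage_closure_image, Set.image_singleton,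
      g.fiberι_asFiber, Set.image_preimage_eq_inter_range, g.range_fiberι]
  let e := (ι.isEmbedding.homeomorphImage (closure {g.asFiber x})).trans (Homeomorph.setCongr h)
  exact IsHomeomorph.topologicalKrullDim_eq e e.isHomeomorph

theorem exists_fibreClosureDim_eq_nat (x : X) : ∃ n : ℕ, fibreClosureDim g x = n := by
  have := lft_fiberToSpec g (g.base x)
  have h : LocallyOfFiniteType (Over.mk (g.fiberToSpecResidueField (g.base x))).hom := this
  obtain ⟨s, hs, -⟩ := WeilLib.pdim_eq_trdeg (k := Y.residueField (g.base x))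
    (Over.mk (g.fiberToSpecResidueField (g.base x))) (g.asFiber x)
  exact ⟨s, hs⟩

theorem exists_fibreDimAt_eq_nat (x : X) : ∃ n : ℕ, FlatMor.fibreDimAt g x = n :=
  @FibDimLib.exists_localDim_eq_nat _ _ _ _ (lft_fiberToSpec g _) _

theorem fibreDimAt_eq_of_max {x : X}
    (hmax : ∀ x' : X, g.base x' = g.base x → x ∈ closure {x'} → x' = x) :
    FlatMor.fibreDimAt g x = fibreClosureDim g x :=
  @FibDimLib.localDim_eq_of_generic _ _ _ _ (lft_fiberToSpec g _) _ (closure_asFiber_mem g hmax)

/-- Some maximal point of the fibre through `x` realises the dimension of the fibre at `x`. -/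
theorem exists_max_fibreDimAt (x : X) : ∃ x₀ : X, g.base x₀ = g.base x ∧ x₀ ⤳ x ∧
    (∀ x' : X, g.base x' = g.base x₀ → x₀ ∈ closure {x'} → x' = x₀) ∧
      fibreClosureDim g x₀ = FlatMor.fibreDimAt g x := by
  obtain ⟨z, hz, hzx, hd⟩ :=
    @FibDimLib.exists_generic_localDim _ _ _ _ (lft_fiberToSpec g _) (g.asFiber x)
  let ι := g.fiberι (g.base x)
  have hg : g.base (ι.base z) = g.base x := by
    have h := Set.mem_range_self (f := ι.base) z
    rw [g.range_fiberι] at h
    exact h
  refine ⟨ι.base z, hg, ?_, max_of_closure_mem g hz, ?_⟩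
  · have := hzx.map ι.continuous
    rwa [g.fiberι_asFiber] at this
  · rw [fibreClosureDim_eq_inter, hg, FlatMor.fibreDimAt, hd]
    have h : ι.base '' closure {z} = closure {ι.base z} ∩ g.base ⁻¹' {g.base x} := by
      rw [ι.isEmbedding.isInducing.closure_eq_preimage_closure_image, Set.image_singleton,
        Set.image_preimage_eq_inter_range, g.range_fiberι]
    let e := (ι.isEmbedding.homeomorphImage (closure {z})).trans (Homeomorph.setCongr h)
    exact (IsHomeomorph.topologicalKrullDim_eq e e.isHomeomorph).symm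

section Chart

variable {V : Y.Opens} (hV : IsAffineOpen V) {U : X.Opens} (hU : IsAffineOpen U) (eUV : U ≤ g ⁻¹ᵁ V)
  {e : ℕ} (φ : MvPolynomial (Fin e) Γ(Y, V) →+* Γ(X, U))
  (hφ : φ.comp C = (g.appLE V U eUV).hom)

omit [LocallyOfFiniteType g] in
theorem primeIdealOf_le_iff {a b : X} (ha : a ∈ U) (hb : b ∈ U) :
    hU.primeIdealOf ⟨a, ha⟩ ≤ hU.primeIdealOf ⟨b, hb⟩ ↔ a ⤳ b := by
  refine (PrimeSpectrum.le_iff_specializes _ _).trans
    (hU.fromSpec.isOpenEmbedding.isInducing.specializes_iff.symm.trans ?_)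
  rw [hU.fromSpec_primeIdealOf, hU.fromSpec_primeIdealOf]

include hφ in
omit [LocallyOfFiniteType g] in
theorem comap_primeIdealOf (z : X) (hz : z ∈ U) :
    PrimeSpectrum.comap (φ.comp C) (hU.primeIdealOf ⟨z, hz⟩) = hV.primeIdealOf ⟨g.base z, eUV hz⟩ := by
  rw [hφ]
  exact IsAffineOpen.comap_primeIdealOf_appLE V hV U hU eUV hz

omit [LocallyOfFiniteType g] in
theorem exists_point_of_prime (q : PrimeSpectrum Γ(X, U)) :
    ∃ (z : X) (hz : z ∈ U), hU.primeIdealOf ⟨z, hz⟩ = q := by
  have hz : hU.fromSpec.base q ∈ U := by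
    have h := Set.mem_range_self (f := hU.fromSpec.base) q
    rwa [hU.range_fromSpec] at h
  exact ⟨_, hz, hU.fromSpec.isOpenEmbedding.injective (hU.fromSpec_primeIdealOf ⟨_, hz⟩)⟩

/-- Chains in the open part of the fibre below a point. -/
theorem exists_prime_chain {ζ : X} (hζ : ζ ∈ U) {n : ℕ}
    (hn : (n : WithBot ℕ∞) ≤ fibreClosureDim g ζ) :
    ∃ c : Fin (n + 1) → X, Function.Injective c ∧ (∀ i j, i ≤ j → c i ⤳ c j) ∧
      ∀ i, c i ∈ U ∧ g.base (c i) = g.base ζ ∧ ζ ⤳ c i := by
  let ι := g.fiberι (g.base ζ)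
  let W := ι ⁻¹ᵁ U
  have hξ : g.asFiber ζ ∈ W := show ι.base (g.asFiber ζ) ∈ U by rw [g.fiberι_asFiber]; exact hζ
  let F := Over.mk (g.fiberToSpecResidueField (g.base ζ))
  have : LocallyOfFiniteType F.hom := lft_fiberToSpec g _
  have hd := hn.trans (FibDimLib.topologicalKrullDim_closure_open (k := Y.residueField (g.base ζ))
    F W ⟨g.asFiber ζ, hξ⟩).ge
  have : QuasiSober ↥W := inferInstanceAs (QuasiSober (W : Scheme.{u}))
  have : QuasiSober (closure ({(⟨g.asFiber ζ, hξ⟩ : W)} : Set W)) :=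
    isClosed_closure.isClosedEmbedding_subtypeVal.quasiSober
  obtain ⟨c, hc, hcs⟩ := FibDimLib.exists_specChain hd
  refine ⟨fun i ↦ ι.base (c i).1.1,
    fun i j he ↦ hc (Subtype.ext (Subtype.ext (ι.isEmbedding.injective he))),
    fun i j hij ↦ (((hcs i j hij).map continuous_subtype_val).map continuous_subtype_val).map
      ι.continuous, fun i ↦ ⟨(c i).1.2, ?_, ?_⟩⟩
  · have h := Set.mem_range_self (f := ι.base) (c i).1.1
    rw [g.range_fiberι] at h
    exact h
  · have := ((specializes_iff_mem_closure.mpr (c i).2).map continuous_subtype_val).map ι.continuous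
    rwa [g.fiberι_asFiber] at this

include hφ in
/-- Large closures map to generic points. -/
theorem comap_eq_of_le_fibreClosureDim (hqf : φ.QuasiFinite) {ζ : X} (hζ : ζ ∈ U)
    (hn : (e : WithBot ℕ∞) ≤ fibreClosureDim g ζ) :
    (hU.primeIdealOf ⟨ζ, hζ⟩).asIdeal.comap φ = (hV.primeIdealOf ⟨g.base ζ, eUV hζ⟩).asIdeal.map C := by
  obtain ⟨c, hc, hcs, hcU⟩ := exists_prime_chain g hζ hn
  refine FibDimLib.comap_eq_map_C_of_chain φ hqf _ (fun i ↦ hU.primeIdealOf ⟨c i, (hcU i).1⟩)
    (Monotone.strictMono_of_injective (fun i j hij ↦ (primeIdealOf_le_iff hU _ _).mpr (hcs i j hij))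
      fun i j hij ↦ hc ?_) (fun i ↦ ?_) _ ((primeIdealOf_le_iff hU _ _).mpr (hcU 0).2.2)
    (comap_primeIdealOf g hV hU eUV φ hφ ζ hζ)
  · have := congrArg hU.fromSpec.base hij
    simpa only [hU.fromSpec_primeIdealOf] using this
  · rw [comap_primeIdealOf g hV hU eUV φ hφ]
    exact congrArg hV.primeIdealOf (Subtype.ext (hcU i).2.1)

include hφ in
/-- Generic points have large closures. -/
theorem le_fibreClosureDim_of_comap_eq (hft : φ.FiniteType) {ζ : X} (hζ : ζ ∈ U)
    (h : (hU.primeIdealOf ⟨ζ, hζ⟩).asIdeal.comap φ = (hV.primeIdealOf ⟨g.base ζ, eUV hζ⟩).asIdeal.map C) :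
    (e : WithBot ℕ∞) ≤ fibreClosureDim g ζ := by
  obtain ⟨c, hc, hcp, hcz⟩ := FibDimLib.exists_chain_of_comap_eq_map_C φ hft _ _
    (comap_primeIdealOf g hV hU eUV φ hφ ζ hζ) h
  choose z hz hzc using fun i ↦ exists_point_of_prime hU (c i)
  have hgz : ∀ i, g.base (z i) = g.base ζ := fun i ↦ by
    have h1 := comap_primeIdealOf g hV hU eUV φ hφ (z i) (hz i)
    rw [hzc, hcp] at h1
    have := congrArg hV.fromSpec.base h1
    rwa [hV.fromSpec_primeIdealOf, hV.fromSpec_primeIdealOf, eq_comm] at this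
  let w (i : Fin (e + 1)) : g.fiber (g.base ζ) := (g.fiberHomeo (g.base ζ)).symm ⟨z i, hgz i⟩
  have hw : ∀ i, (g.fiberι (g.base ζ)).base (w i) = z i := fun i ↦ g.fiberι_fiberHomeo_symm _ _
  have hsp : ∀ {a b}, (g.fiberι (g.base ζ)).base a ⤳ (g.fiberι (g.base ζ)).base b → a ⤳ b :=
    fun h ↦ (g.fiberι (g.base ζ)).isEmbedding.isInducing.specializes_iff.mp h
  have hmem : ∀ i, w i ∈ closure ({g.asFiber ζ} : Set (g.fiber (g.base ζ))) := fun i ↦ by
    refine (hsp ?_).mem_closure
    rw [hw, g.fiberι_asFiber, ← primeIdealOf_le_iff hU hζ (hz i), hzc]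
    exact hcz i
  have : QuasiSober (closure ({g.asFiber ζ} : Set (g.fiber (g.base ζ)))) :=
    isClosed_closure.isClosedEmbedding_subtypeVal.quasiSober
  refine FibDimLib.IsSpecChain.le_topologicalKrullDim (c := fun i ↦
    (⟨w i, hmem i⟩ : closure ({g.asFiber ζ} : Set (g.fiber (g.base ζ))))) ⟨fun i j he ↦ ?_, fun i j hij ↦ ?_⟩
  · have hwij : w i = w j := congrArg Subtype.val he
    have hzij : z i = z j := (hw i).symm.trans ((congrArg _ hwij).trans (hw j))
    apply hc.injective
    rw [← hzc i, ← hzc j]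
    exact congrArg hU.primeIdealOf (Subtype.ext hzij)
  · refine IsInducing.subtypeVal.specializes_iff.mp (hsp ?_)
    rw [hw, hw, ← primeIdealOf_le_iff hU (hz i) (hz j), hzc, hzc]
    exact hc.monotone hij

include hV hU hφ in
/-- Closures in fibres meeting the chart have dimension at most `e`. -/
theorem fibreClosureDim_le (hqf : φ.QuasiFinite) {ζ : X} (hζ : ζ ∈ U) : fibreClosureDim g ζ ≤ e := by
  obtain ⟨s, hs⟩ := exists_fibreClosureDim_eq_nat g ζ
  rw [hs]
  by_contra hlt
  have hlt' : e + 1 ≤ s := by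
    rw [not_le] at hlt
    exact_mod_cast hlt
  obtain ⟨c, hc, hcs, hcU⟩ := exists_prime_chain g hζ (n := e + 1)
    (hs ▸ (by exact_mod_cast hlt'))
  let Q (i : Fin (e + 2)) : PrimeSpectrum Γ(X, U) := hU.primeIdealOf ⟨c i, (hcU i).1⟩
  have hQ : StrictMono Q := Monotone.strictMono_of_injective
    (fun i j hij ↦ (primeIdealOf_le_iff hU _ _).mpr (hcs i j hij)) fun i j hij ↦ hc (by
      have := congrArg hU.fromSpec.base hij
      simpa only [Q, hU.fromSpec_primeIdealOf] using this)
  let p := hV.primeIdealOf ⟨g.base ζ, eUV hζ⟩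
  have hQp : ∀ i, PrimeSpectrum.comap (φ.comp C) (Q i) = p := fun i ↦ by
    rw [comap_primeIdealOf g hV hU eUV φ hφ]
    exact congrArg hV.primeIdealOf (Subtype.ext (hcU i).2.1)
  have h0 := FibDimLib.comap_eq_map_C_of_chain φ hqf p (fun i ↦ Q i.succ)
    (hQ.comp Fin.strictMono_succ) (fun i ↦ hQp _) (Q 0) (hQ.monotone (Fin.zero_le _)) (hQp _)
  have h1 := FibDimLib.comap_eq_map_C_of_chain φ hqf p (fun i ↦ Q i.succ)
    (hQ.comp Fin.strictMono_succ) (fun i ↦ hQp _) (Q 1) (le_of_eq (congrArg Q Fin.succ_zero_eq_one.symm)) (hQp _)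
  letI := φ.toAlgebra
  have : Algebra.QuasiFinite (MvPolynomial (Fin e) Γ(Y, V)) Γ(X, U) := hqf
  have hlt01 : Q 0 < Q 1 := hQ (by simp)
  exact hlt01.ne (PrimeSpectrum.ext (Algebra.QuasiFinite.eq_of_le_of_under_eq
    (R := MvPolynomial (Fin e) Γ(Y, V)) _ _ hlt01.le (h0.trans h1.symm)))

end Chart

/-- Semicontinuity: closures in fibres of generizations are no larger than the fibre at the point. -/
theorem fibreClosureDim_le_fibreDimAt {ζ x : X} (h : ζ ⤳ x) :
    fibreClosureDim g ζ ≤ FlatMor.fibreDimAt g x := by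
  obtain ⟨d, hd⟩ := exists_fibreDimAt_eq_nat g x
  obtain ⟨_, ⟨V, hV, rfl⟩, hxV, -⟩ :=
    Y.isBasis_affineOpens.exists_subset_of_mem_open (Set.mem_univ (g.base x)) isOpen_univ
  obtain ⟨U, hU, hxU, eUV, φ, hφ, -, hqf⟩ := FibDimLib.exists_qf_affine_nhd g x hV hxV d hd
  rw [hd]
  exact fibreClosureDim_le g hV hU eUV φ hφ hqf (h.mem_open U.isOpen hxU)

end UOpenLib
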