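import Mathlib
import Groth.Agent.UOpenLib.Basic
import Groth.Agent.DvrDom.Descent

/-!
# Integral extensions of normal domains are universally open
-/

set_option autoImplicit false

universe u

open CategoryTheory Limits AlgebraicGeometry Topology

namespace UOpenLib

theorem isUnivOpenAt_of_universallyOpen' {X Y : Scheme.{u}} (f : X ⟶ Y) [UniversallyOpen f] (x : X) :
    EGA43.IsUnivOpenAt f x := by
  intro Y' g x' _ U hU
  have : UniversallyOpen (pullback.snd f g) := MorphismProperty.pullback_snd _ _ ‹_›
  exact (pullback.snd f g).isOpenMap.image_mem_nhds hU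

theorem isIntegrallyClosed_mvPolynomial_fin (A : Type u) [CommRing A] [IsDomain A] [IsIntegrallyClosed A] :
    ∀ n : ℕ, IsIntegrallyClosed (MvPolynomial (Fin n) A) := by
  intro n
  induction n with
  | zero => exact IsIntegrallyClosed.of_equiv (MvPolynomial.isEmptyAlgEquiv A (Fin 0)).toRingEquiv.symm
  | succ n ih =>
    exact IsIntegrallyClosed.of_equiv (MvPolynomial.finSuccEquiv A n).toRingEquiv.symm

/-- An integral extension of a normal domain by a domain gives an open map on spectra. -/
theorem isOpenMap_comap_of_isIntegral {R T : Type u} [CommRing R] [IsDomain R] [IsIntegrallyClosed R]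
    [CommRing T] [IsDomain T] [Algebra R T] [Algebra.IsIntegral R T]
    (hinj : Function.Injective (algebraMap R T)) :
    IsOpenMap (PrimeSpectrum.comap (algebraMap R T)) := by
  have : Module.IsTorsionFree R T := Module.isTorsionFree_iff_algebraMap_injective.mpr hinj
  rw [PrimeSpectrum.isTopologicalBasis_basic_opens.isOpenMap_iff]
  rintro _ ⟨e, rfl⟩
  have hx : IsIntegral R e := Algebra.IsIntegral.isIntegral e
  let E := Algebra.adjoin R ({e} : Set T)
  let e₀ : E := ⟨e, Algebra.subset_adjoin rfl⟩
  have : Module.Free R E := Module.Free.of_basis (Algebra.adjoin.powerBasis' hx).basis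
  have : Module.Finite R E := (Algebra.adjoin.powerBasis' hx).finite
  have : Module.FinitePresentation R E := Module.finitePresentation_of_projective R E
  have : Algebra.FinitePresentation R E := Algebra.FinitePresentation.of_finitePresentation R E
  have : Module.Flat R E := inferInstance
  have hinjE : Function.Injective (algebraMap E T) := Subtype.val_injective
  have : Algebra.IsIntegral E T := Algebra.IsIntegral.tower_top R
  have : FaithfulSMul E T := (faithfulSMul_iff_algebraMap_injective E T).mpr hinjE
  have hsurj := Algebra.IsIntegral.comap_surjective E T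
  have hopen := PrimeSpectrum.isOpenMap_comap_of_hasGoingDown_of_finitePresentation (R := R) (S := E)
  have himg : PrimeSpectrum.comap (algebraMap R T) '' (PrimeSpectrum.basicOpen e : Set (PrimeSpectrum T)) =
      PrimeSpectrum.comap (algebraMap R E) '' (PrimeSpectrum.basicOpen e₀ : Set (PrimeSpectrum E)) := by
    ext c
    constructor
    · rintro ⟨Q, hQ, rfl⟩
      refine ⟨PrimeSpectrum.comap (algebraMap E T) Q, hQ, ?_⟩
      rw [IsScalarTower.algebraMap_eq R E T, PrimeSpectrum.comap_comp_apply]
    · rintro ⟨q, hq, rfl⟩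
      obtain ⟨Q, rfl⟩ := hsurj q
      refine ⟨Q, hq, ?_⟩
      rw [IsScalarTower.algebraMap_eq R E T, PrimeSpectrum.comap_comp_apply]
  exact himg ▸ hopen _ (PrimeSpectrum.basicOpen e₀).isOpen

variable {A B : Type u} [CommRing A] [IsDomain A] [IsIntegrallyClosed A] [CommRing B] [IsDomain B]
  [Algebra A B] [Algebra.IsIntegral A B]

theorem isOpenMap_snd_mvPolynomial (hinj : Function.Injective (algebraMap A B)) (n : ℕ) :
    IsOpenMap (pullback.snd (Spec.map (CommRingCat.ofHom (algebraMap A B)))
      (Spec.map (CommRingCat.ofHom (algebraMap A (MvPolynomial (Fin n) A))))).base := by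
  let P := MvPolynomial (Fin n) A
  let T := MvPolynomial (Fin n) B
  letI := MvPolynomial.algebraMvPolynomial (σ := Fin n) (R := A) (S := B)
  have : IsIntegrallyClosed P := isIntegrallyClosed_mvPolynomial_fin A n
  have hint : Algebra.IsIntegral P T := by
    refine ⟨fun p ↦ ?_⟩
    induction p using MvPolynomial.induction_on with
    | C b =>
      exact IsIntegral.tower_top
        ((Algebra.IsIntegral.isIntegral (R := A) b).map (IsScalarTower.toAlgHom A B T))
    | add p q hp hq => exact hp.add hq
    | mul_X p i hp =>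
      refine hp.mul ?_
      have : (MvPolynomial.X i : T) = algebraMap P T (MvPolynomial.X i) :=
        (MvPolynomial.map_X _ i).symm
      rw [this]
      exact isIntegral_algebraMap
  have hinjT : Function.Injective (algebraMap P T) := MvPolynomial.map_injective _ hinj
  have hopen := isOpenMap_comap_of_isIntegral (R := P) (T := T) hinjT
  have sq := (CommRingCat.isPushout_of_isPushout A B P T).op.map Scheme.Spec
  have sq' : IsPullback (Spec.map (CommRingCat.ofHom (algebraMap B T)))
      (Spec.map (CommRingCat.ofHom (algebraMap P T))) (Spec.map (CommRingCat.ofHom (algebraMap A B)))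
      (Spec.map (CommRingCat.ofHom (algebraMap A P))) := sq.flip
  rw [← sq'.isoPullback_inv_snd, Scheme.Hom.comp_base, TopCat.coe_comp]
  exact IsOpenMap.comp hopen (Scheme.Hom.homeomorph sq'.isoPullback.inv).isOpenMap

/-- After any affine base change, the spectrum of an integral extension of a normal domain is open. -/
theorem isOpenMap_snd (hinj : Function.Injective (algebraMap A B)) (C : Type u) [CommRing C]
    [Algebra A C] :
    IsOpenMap (pullback.snd (Spec.map (CommRingCat.ofHom (algebraMap A B)))
      (Spec.map (CommRingCat.ofHom (algebraMap A C)))).base := by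
  intro W hW
  rw [isOpen_iff_mem_nhds]
  rintro _ ⟨q, hqW, rfl⟩
  obtain ⟨s, V, hqV, hV⟩ :=
    DvrDomLib.Descent.exists_local_descent (Spec.map (CommRingCat.ofHom (algebraMap A B))) q W hW hqW
  obtain ⟨n, π, hπ⟩ : ∃ (n : ℕ) (π : MvPolynomial (Fin n) A →ₐ[A] (Algebra.adjoin A (s : Set C))),
      Function.Surjective π :=
    Algebra.FiniteType.iff_quotient_mvPolynomial''.mp
      ((Algebra.adjoin A (s : Set C)).fg_iff_finiteType.mp (Subalgebra.fg_adjoin_finset s))
  let f := Spec.map (CommRingCat.ofHom (algebraMap A B))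
  let φ : MvPolynomial (Fin n) A →ₐ[A] C := (Algebra.adjoin A (s : Set C)).val.comp π
  let t := DvrDomLib.Descent.trans f π
  have hemb : IsEmbedding t.base := by
    have hsq := DvrDomLib.Descent.isPullback_trans f π
    have : IsClosedImmersion (Spec.map (CommRingCat.ofHom π.toRingHom)) :=
      IsClosedImmersion.spec_of_surjective _ hπ
    have : IsClosedImmersion t := MorphismProperty.of_isPullback hsq.flip this
    exact t.isEmbedding
  obtain ⟨V₀, hV₀, hV₀V⟩ := hemb.isInducing.isOpen_iff.mp V.isOpen
  have hN := (isOpenMap_snd_mvPolynomial hinj n) V₀ hV₀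
  let j := Spec.map (CommRingCat.ofHom φ.toRingHom)
  have hcomp : DvrDomLib.Descent.trans f (Algebra.adjoin A (s : Set C)).val ≫ t =
      DvrDomLib.Descent.trans f φ := DvrDomLib.Descent.trans_comp f _ _
  refine Filter.mem_of_superset (j.continuous.continuousAt.preimage_mem_nhds (hN.mem_nhds
    ⟨(DvrDomLib.Descent.trans f φ).base q, ?_, ?_⟩)) ?_
  · rw [← hcomp, Scheme.Hom.comp_apply]
    exact hV₀V.ge hqV
  · rw [← Scheme.Hom.comp_apply, ← Scheme.Hom.comp_apply, DvrDomLib.Descent.trans_snd]
  · rintro c ⟨v, hv, hvc⟩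
    obtain ⟨q', hq1, hq2⟩ := image_fst_snd (DvrDomLib.Descent.isPullback_trans f φ) v c hvc
    refine ⟨q', hV q' (hV₀V.le (show _ ∈ t.base ⁻¹' V₀ from ?_)), hq2⟩
    show t.base _ ∈ V₀
    rw [← Scheme.Hom.comp_apply, hcomp, hq1]
    exact hv

/-- The spectrum of an integral extension of a normal domain by a domain is universally open. -/
theorem universallyOpen_of_isIntegral (hinj : Function.Injective (algebraMap A B)) :
    UniversallyOpen (Spec.map (CommRingCat.ofHom (algebraMap A B))) := by
  refine ⟨fun P Y' i₁ g f' sq W hW ↦ ?_⟩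
  rw [isOpen_iff_mem_nhds]
  rintro _ ⟨w, hw, rfl⟩
  obtain ⟨_, ⟨U, hU, rfl⟩, hwU, -⟩ :=
    Y'.isBasis_affineOpens.exists_subset_of_mem_open (Set.mem_univ (f'.base w)) isOpen_univ
  have hU : IsAffineOpen U := hU
  obtain ⟨c, hc⟩ : f'.base w ∈ Set.range hU.fromSpec.base := by rw [hU.range_fromSpec]; exact hwU
  obtain ⟨ψ, hψ⟩ := Spec.map_surjective (hU.fromSpec ≫ g)
  letI : Algebra A Γ(Y', U) := ψ.hom.toAlgebra
  let F := Spec.map (CommRingCat.ofHom (algebraMap A B))
  let G := Spec.map (CommRingCat.ofHom (algebraMap A Γ(Y', U)))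
  have hG : G = hU.fromSpec ≫ g := hψ
  let j : pullback F G ⟶ P := sq.flip.lift (pullback.fst F G) (pullback.snd F G ≫ hU.fromSpec)
    (by rw [Category.assoc, ← hG]; exact pullback.condition)
  have sq' : IsPullback j (pullback.snd F G) f' hU.fromSpec := by
    refine IsPullback.of_right ?_ (sq.flip.lift_snd _ _ _) sq.flip
    rw [sq.flip.lift_fst, ← hG]
    exact IsPullback.of_hasPullback F G
  obtain ⟨q, hq1, hq2⟩ := image_fst_snd sq' w c hc.symm
  have hN := (isOpenMap_snd hinj Γ(Y', U) (j.base ⁻¹' W) (hW.preimage j.continuous)).mem_nhds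
    ⟨q, show j.base q ∈ W by rw [hq1]; exact hw, hq2⟩
  have hN' := hU.fromSpec.isOpenEmbedding.isOpenMap.image_mem_nhds hN
  rw [hc] at hN'
  refine Filter.mem_of_superset hN' ?_
  rintro _ ⟨_, ⟨r, hr, rfl⟩, rfl⟩
  exact ⟨j.base r, hr, by rw [← Scheme.Hom.comp_apply, ← Scheme.Hom.comp_apply, sq'.w]⟩

end UOpenLib
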