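import Mathlib
import Groth.Prelude.Def_CAlg2
import Groth.Agent.UOpenLib.Normal
import Groth.Agent.UOpenLib.Criterion

/-!
# Quasi-finite morphisms over geometrically unibranch points
-/

set_option autoImplicit false

universe u

open CategoryTheory Limits AlgebraicGeometry Topology

namespace UOpenLib

/-- A quasi-finite morphism to the spectrum of a normal domain is universally open at every point
having a generization over the generic point. -/
theorem isUnivOpenAt_of_quasiFinite_normal {O : Type u} [CommRing O] [IsDomain O]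
    [IsIntegrallyClosed O] {X : Scheme.{u}} (f : X ⟶ Spec (CommRingCat.of O))
    [LocallyOfFiniteType f] [LocallyQuasiFinite f] (ζ x : X) (hζx : ζ ⤳ x)
    (hζ : (f.base ζ : PrimeSpectrum O).asIdeal = ⊥) : EGA43.IsUnivOpenAt f x := by
  obtain ⟨_, ⟨V, hV, rfl⟩, hxV, -⟩ :=
    X.isBasis_affineOpens.exists_subset_of_mem_open (Set.mem_univ x) isOpen_univ
  have hV : IsAffineOpen V := hV
  have hζV : ζ ∈ V := hζx.mem_open V.isOpen hxV
  obtain ⟨α, hα⟩ := Spec.map_surjective (hV.fromSpec ≫ f)
  letI : Algebra O Γ(X, V) := α.hom.toAlgebra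
  have : Algebra.FiniteType O Γ(X, V) := by
    have : LocallyOfFiniteType (Spec.map α) := hα ▸ inferInstance
    exact HasRingHomProperty.Spec_iff.mp this
  have : Algebra.QuasiFinite O Γ(X, V) := by
    have : LocallyQuasiFinite (Spec.map α) := hα ▸ inferInstance
    exact HasRingHomProperty.Spec_iff.mp this
  let pζ := hV.primeIdealOf ⟨ζ, hζV⟩
  let px := hV.primeIdealOf ⟨x, hxV⟩
  have hle : pζ.asIdeal ≤ px.asIdeal := by
    refine (PrimeSpectrum.le_iff_specializes pζ px).mpr ?_
    refine hV.fromSpec.isOpenEmbedding.isInducing.specializes_iff.mp ?_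
    rw [hV.fromSpec_primeIdealOf, hV.fromSpec_primeIdealOf]
    exact hζx
  let S := Γ(X, V) ⧸ pζ.asIdeal
  let mkA := Ideal.Quotient.mkₐ O pζ.asIdeal
  have : IsDomain S := Ideal.Quotient.isDomain pζ.asIdeal
  have hinj : Function.Injective (algebraMap O S) := by
    rw [RingHom.injective_iff_ker_eq_bot, ← hζ]
    have : f.base ζ = (Spec.map α).base pζ := by
      rw [hα, Scheme.Hom.comp_apply, hV.fromSpec_primeIdealOf]
    rw [this]
    ext o
    show Ideal.Quotient.mk pζ.asIdeal (α.hom o) = 0 ↔ α.hom o ∈ pζ.asIdeal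
    exact Ideal.Quotient.eq_zero_iff_mem
  have : Algebra.FiniteType O S := .of_surjective mkA Ideal.Quotient.mk_surjective
  have : Algebra.QuasiFinite O S := .of_surjective_algHom mkA Ideal.Quotient.mk_surjective
  let qbar : Ideal S := px.asIdeal.map (Ideal.Quotient.mk pζ.asIdeal)
  have : qbar.IsPrime :=
    Ideal.map_isPrime_of_surjective Ideal.Quotient.mk_surjective (by rwa [Ideal.mk_ker])
  have hqc : qbar.comap (Ideal.Quotient.mk pζ.asIdeal) = px.asIdeal := by
    rw [Ideal.comap_map_of_surjective _ Ideal.Quotient.mk_surjective, sup_eq_left,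
      ← RingHom.ker_eq_comap_bot, Ideal.mk_ker]
    exact hle
  obtain ⟨r, hr, hbij⟩ := Algebra.ZariskisMainProperty.of_finiteType (R := O) qbar
  let S' := integralClosure O S
  have hinj' : Function.Injective (algebraMap O S') := fun a b h ↦ hinj (congrArg Subtype.val h)
  have : Algebra.IsIntegral O S' := integralClosure.AlgebraIsIntegral
  have hU1 := universallyOpen_of_isIntegral (A := O) (B := S') hinj'
  let g := Localization.awayMap S'.val.toRingHom r
  let e := RingEquiv.ofBijective g hbij
  let ψ : O →+* Localization.Away (S'.val.toRingHom r) :=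
    g.comp ((algebraMap S' (Localization.Away r)).comp (algebraMap O S'))
  have hopen : UniversallyOpen (Spec.map (CommRingCat.ofHom ψ)) := by
    rw [show CommRingCat.ofHom ψ = CommRingCat.ofHom (algebraMap O S') ≫
      CommRingCat.ofHom (algebraMap S' (Localization.Away r)) ≫ e.toCommRingCatIso.hom from rfl,
      Spec.map_comp, Spec.map_comp]
    have : IsOpenImmersion (Spec.map (CommRingCat.ofHom (algebraMap S' (Localization.Away r)))) :=
      IsOpenImmersion.of_isLocalization r
    infer_instance
  let i : Spec (CommRingCat.of (Localization.Away (S'.val.toRingHom r))) ⟶ X :=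
    Spec.map (CommRingCat.ofHom (algebraMap S (Localization.Away (S'.val.toRingHom r)))) ≫
      Spec.map (CommRingCat.ofHom (Ideal.Quotient.mk pζ.asIdeal)) ≫ hV.fromSpec
  have hi : i ≫ f = Spec.map (CommRingCat.ofHom ψ) := by
    simp only [i, Category.assoc, ← hα, ← Spec.map_comp]
    congr 1
    refine CommRingCat.hom_ext (RingHom.ext fun o ↦ ?_)
    show algebraMap S _ (Ideal.Quotient.mk pζ.asIdeal (α.hom o)) =
      g (algebraMap S' (Localization.Away r) (algebraMap O S' o))
    refine Eq.trans ?_ (IsLocalization.map_eq (S := Localization.Away r) _ (algebraMap O S' o)).symm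
    rfl
  obtain ⟨z, hz⟩ : (⟨qbar, inferInstance⟩ : PrimeSpectrum S) ∈
      Set.range (PrimeSpectrum.comap (algebraMap S (Localization.Away (S'.val.toRingHom r)))) := by
    rw [PrimeSpectrum.localization_away_comap_range _ (S'.val.toRingHom r)]
    exact hr
  have hiz : i.base z = x := by
    refine Eq.trans ?_ (hV.fromSpec_primeIdealOf ⟨x, hxV⟩)
    simp only [i, Scheme.Hom.comp_apply]
    congr 1
    apply PrimeSpectrum.ext
    show Ideal.comap (Ideal.Quotient.mk pζ.asIdeal)
      (PrimeSpectrum.comap (algebraMap S (Localization.Away (S'.val.toRingHom r))) z).asIdeal = _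
    rw [hz]
    exact hqc
  have h := isUnivOpenAt_of_universallyOpen' (Spec.map (CommRingCat.ofHom ψ)) z
  rw [← hi] at h
  exact hiz ▸ IsUnivOpenAt.of_comp h

/-- Two morphisms to a field which agree on a subring over which the field is radicial are equal. -/
theorem universallyInjective_of_pow_mem_range {O k : Type u} [CommRing O] [Field k] (φ : O →+* k)
    (h : ∀ y : k, ∃ n : ℕ, y ^ (ringExpChar k) ^ n ∈ φ.range) :
    UniversallyInjective (Spec.map (CommRingCat.ofHom φ)) := by
  refine ((tfae_universallyInjective _).out 0 1 rfl rfl).mpr fun K _ g₁ g₂ hg ↦ ?_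
  obtain ⟨σ₁, rfl⟩ := Spec.map_surjective g₁
  obtain ⟨σ₂, rfl⟩ := Spec.map_surjective g₂
  simp only [← Spec.map_comp] at hg
  have hg' := RingHom.congr_fun (congrArg CommRingCat.Hom.hom (Spec.map_injective hg))
  congr 1
  refine CommRingCat.hom_ext (RingHom.ext fun y ↦ ?_)
  obtain ⟨n, o, ho⟩ := h y
  have he : σ₁.hom y ^ (ringExpChar k) ^ n = σ₂.hom y ^ (ringExpChar k) ^ n := by
    rw [← map_pow, ← map_pow, ← ho]
    exact hg' o
  have : ExpChar K (ringExpChar k) := expChar_of_injective_ringHom σ₁.hom.injective _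
  exact iterateFrobenius_inj K (ringExpChar k) n he

/-- A quasi-finite morphism whose source point has a generization over the generic point of a
geometrically unibranch local base is universally open at that point. -/
theorem isUnivOpenAt_of_quasiFinite_local (O : CommRingCat.{u}) [IsLocalRing O]
    (hO : CAlg2.IsGeomUnibranch O) {X : Scheme.{u}} (f : X ⟶ Spec O)
    [LocallyOfFiniteType f] [LocallyQuasiFinite f] (x : X)
    (hx : f.base x = IsLocalRing.closedPoint O) (ζ : X) (hζx : ζ ⤳ x)
    (hζ : (f.base ζ : PrimeSpectrum O).asIdeal = nilradical O) : EGA43.IsUnivOpenAt f x := by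
  obtain ⟨⟨hdom, hloc⟩, hres⟩ := hO
  let R := CAlg2.red O
  have : IsDomain R := hdom
  let N := CAlg2.normRed O
  have : IsLocalRing N := hloc
  have : IsIntegrallyClosed N :=
    integralClosure.isIntegrallyClosedOfFiniteExtension (FractionRing R)
  let θ : O →+* N := (algebraMap R N).comp (Ideal.Quotient.mk (nilradical O))
  have hRN : Function.Injective (algebraMap R N) := fun a b h ↦
    IsFractionRing.injective R (FractionRing R) (congrArg Subtype.val h)
  have hθint : θ.IsIntegral :=
    RingHom.IsIntegral.trans _ _ (RingHom.isIntegral_of_surjective _ Ideal.Quotient.mk_surjective)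
      (algebraMap_isIntegral_iff.mpr integralClosure.AlgebraIsIntegral)
  have hθker : RingHom.ker θ = nilradical O := by
    rw [← RingHom.comap_ker, (RingHom.injective_iff_ker_eq_bot _).mp hRN, ← RingHom.ker_eq_comap_bot,
      Ideal.mk_ker]
  let v := Spec.map (CommRingCat.ofHom θ)
  have : IsIntegralHom v := IsIntegralHom.SpecMap_iff.mpr hθint
  have : Surjective v := ⟨fun p ↦ by
    obtain ⟨p₁, hp₁⟩ : ∃ p₁, PrimeSpectrum.comap (Ideal.Quotient.mk (nilradical O)) p₁ = p := by
      have : (p : PrimeSpectrum O) ∈ Set.range (PrimeSpectrum.comap (Ideal.Quotient.mk (nilradical O))) := by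
        rw [range_comap_of_surjective _ _ Ideal.Quotient.mk_surjective, Ideal.mk_ker]
        exact fun a ha ↦ nilradical_le_prime (R := O) p.asIdeal ha
      exact this
    obtain ⟨Q, hQ⟩ := (algebraMap_isIntegral_iff.mpr
      integralClosure.AlgebraIsIntegral).comap_surjective hRN p₁
    exact ⟨Q, by rw [← hp₁, ← hQ]; rfl⟩⟩
  refine IsUnivOpenAt.descend (v := v) fun x₁ hx₁ ↦ ?_
  let f' := pullback.snd f v
  let a := pullback.fst f v
  -- the point over `x` lies over the closed point
  have hmax : ∀ c : PrimeSpectrum N, PrimeSpectrum.comap θ c = IsLocalRing.closedPoint O →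
      c = IsLocalRing.closedPoint N := by
    intro c hc
    apply PrimeSpectrum.ext
    refine IsLocalRing.eq_maximalIdeal ?_
    letI := θ.toAlgebra
    have : Algebra.IsIntegral O N := ⟨hθint⟩
    refine Ideal.isMaximal_of_isIntegral_of_isMaximal_comap (R := O) c.asIdeal ?_
    show (PrimeSpectrum.comap θ c).asIdeal.IsMaximal
    rw [hc]
    exact IsLocalRing.maximalIdeal.isMaximal O
  have hcl : ∀ w, a.base w = x → f'.base w = IsLocalRing.closedPoint N := by
    intro w hw
    refine hmax _ ?_
    show v.base (f'.base w) = _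
    rw [← Scheme.Hom.comp_apply, ← pullback.condition, Scheme.Hom.comp_apply, hw, hx]
  -- uniqueness of the point over `x`
  have huniq : ∀ w, a.base w = x → w = x₁ := by
    intro w hw
    let k := N ⧸ IsLocalRing.maximalIdeal N
    letI : Field k := Ideal.Quotient.field _
    let ρ : N →+* k := Ideal.Quotient.mk _
    have hui : UniversallyInjective (Spec.map (CommRingCat.ofHom (ρ.comp θ))) :=
      universallyInjective_of_pow_mem_range _ (hres (IsLocalRing.maximalIdeal N))
    let u := Spec.map (CommRingCat.ofHom ρ)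
    have hu : Spec.map (CommRingCat.ofHom (ρ.comp θ)) = u ≫ v := by
      rw [CommRingCat.ofHom_comp, Spec.map_comp]
    have hucl : u.base (IsLocalRing.closedPoint k) = IsLocalRing.closedPoint N := by
      apply PrimeSpectrum.ext
      show Ideal.comap ρ (IsLocalRing.maximalIdeal k) = _
      rw [IsLocalRing.isField_iff_maximalIdeal_eq.mp (Field.toIsField k), ← RingHom.ker_eq_comap_bot,
        Ideal.mk_ker]
      rfl
    have sq := (IsPullback.of_hasPullback f' u).paste_horiz (IsPullback.of_hasPullback f v)
    have : UniversallyInjective (pullback.fst f' u ≫ a) :=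
      MorphismProperty.of_isPullback sq.flip (hu ▸ hui)
    obtain ⟨w₁, hw₁, -⟩ := Scheme.Pullback.exists_preimage_pullback (f := f') (g := u) x₁
      (IsLocalRing.closedPoint k) ((hcl x₁ hx₁).trans hucl.symm)
    obtain ⟨w₂, hw₂, -⟩ := Scheme.Pullback.exists_preimage_pullback (f := f') (g := u) w
      (IsLocalRing.closedPoint k) ((hcl w hw).trans hucl.symm)
    have : w₂ = w₁ := (pullback.fst f' u ≫ a).injective (by
      rw [Scheme.Hom.comp_apply, Scheme.Hom.comp_apply, hw₁, hw₂, hw, hx₁])
    rw [← hw₁, ← hw₂, this]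
  -- a generization over the generic point
  let η : PrimeSpectrum N := ⟨⊥, Ideal.isPrime_bot⟩
  have hη : f.base ζ = v.base η := by
    apply PrimeSpectrum.ext
    rw [hζ]
    show nilradical O = Ideal.comap θ ⊥
    rw [← RingHom.ker_eq_comap_bot, hθker]
  obtain ⟨ζ', hζ'1, hζ'2⟩ := Scheme.Pullback.exists_preimage_pullback (f := f) (g := v) ζ η hη
  have hclosed : IsClosedMap a.base := a.isClosedMap
  obtain ⟨w, hw1, hw2⟩ : x ∈ a.base '' closure {ζ'} := by
    rw [← (hclosed _ isClosed_closure).closure_eq]
    refine closure_mono ?_ (hζx.mem_closure)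
    rintro _ rfl
    exact ⟨ζ', subset_closure rfl, hζ'1⟩
  refine isUnivOpenAt_of_quasiFinite_normal (O := N) f' ζ' x₁ ?_ ?_
  · exact (huniq w hw2) ▸ specializes_iff_mem_closure.mpr hw1
  · rw [hζ'2]

end UOpenLib
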