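import Mathlib
import Groth.Prelude.Def_CAlg2
import Groth.Agent.UOpenLib.Unibranch

/-!
# Morphisms quasi-finite over affine space, over a geometrically unibranch local base
-/

set_option autoImplicit false

universe u

open CategoryTheory Limits AlgebraicGeometry Topology MvPolynomial

namespace UOpenLib

/-- The projection of affine space. -/
noncomputable abbrev polyProj (A : Type u) [CommRing A] (n : ℕ) :
    Spec (CommRingCat.of (MvPolynomial (Fin n) A)) ⟶ Spec (CommRingCat.of A) :=
  Spec.map (CommRingCat.ofHom (C : A →+* MvPolynomial (Fin n) A))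

instance universallyOpen_polyProj (A : Type u) [CommRing A] (n : ℕ) :
    UniversallyOpen (polyProj A n) := by
  have h1 : (C : A →+* MvPolynomial (Fin n) A).Flat :=
    RingHom.flat_algebraMap_iff.mpr (inferInstance : Module.Flat A (MvPolynomial (Fin n) A))
  have h2 : (C : A →+* MvPolynomial (Fin n) A).FinitePresentation :=
    RingHom.finitePresentation_algebraMap.mpr inferInstance
  have : Flat (polyProj A n) := HasRingHomProperty.Spec_iff.mpr h1
  have : LocallyOfFinitePresentation (polyProj A n) := HasRingHomProperty.Spec_iff.mpr h2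
  infer_instance

/-- Base change of affine space. -/
theorem isPullback_polyProj {A B : Type u} [CommRing A] [CommRing B] (θ : A →+* B) (n : ℕ) :
    IsPullback (Spec.map (CommRingCat.ofHom (MvPolynomial.map (σ := Fin n) θ))) (polyProj B n)
      (polyProj A n) (Spec.map (CommRingCat.ofHom θ)) := by
  letI := θ.toAlgebra
  let P := MvPolynomial (Fin n) A
  let T := MvPolynomial (Fin n) B
  letI := MvPolynomial.algebraMvPolynomial (σ := Fin n) (R := A) (S := B)
  exact (CommRingCat.isPushout_of_isPushout A P B T).op.map Scheme.Spec |>.flip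

/-- A morphism which is quasi-finite over affine space and has a generization over the generic
point of affine space over a geometrically unibranch local base is universally open at the closed
fibre. -/
theorem isUnivOpenAt_of_quasiFinite_polyProj (O : CommRingCat.{u}) [IsLocalRing O]
    (hO : CAlg2.IsGeomUnibranch O) (n : ℕ) {X : Scheme.{u}}
    (u : X ⟶ Spec (CommRingCat.of (MvPolynomial (Fin n) O)))
    [LocallyOfFiniteType u] [LocallyQuasiFinite u] (x : X)
    (hx : (u ≫ polyProj O n).base x = IsLocalRing.closedPoint O) (ζ : X) (hζx : ζ ⤳ x)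
    (hζ : (u.base ζ : PrimeSpectrum (MvPolynomial (Fin n) O)).asIdeal = (nilradical O).map C) :
    EGA43.IsUnivOpenAt (u ≫ polyProj O n) x := by
  obtain ⟨⟨hdom, hloc⟩, hres⟩ := hO
  let R := CAlg2.red O
  have : IsDomain R := hdom
  let N := CAlg2.normRed O
  have : IsLocalRing N := hloc
  have : IsIntegrallyClosed N :=
    integralClosure.isIntegrallyClosedOfFiniteExtension (FractionRing R)
  let θ : O →+* N := (algebraMap R N).comp (Ideal.Quotient.mk (nilradical O))
  have hRN : Function.Injective (algebraMap R N) := fun a b h ↦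
    IsFractionRing.injective R (FractionRing R) (congrArg Subtype.val h)
  have hθint : θ.IsIntegral :=
    RingHom.IsIntegral.trans _ _ (RingHom.isIntegral_of_surjective _ Ideal.Quotient.mk_surjective)
      (algebraMap_isIntegral_iff.mpr integralClosure.AlgebraIsIntegral)
  have hθker : RingHom.ker θ = nilradical O := by
    rw [← RingHom.comap_ker, (RingHom.injective_iff_ker_eq_bot _).mp hRN, ← RingHom.ker_eq_comap_bot,
      Ideal.mk_ker]
  let v := Spec.map (CommRingCat.ofHom θ)
  have : IsIntegralHom v := IsIntegralHom.SpecMap_iff.mpr hθint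
  have : Surjective v := ⟨fun p ↦ by
    obtain ⟨p₁, hp₁⟩ : ∃ p₁, PrimeSpectrum.comap (Ideal.Quotient.mk (nilradical O)) p₁ = p := by
      have : (p : PrimeSpectrum O) ∈ Set.range (PrimeSpectrum.comap (Ideal.Quotient.mk (nilradical O))) := by
        rw [range_comap_of_surjective _ _ Ideal.Quotient.mk_surjective, Ideal.mk_ker]
        exact fun a ha ↦ nilradical_le_prime (R := O) p.asIdeal ha
      exact this
    obtain ⟨Q, hQ⟩ := (algebraMap_isIntegral_iff.mpr
      integralClosure.AlgebraIsIntegral).comap_surjective hRN p₁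
    exact ⟨Q, by rw [← hp₁, ← hQ]; rfl⟩⟩
  refine IsUnivOpenAt.descend (v := v) fun x₁ hx₁ ↦ ?_
  let f := u ≫ polyProj O n
  let f' := pullback.snd f v
  let a := pullback.fst f v
  -- the point over `x` lies over the closed point
  have hcl : ∀ w, a.base w = x → f'.base w = IsLocalRing.closedPoint N := by
    intro w hw
    have hc : v.base (f'.base w) = IsLocalRing.closedPoint O := by
      rw [← Scheme.Hom.comp_apply, ← pullback.condition, Scheme.Hom.comp_apply, hw, hx]
    apply PrimeSpectrum.ext
    refine IsLocalRing.eq_maximalIdeal ?_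
    letI := θ.toAlgebra
    have : Algebra.IsIntegral O N := ⟨hθint⟩
    refine Ideal.isMaximal_of_isIntegral_of_isMaximal_comap (R := O) _ ?_
    show (PrimeSpectrum.comap θ (f'.base w)).asIdeal.IsMaximal
    have hc' : PrimeSpectrum.comap θ (f'.base w) = IsLocalRing.closedPoint O := hc
    rw [hc']
    exact IsLocalRing.maximalIdeal.isMaximal O
  -- uniqueness of the point over `x`
  have huniq : ∀ w, a.base w = x → w = x₁ := by
    intro w hw
    let k := N ⧸ IsLocalRing.maximalIdeal N
    letI : Field k := Ideal.Quotient.field _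
    let ρ : N →+* k := Ideal.Quotient.mk _
    have hui : UniversallyInjective (Spec.map (CommRingCat.ofHom (ρ.comp θ))) :=
      universallyInjective_of_pow_mem_range _ (hres (IsLocalRing.maximalIdeal N))
    let q := Spec.map (CommRingCat.ofHom ρ)
    have hq : Spec.map (CommRingCat.ofHom (ρ.comp θ)) = q ≫ v := by
      rw [CommRingCat.ofHom_comp, Spec.map_comp]
    have hqcl : q.base (IsLocalRing.closedPoint k) = IsLocalRing.closedPoint N := by
      apply PrimeSpectrum.ext
      show Ideal.comap ρ (IsLocalRing.maximalIdeal k) = _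
      rw [IsLocalRing.isField_iff_maximalIdeal_eq.mp (Field.toIsField k), ← RingHom.ker_eq_comap_bot,
        Ideal.mk_ker]
      rfl
    have sq := (IsPullback.of_hasPullback f' q).paste_horiz (IsPullback.of_hasPullback f v)
    have : UniversallyInjective (pullback.fst f' q ≫ a) :=
      MorphismProperty.of_isPullback sq.flip (hq ▸ hui)
    obtain ⟨w₁, hw₁, -⟩ := Scheme.Pullback.exists_preimage_pullback (f := f') (g := q) x₁
      (IsLocalRing.closedPoint k) ((hcl x₁ hx₁).trans hqcl.symm)
    obtain ⟨w₂, hw₂, -⟩ := Scheme.Pullback.exists_preimage_pullback (f := f') (g := q) w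
      (IsLocalRing.closedPoint k) ((hcl w hw).trans hqcl.symm)
    have : w₂ = w₁ := (pullback.fst f' q ≫ a).injective (by
      rw [Scheme.Hom.comp_apply, Scheme.Hom.comp_apply, hw₁, hw₂, hw, hx₁])
    rw [← hw₁, ← hw₂, this]
  -- the map to affine space over the normalization
  let Θ : MvPolynomial (Fin n) O →+* MvPolynomial (Fin n) N := MvPolynomial.map θ
  have sqP := isPullback_polyProj θ n
  let u' : pullback f v ⟶ Spec (CommRingCat.of (MvPolynomial (Fin n) N)) :=
    sqP.lift (a ≫ u) f' (by rw [Category.assoc]; exact pullback.condition)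
  have hu' : u' ≫ polyProj N n = f' := sqP.lift_snd _ _ _
  have squ : IsPullback a u' u (Spec.map (CommRingCat.ofHom Θ)) :=
    IsPullback.of_bot (hu'.symm ▸ IsPullback.of_hasPullback f v) (sqP.lift_fst _ _ _).symm sqP
  have : LocallyOfFiniteType u' := MorphismProperty.of_isPullback squ ‹_›
  have : LocallyQuasiFinite u' := MorphismProperty.of_isPullback squ ‹_›
  let η : PrimeSpectrum (MvPolynomial (Fin n) N) := ⟨⊥, Ideal.isPrime_bot⟩
  have hη : u.base ζ = (Spec.map (CommRingCat.ofHom (R := MvPolynomial (Fin n) O) (S := MvPolynomial (Fin n) N) Θ)).base η := by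
    apply PrimeSpectrum.ext
    rw [hζ]
    show (nilradical O).map C = Ideal.comap Θ ⊥
    rw [← RingHom.ker_eq_comap_bot, MvPolynomial.ker_map, hθker]
  obtain ⟨ζ', hζ'1, hζ'2⟩ := image_fst_snd squ ζ η hη
  obtain ⟨w, hw1, hw2⟩ : x ∈ a.base '' closure {ζ'} := by
    rw [← (a.isClosedMap _ isClosed_closure).closure_eq]
    refine closure_mono ?_ (hζx.mem_closure)
    rintro _ rfl
    exact ⟨ζ', subset_closure rfl, hζ'1⟩
  have hsp : ζ' ⤳ x₁ := (huniq w hw2) ▸ specializes_iff_mem_closure.mpr hw1
  have := isIntegrallyClosed_mvPolynomial_fin N n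
  have h1 : EGA43.IsUnivOpenAt u' x₁ :=
    isUnivOpenAt_of_quasiFinite_normal (O := MvPolynomial (Fin n) N) u' ζ' x₁ hsp
      (congrArg PrimeSpectrum.asIdeal hζ'2)
  have h2 := IsUnivOpenAt.comp h1 (isUnivOpenAt_of_universallyOpen' (polyProj N n) (u'.base x₁))
  rwa [hu'] at h2

end UOpenLib
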