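import Mathlib

/-!
# Lifting generizations along a map quasi-finite over affine space
-/

set_option autoImplicit false

universe u

open MvPolynomial

namespace UOpenLib

/-- Pull a chain of primes along a surjection back. -/
theorem exists_series_of_le_height {R S : Type u} [CommRing R] [CommRing S] (π : R →+* S)
    (hπ : Function.Surjective π) (Q : PrimeSpectrum S) (n : ℕ)
    (hn : (n : ℕ∞) ≤ Q.asIdeal.height) :
    ∃ d : LTSeries (PrimeSpectrum R), d.length = n ∧ d.last = PrimeSpectrum.comap π Q ∧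
      RingHom.ker π ≤ d.head.asIdeal := by
  rw [Q.height_eq_orderHeight] at hn
  obtain ⟨d, hd, hl⟩ := Order.exists_series_of_le_height Q hn
  refine ⟨d.map (PrimeSpectrum.comap π) (RingHom.strictMono_comap_of_surjective hπ), hl, ?_, ?_⟩
  · rw [LTSeries.last_map, hd]
  · rw [LTSeries.head_map]
    exact fun a ha ↦ by
      show π a ∈ d.head.asIdeal
      rw [RingHom.mem_ker.mp ha]
      exact Ideal.zero_mem _

/-- Cutting a chain of primes by an element of its top member. -/
theorem exists_series_of_mem {R : Type u} [CommRing R] [IsNoetherianRing R] (n : ℕ)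
    (c : LTSeries (PrimeSpectrum R)) (hc : c.length = n + 1) (f : R) (hf : f ∈ c.last.asIdeal) :
    ∃ d : LTSeries (PrimeSpectrum R), d.length = n ∧ d.last = c.last ∧
      c.head.asIdeal ⊔ Ideal.span {f} ≤ d.head.asIdeal := by
  let P := c.head.asIdeal
  let mk := Ideal.Quotient.mk P
  have hle : ∀ i, P ≤ (c i).asIdeal := fun i ↦
    (c.monotone (Fin.zero_le i) : c.head ≤ c i)
  have hmap : ∀ i, ((c i).asIdeal.map mk).IsPrime := fun i ↦
    Ideal.map_isPrime_of_surjective Ideal.Quotient.mk_surjective (by rw [Ideal.mk_ker]; exact hle i)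
  have hback : ∀ i, ((c i).asIdeal.map mk).comap mk = (c i).asIdeal := fun i ↦ by
    rw [Ideal.comap_map_of_surjective _ Ideal.Quotient.mk_surjective, ← RingHom.ker_eq_comap_bot,
      Ideal.mk_ker, sup_eq_left]
    exact hle i
  let c' : LTSeries (PrimeSpectrum (R ⧸ P)) :=
    LTSeries.mk c.length (fun i ↦ ⟨_, hmap i⟩) fun i j hij ↦
      lt_of_le_of_ne (Ideal.map_mono (c.strictMono hij).le) fun e ↦ (c.strictMono hij).ne
        (PrimeSpectrum.ext (by
          rw [← hback i, ← hback j, show (c i).asIdeal.map mk = (c j).asIdeal.map mk from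
            congrArg PrimeSpectrum.asIdeal e]))
  let Q : PrimeSpectrum (R ⧸ P) := c'.last
  have h1 : ((n + 1 : ℕ) : ℕ∞) ≤ Q.asIdeal.height := by
    rw [Q.height_eq_orderHeight, ← hc]
    exact Order.length_le_height (le_refl c'.last)
  have hfQ : mk f ∈ Q.asIdeal := Ideal.mem_map_of_mem mk hf
  have h2 := h1.trans (Ideal.height_le_height_add_one_of_mem hfQ)
  let g := Ideal.Quotient.mk (Ideal.span {mk f})
  have hQ' : (Q.asIdeal.map g).IsPrime :=
    Ideal.isPrime_map_quotientMk_of_isPrime (Ideal.span_le.mpr (Set.singleton_subset_iff.mpr hfQ))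
  have h3 : (n : ℕ∞) ≤ (Q.asIdeal.map g).height := by
    rw [Nat.cast_add, Nat.cast_one] at h2
    exact (ENat.add_le_add_iff_right (by simp)).mp h2
  obtain ⟨d, hd1, hd2, hd3⟩ := exists_series_of_le_height (g.comp mk)
    (Ideal.Quotient.mk_surjective.comp Ideal.Quotient.mk_surjective) ⟨_, hQ'⟩ n h3
  refine ⟨d, hd1, ?_, ?_⟩
  · rw [hd2]
    apply PrimeSpectrum.ext
    show (Q.asIdeal.map g).comap (g.comp mk) = _
    rw [← Ideal.comap_comap, Ideal.comap_map_of_surjective _ Ideal.Quotient.mk_surjective,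
      ← RingHom.ker_eq_comap_bot, Ideal.mk_ker, sup_eq_left.mpr
        (Ideal.span_le.mpr (Set.singleton_subset_iff.mpr hfQ))]
    exact hback (Fin.last c.length)
  · refine sup_le (fun a ha ↦ hd3 ?_) (Ideal.span_le.mpr (Set.singleton_subset_iff.mpr (hd3 ?_)))
    · show g (mk a) = 0
      rw [Ideal.Quotient.eq_zero_iff_mem.mpr ha, map_zero]
    · show g (mk f) = 0
      exact Ideal.Quotient.eq_zero_iff_mem.mpr (Ideal.mem_span_singleton_self _)

/-- If all generizations of `p` lift below `q` and `q` is minimal over `p`, chains below `p` give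
chains below `q`. -/
theorem exists_series_of_lift {R A : Type u} [CommRing R] [IsNoetherianRing R] [CommRing A]
    [IsNoetherianRing A] (φ : R →+* A) (q : PrimeSpectrum A)
    (hmin : ∀ q' ≤ q, PrimeSpectrum.comap φ q' = PrimeSpectrum.comap φ q → q' = q) :
    ∀ (n : ℕ) (I : Ideal R) (c : LTSeries (PrimeSpectrum R)), c.length = n →
      c.last = PrimeSpectrum.comap φ q → I ≤ c.head.asIdeal →
      (∀ p' ≤ PrimeSpectrum.comap φ q, I ≤ p'.asIdeal → ∃ q' ≤ q, PrimeSpectrum.comap φ q' = p') →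
      ∃ d : LTSeries (PrimeSpectrum A), d.length = n ∧ d.last = q ∧ I.map φ ≤ d.head.asIdeal := by
  intro n
  induction n with
  | zero =>
    intro I c hn hlast hI _
    refine ⟨RelSeries.singleton _ q, rfl, rfl, ?_⟩
    rw [Ideal.map_le_iff_le_comap]
    have : c.head = c.last := congrArg c (Fin.ext (by simp [hn]))
    exact hI.trans (le_of_eq (congrArg PrimeSpectrum.asIdeal (this.trans hlast)))
  | succ n ih =>
    intro I c hn hlast hI hlift
    let p := PrimeSpectrum.comap φ q
    let P₀ := c.head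
    have hP₀ : P₀ < p := (c.strictMono (show (0 : Fin _) < Fin.last _ by
      simp [Fin.lt_def, hn]) : c.head < c.last).trans_eq hlast
    let J := P₀.asIdeal.map φ
    let M : Set (Ideal A) := {Q ∈ J.minimalPrimes | Q ≤ q.asIdeal}
    have hM : M.Finite := (Ideal.finite_minimalPrimes_of_isNoetherianRing A J).subset fun _ h ↦ h.1
    obtain ⟨f, hfp, hf⟩ : ∃ f ∈ p.asIdeal, f ∉ P₀.asIdeal ∧ ∀ Q ∈ M, f ∉ Q.comap φ := by
      by_contra hcon
      push Not at hcon
      let F : Finset (Ideal R) := insert P₀.asIdeal (hM.toFinset.image (Ideal.comap φ))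
      have hsub : (p.asIdeal : Set R) ⊆ ⋃ i ∈ (F : Set (Ideal R)), (i : Set R) := by
        intro a ha
        by_cases h0 : a ∈ P₀.asIdeal
        · exact Set.mem_iUnion₂.mpr ⟨_, Finset.mem_insert_self _ _, h0⟩
        · obtain ⟨Q, hQ, haQ⟩ := hcon a ha h0
          exact Set.mem_iUnion₂.mpr ⟨_, Finset.mem_insert_of_mem
            (Finset.mem_image_of_mem _ (hM.mem_toFinset.mpr hQ)), haQ⟩
      have hprime : ∀ i ∈ F, i ≠ P₀.asIdeal → i ≠ P₀.asIdeal → i.IsPrime := by
        intro i hi hne _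
        obtain ⟨Q, hQ, rfl⟩ := Finset.mem_image.mp ((Finset.mem_insert.mp hi).resolve_left hne)
        have : Q.IsPrime := (hM.mem_toFinset.mp hQ).1.1.1
        infer_instance
      obtain ⟨i, hi, hle⟩ := (Ideal.subset_union_prime P₀.asIdeal P₀.asIdeal hprime).mp hsub
      rcases Finset.mem_insert.mp hi with rfl | hi
      · exact hP₀.not_ge hle
      · obtain ⟨Q, hQ, rfl⟩ := Finset.mem_image.mp hi
        obtain ⟨hQmin, hQq⟩ := hM.mem_toFinset.mp hQ
        have : Q.IsPrime := hQmin.1.1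
        have hQeq : (⟨Q, this⟩ : PrimeSpectrum A) = q := hmin ⟨Q, this⟩ hQq
          (PrimeSpectrum.ext (le_antisymm (Ideal.comap_mono hQq) hle))
        obtain ⟨q', hq', hq'p⟩ := hlift P₀ hP₀.le hI
        have hJ : J ≤ q'.asIdeal := by
          rw [Ideal.map_le_iff_le_comap]
          exact le_of_eq (congrArg PrimeSpectrum.asIdeal hq'p).symm
        have hQq' : Q ≤ q'.asIdeal := hQmin.2 ⟨q'.2, hJ⟩ (by
          have : Q = q.asIdeal := congrArg PrimeSpectrum.asIdeal hQeq
          exact this ▸ hq')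
        have heq : q' = q := le_antisymm hq' (hQeq ▸ hQq')
        exact hP₀.ne (hq'p.symm.trans (congrArg (PrimeSpectrum.comap φ) heq))
    obtain ⟨d, hdn, hdl, hdh⟩ := exists_series_of_mem n c hn f (hlast.symm ▸ hfp)
    obtain ⟨e, hen, hel, heh⟩ := ih (P₀.asIdeal ⊔ Ideal.span {f}) d hdn (hdl.trans hlast) hdh
      (fun p' hp' hI' ↦ hlift p' hp' (hI.trans (le_sup_left.trans hI')))
    rw [Ideal.map_sup, sup_le_iff] at heh
    obtain ⟨Q, hQ, hQe⟩ := Ideal.exists_minimalPrimes_le heh.1
    have hQp : Q.IsPrime := hQ.1.1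
    have hQq : Q ≤ q.asIdeal := hQe.trans (hel ▸ (e.monotone (Fin.zero_le _) : e.head ≤ e.last))
    have hfe : φ f ∈ e.head.asIdeal :=
      heh.2 (Ideal.mem_map_of_mem φ (Ideal.mem_span_singleton_self f))
    have hlt : (⟨Q, hQp⟩ : PrimeSpectrum A) < e.head :=
      lt_of_le_of_ne hQe fun he ↦ hf.2 Q ⟨hQ, hQq⟩
        ((congrArg PrimeSpectrum.asIdeal he).ge hfe : φ f ∈ Q)
    refine ⟨RelSeries.cons e ⟨Q, hQp⟩ hlt, by simp [hen], by simp [hel], ?_⟩
    simp only [RelSeries.head_cons]
    exact (Ideal.map_mono hI).trans hQ.1.2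

/-- Openness at a maximal point of a fibre produces a generization over the generic point of affine
space. -/
theorem exists_le_comap_eq_map_C {R B : Type u} [CommRing R] [IsNoetherianRing R] [CommRing B]
    {e : ℕ} (φ : MvPolynomial (Fin e) R →+* B) (hft : φ.FiniteType) (hqf : φ.QuasiFinite)
    (q : PrimeSpectrum B)
    (hq : q.asIdeal.comap φ = (q.asIdeal.comap (φ.comp C)).map C)
    (P : PrimeSpectrum R) (hP : P ≤ PrimeSpectrum.comap (φ.comp C) q)
    (hlift : ∀ p' ≤ PrimeSpectrum.comap (φ.comp C) q, P ≤ p' →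
      ∃ q' ≤ q, PrimeSpectrum.comap (φ.comp C) q' = p') :
    ∃ q' ≤ q, q'.asIdeal.comap φ = P.asIdeal.map C := by
  letI := φ.toAlgebra
  have : Algebra.QuasiFinite (MvPolynomial (Fin e) R) B := hqf
  have : Algebra.FiniteType (MvPolynomial (Fin e) R) B := hft
  have : IsNoetherianRing B := Algebra.FiniteType.isNoetherianRing (MvPolynomial (Fin e) R) B
  let p := PrimeSpectrum.comap (φ.comp C) q
  have hinc : ∀ a b : PrimeSpectrum B, a < b → PrimeSpectrum.comap φ a < PrimeSpectrum.comap φ b :=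
    fun a b hab ↦ lt_of_le_of_ne (Ideal.comap_mono hab.le) fun he ↦ hab.ne
      (PrimeSpectrum.ext (Algebra.QuasiFinite.eq_of_le_of_under_eq (R := MvPolynomial (Fin e) R)
        a.asIdeal b.asIdeal hab.le (congrArg PrimeSpectrum.asIdeal he)))
  have hge : ∀ a : PrimeSpectrum B, (PrimeSpectrum.comap (φ.comp C) a).asIdeal.map C ≤
      a.asIdeal.comap φ := fun a ↦ by
    rw [Ideal.map_le_iff_le_comap]
    exact le_rfl
  have hmin : ∀ q' ≤ q, PrimeSpectrum.comap (φ.comp C) q' = p → q' = q := fun q' hq' he ↦ by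
    refine hq'.eq_or_lt.resolve_right fun hlt ↦ (hinc _ _ hlt).ne (PrimeSpectrum.ext ?_)
    refine le_antisymm (Ideal.comap_mono hq') ?_
    show q.asIdeal.comap φ ≤ q'.asIdeal.comap φ
    rw [hq]
    exact (congrArg (fun z : PrimeSpectrum R ↦ z.asIdeal.map C) he).symm.le.trans (hge q')
  -- a longest chain between `P` and `p`
  let mk := Ideal.Quotient.mk P.asIdeal
  have hpmap : (p.asIdeal.map mk).IsPrime := Ideal.isPrime_map_quotientMk_of_isPrime hP
  obtain ⟨h, hh⟩ : ∃ h : ℕ, (p.asIdeal.map mk).height = h :=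
    ENat.ne_top_iff_exists.mp (Ideal.height_ne_top hpmap.ne_top) |>.imp fun _ h ↦ h.symm
  obtain ⟨c, hc1, hc2, hc3⟩ := exists_series_of_le_height mk Ideal.Quotient.mk_surjective
    ⟨_, hpmap⟩ h hh.ge
  have hpback : PrimeSpectrum.comap mk ⟨_, hpmap⟩ = p := by
    apply PrimeSpectrum.ext
    show (p.asIdeal.map mk).comap mk = _
    rw [Ideal.comap_map_of_surjective _ Ideal.Quotient.mk_surjective, ← RingHom.ker_eq_comap_bot,
      Ideal.mk_ker, sup_eq_left]
    exact hP
  rw [Ideal.mk_ker] at hc3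
  obtain ⟨d, hd1, hd2, hd3⟩ := exists_series_of_lift (φ.comp C) q hmin h P.asIdeal c hc1
    (hc2.trans hpback) hc3 hlift
  have hdq : d.head ≤ q := hd2 ▸ (d.monotone (Fin.zero_le _) : d.head ≤ d.last)
  refine ⟨d.head, hdq, ?_⟩
  -- the image chain lives above `P` and below `p`
  let R' := R ⧸ P.asIdeal
  let μ : MvPolynomial (Fin e) R →+* MvPolynomial (Fin e) R' := MvPolynomial.map mk
  have hμ : Function.Surjective μ := MvPolynomial.map_surjective _ Ideal.Quotient.mk_surjective
  have hker : RingHom.ker μ = P.asIdeal.map C := by rw [MvPolynomial.ker_map, Ideal.mk_ker]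
  have hhead : P.asIdeal.map C ≤ d.head.asIdeal.comap φ := by
    rw [Ideal.map_le_iff_le_comap]
    exact fun a ha ↦ (Ideal.map_le_iff_le_comap.mp hd3 ha : φ (C a) ∈ d.head.asIdeal)
  have hled : ∀ i, RingHom.ker μ ≤ (d i).asIdeal.comap φ := fun i ↦
    hker ▸ hhead.trans (Ideal.comap_mono (d.monotone (Fin.zero_le i) : d.head ≤ d i))
  have himg : ∀ i, (((d i).asIdeal.comap φ).map μ).IsPrime := fun i ↦
    Ideal.map_isPrime_of_surjective hμ (hled i)
  have hbk : ∀ i, (((d i).asIdeal.comap φ).map μ).comap μ = (d i).asIdeal.comap φ := fun i ↦ by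
    rw [Ideal.comap_map_of_surjective _ hμ, ← RingHom.ker_eq_comap_bot, sup_eq_left]
    exact hled i
  let d' : LTSeries (PrimeSpectrum (MvPolynomial (Fin e) R')) :=
    LTSeries.mk d.length (fun i ↦ ⟨_, himg i⟩) fun i j hij ↦
      lt_of_le_of_ne (Ideal.map_mono (hinc _ _ (d.strictMono hij)).le) fun he ↦
        (hinc _ _ (d.strictMono hij)).ne (PrimeSpectrum.ext (by
          show (d i).asIdeal.comap φ = (d j).asIdeal.comap φ
          rw [← hbk i, ← hbk j, show ((d i).asIdeal.comap φ).map μ = ((d j).asIdeal.comap φ).map μ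
            from congrArg PrimeSpectrum.asIdeal he]))
  by_contra hne
  have hpos : (⟨⊥, Ideal.isPrime_bot⟩ : PrimeSpectrum (MvPolynomial (Fin e) R')) < d'.head := by
    refine lt_of_le_of_ne bot_le fun he ↦ hne ?_
    rw [← hker, RingHom.ker_eq_comap_bot]
    exact (hbk 0).symm.trans (congrArg (fun z : PrimeSpectrum _ ↦ z.asIdeal.comap μ) he).symm
  let d'' := RelSeries.cons d' ⟨⊥, Ideal.isPrime_bot⟩ hpos
  have hlast : d''.last.asIdeal = (p.asIdeal.map mk).map C := by
    rw [RelSeries.last_cons]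
    show (d.last.asIdeal.comap φ).map μ = _
    rw [hd2, hq, Ideal.map_map, Ideal.map_map]
    congr 1
    ext a
    simp [μ, mk]
  have hlies : d''.last.asIdeal.LiesOver (p.asIdeal.map mk) := ⟨by
    rw [hlast]
    refine le_antisymm Ideal.le_comap_map fun a ha ↦ ?_
    have h' : (C a : MvPolynomial (Fin e) R') ∈ (p.asIdeal.map mk).map C := ha
    have := MvPolynomial.mem_map_C_iff.mp h' 0
    rwa [MvPolynomial.coeff_zero_C] at this⟩
  have hb := Ideal.height_le_height_add_of_liesOver (p.asIdeal.map mk) d''.last.asIdeal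
  have h0 : (d''.last.asIdeal.map (Ideal.Quotient.mk ((p.asIdeal.map mk).map
      (algebraMap R' (MvPolynomial (Fin e) R'))))).height = 0 := by
    rw [hlast, MvPolynomial.algebraMap_eq, Ideal.map_quotient_self]
    have : Nontrivial (MvPolynomial (Fin e) R' ⧸ (p.asIdeal.map mk).map (C (σ := Fin e))) :=
      Ideal.Quotient.nontrivial_iff.mpr (hlast ▸ d''.last.2.ne_top)
    have : IsDomain (MvPolynomial (Fin e) R' ⧸ (p.asIdeal.map mk).map (C (σ := Fin e))) :=
      (Ideal.Quotient.isDomain_iff_prime _).mpr (hlast ▸ d''.last.2)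
    exact Ideal.height_bot
  rw [h0, add_zero, hh, d''.last.height_eq_orderHeight] at hb
  have := (Order.length_le_height (le_refl d''.last)).trans hb
  simp [d'', d', hd1] at this
  norm_cast at this
  omega

end UOpenLib
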