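import Mathlib
import Groth.Agent.UOpenLib.FibreDim
import Groth.Agent.UOpenLib.HeightLift
import Groth.Agent.UOpenLib.Criterion

/-!
# Universal openness at maximal points of fibres produces large generizations
-/

set_option autoImplicit false

universe u

open CategoryTheory Limits AlgebraicGeometry TopologicalSpace Topology MvPolynomial

namespace UOpenLib

variable {X Y : Scheme.{u}} (g : X ⟶ Y) [LocallyOfFiniteType g]

/-- Over a locally noetherian base, lifting generizations at a maximal point of a fibre gives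
generizations whose fibres are at least as large. -/
theorem exists_generization_of_lift [IsLocallyNoetherian Y] {x : X}
    (hmax : ∀ x' : X, g.base x' = g.base x → x ∈ closure {x'} → x' = x) {y₁ : Y} (hy₁ : y₁ ⤳ g.base x)
    (hlift : ∀ y' : Y, y₁ ⤳ y' → y' ⤳ g.base x → ∃ x' : X, x' ⤳ x ∧ g.base x' = y') :
    ∃ ζ : X, ζ ⤳ x ∧ g.base ζ = y₁ ∧ FlatMor.fibreDimAt g x ≤ fibreClosureDim g ζ := by
  obtain ⟨d, hd⟩ := exists_fibreDimAt_eq_nat g x
  obtain ⟨_, ⟨V, hV, rfl⟩, hxV, -⟩ :=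
    Y.isBasis_affineOpens.exists_subset_of_mem_open (Set.mem_univ (g.base x)) isOpen_univ
  have hV : IsAffineOpen V := hV
  have : IsNoetherianRing Γ(Y, V) := IsLocallyNoetherian.component_noetherian ⟨V, hV⟩
  obtain ⟨U, hU, hxU, eUV, φ, hφ, hft, hqf⟩ := FibDimLib.exists_qf_affine_nhd g x hV hxV d hd
  have hq := comap_eq_of_le_fibreClosureDim g hV hU eUV φ hφ hqf hxU
    (by rw [← fibreDimAt_eq_of_max g hmax, hd])
  have hqp := comap_primeIdealOf g hV hU eUV φ hφ x hxU
  have hy₁V : y₁ ∈ V := hy₁.mem_open V.isOpen hxV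
  have hle : ∀ {a b : Y} (ha : a ∈ V) (hb : b ∈ V),
      hV.primeIdealOf ⟨a, ha⟩ ≤ hV.primeIdealOf ⟨b, hb⟩ ↔ a ⤳ b :=
    fun ha hb ↦ primeIdealOf_le_iff hV ha hb
  obtain ⟨q', hq', hq'c⟩ := exists_le_comap_eq_map_C φ hft hqf (hU.primeIdealOf ⟨x, hxU⟩)
    (hq.trans (congrArg (fun p : PrimeSpectrum _ ↦ p.asIdeal.map C) hqp).symm)
    (hV.primeIdealOf ⟨y₁, hy₁V⟩) (hqp.symm ▸ (hle hy₁V hxV).mpr hy₁) (fun p' hp' hPp' ↦ by
      obtain ⟨y', hy'V, rfl⟩ := exists_point_of_prime hV p'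
      rw [hqp] at hp'
      obtain ⟨x', hx', hgx'⟩ := hlift y' ((hle hy₁V hy'V).mp hPp') ((hle hy'V hxV).mp hp')
      refine ⟨hU.primeIdealOf ⟨x', hx'.mem_open U.isOpen hxU⟩,
        (primeIdealOf_le_iff hU _ _).mpr hx', ?_⟩
      rw [comap_primeIdealOf g hV hU eUV φ hφ]
      exact congrArg hV.primeIdealOf (Subtype.ext hgx'))
  obtain ⟨ζ, hζU, rfl⟩ := exists_point_of_prime hU q'
  have hgζ : g.base ζ = y₁ := by
    have h1 : PrimeSpectrum.comap (φ.comp C) (hU.primeIdealOf ⟨ζ, hζU⟩) = hV.primeIdealOf ⟨y₁, hy₁V⟩ := by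
      apply PrimeSpectrum.ext
      show (Ideal.comap φ (hU.primeIdealOf ⟨ζ, hζU⟩).asIdeal).comap C = _
      rw [hq'c]
      refine le_antisymm (fun a ha ↦ ?_) Ideal.le_comap_map
      have h' : (C a : MvPolynomial (Fin d) Γ(Y, V)) ∈ (hV.primeIdealOf ⟨y₁, hy₁V⟩).asIdeal.map C := ha
      have := MvPolynomial.mem_map_C_iff.mp h' 0
      rwa [MvPolynomial.coeff_zero_C] at this
    rw [comap_primeIdealOf g hV hU eUV φ hφ] at h1
    have := congrArg hV.fromSpec.base h1
    rwa [hV.fromSpec_primeIdealOf, hV.fromSpec_primeIdealOf] at this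
  subst hgζ
  refine ⟨ζ, (primeIdealOf_le_iff hU hζU hxU).mp hq', rfl, ?_⟩
  rw [hd]
  exact le_fibreClosureDim_of_comap_eq g hV hU eUV φ hφ hft hζU hq'c

/-- A nonzero polynomial over a valuation ring is a constant times one with a unit coefficient. -/
theorem exists_C_mul_eq {V : Type u} [CommRing V] [IsDomain V] [ValuationRing V] {σ : Type*}
    (P : MvPolynomial σ V) (hP : P ≠ 0) :
    ∃ (c : V) (P₀ : MvPolynomial σ V), c ≠ 0 ∧ P = C c * P₀ ∧ ∃ m, P₀.coeff m = 1 := by
  classical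
  have : ∀ s : Finset (σ →₀ ℕ), s.Nonempty → ∃ m ∈ s, ∀ m' ∈ s, P.coeff m ∣ P.coeff m' := by
    intro s hs
    induction hs using Finset.Nonempty.cons_induction with
    | singleton a => exact ⟨a, Finset.mem_singleton_self a, fun m' hm' ↦ by simp_all⟩
    | cons a s ha hs ih =>
      obtain ⟨m, hm, hdiv⟩ := ih
      obtain h | h := ValuationRing.dvd_total (P.coeff a) (P.coeff m)
      · exact ⟨a, Finset.mem_cons_self a s, fun m' hm' ↦ (Finset.mem_cons.mp hm').elim
          (fun e ↦ e ▸ dvd_rfl) fun h' ↦ h.trans (hdiv m' h')⟩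
      · exact ⟨m, Finset.mem_cons.mpr (Or.inr hm), fun m' hm' ↦ (Finset.mem_cons.mp hm').elim
          (fun e ↦ e ▸ h) (hdiv m')⟩
  obtain ⟨m, hm, hdiv⟩ := this P.support (by
    rwa [Finset.nonempty_iff_ne_empty, ne_eq, MvPolynomial.support_eq_empty])
  have hc : P.coeff m ≠ 0 := MvPolynomial.mem_support_iff.mp hm
  obtain ⟨P₀, hP₀⟩ : C (P.coeff m) ∣ P := by
    refine MvPolynomial.C_dvd_iff_dvd_coeff _ _ |>.mpr fun i ↦ ?_
    by_cases hi : i ∈ P.support
    · exact hdiv i hi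
    · rw [MvPolynomial.notMem_support_iff.mp hi]; exact dvd_zero _
  refine ⟨_, P₀, hc, hP₀, m, mul_left_cancel₀ hc ?_⟩
  rw [← MvPolynomial.coeff_C_mul, ← hP₀, mul_one]

/-- Universal openness at a maximal point of a fibre gives generizations with large fibres. -/
theorem exists_generization_of_isUnivOpenAt {x : X}
    (hmax : ∀ x' : X, g.base x' = g.base x → x ∈ closure {x'} → x' = x) (h : EGA43.IsUnivOpenAt g x)
    {y₁ : Y} (hy₁ : y₁ ⤳ g.base x) :
    ∃ ζ : X, ζ ⤳ x ∧ g.base ζ = y₁ ∧ FlatMor.fibreDimAt g x ≤ fibreClosureDim g ζ := by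
  obtain ⟨d, hd⟩ := exists_fibreDimAt_eq_nat g x
  obtain ⟨_, ⟨V, hV, rfl⟩, hxV, -⟩ :=
    Y.isBasis_affineOpens.exists_subset_of_mem_open (Set.mem_univ (g.base x)) isOpen_univ
  have hV : IsAffineOpen V := hV
  obtain ⟨U, hU, hxU, eUV, φ, hφ, hft, hqf⟩ := FibDimLib.exists_qf_affine_nhd g x hV hxV d hd
  have hq := comap_eq_of_le_fibreClosureDim g hV hU eUV φ hφ hqf hxU
    (by rw [← fibreDimAt_eq_of_max g hmax, hd])
  have hy₁V : y₁ ∈ V := hy₁.mem_open V.isOpen hxV
  let R := Γ(Y, V)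
  let p := hV.primeIdealOf ⟨g.base x, hxV⟩
  let p' := hV.primeIdealOf ⟨y₁, hy₁V⟩
  have hp'p : p'.asIdeal ≤ p.asIdeal := (primeIdealOf_le_iff hV hy₁V hxV).mpr hy₁
  -- a valuation ring of the residue field dominating the local ring
  let K := p'.asIdeal.ResidueField
  let L := Localization.AtPrime p.asIdeal
  let lam : L →+* K := IsLocalization.lift (M := p.asIdeal.primeCompl) (g := algebraMap R K)
    fun s ↦ IsUnit.mk0 _ fun e ↦ s.2 (hp'p (Ideal.algebraMap_residueField_eq_zero.mp e))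
  let I : Ideal lam.range := (IsLocalRing.maximalIdeal L).map lam.rangeRestrict
  have hker : RingHom.ker lam.rangeRestrict ≤ IsLocalRing.maximalIdeal L :=
    IsLocalRing.le_maximalIdeal (RingHom.ker_ne_top _)
  have hI : I.comap lam.rangeRestrict = IsLocalRing.maximalIdeal L := by
    rw [Ideal.comap_map_of_surjective _ lam.rangeRestrict_surjective, sup_eq_left,
      ← RingHom.ker_eq_comap_bot]
    exact hker
  obtain ⟨Vv, hVv, hnon⟩ := Ideal.image_subset_nonunits_valuationSubring I fun e ↦ by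
    rw [e, Ideal.comap_top] at hI
    exact (IsLocalRing.maximalIdeal.isMaximal L).ne_top hI.symm
  let ν : L →+* Vv := lam.codRestrict Vv.toSubring fun a ↦ hVv (Set.mem_range_self a)
  let ψ : R →+* Vv := ν.comp (algebraMap R L)
  have hψK : ∀ a : R, (ψ a : K) = algebraMap R K a := fun a ↦ IsLocalization.lift_eq _ a
  have hψker : RingHom.ker ψ = p'.asIdeal := by
    ext a
    rw [RingHom.mem_ker, ← Ideal.algebraMap_residueField_eq_zero (I := p'.asIdeal), ← hψK]
    exact ZeroMemClass.coe_eq_zero.symm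
  have hψmax : (IsLocalRing.maximalIdeal Vv).comap ψ = p.asIdeal := by
    show ((IsLocalRing.maximalIdeal Vv).comap ν).comap (algebraMap R L) = _
    have h1 : IsLocalRing.maximalIdeal L ≤ (IsLocalRing.maximalIdeal Vv).comap ν := fun a ha ↦ by
      have := hnon ⟨lam.rangeRestrict a, Ideal.mem_map_of_mem _ ha, rfl⟩
      exact (ValuationSubring.coe_mem_nonunits_iff (a := ν a)).mp this
    rw [← (IsLocalRing.maximalIdeal.isMaximal L).eq_of_le (Ideal.comap_ne_top ν Ideal.IsPrime.ne_top') h1]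
    exact IsLocalization.AtPrime.under_maximalIdeal L p.asIdeal
  -- the charts
  let uR : Spec Γ(X, U) ⟶ Spec (CommRingCat.of (MvPolynomial (Fin d) R)) :=
    Spec.map (CommRingCat.ofHom φ)
  let pr : Spec (CommRingCat.of (MvPolynomial (Fin d) R)) ⟶ Spec R :=
    Spec.map (CommRingCat.ofHom (C : R →+* MvPolynomial (Fin d) R))
  let gR := uR ≫ pr
  have hgR : gR ≫ hV.fromSpec = hU.fromSpec ≫ g := by
    simp only [gR, uR, pr, ← Spec.map_comp, ← CommRingCat.ofHom_comp, hφ, CommRingCat.ofHom_hom]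
    exact IsAffineOpen.SpecMap_appLE_fromSpec g hV hU eUV
  let xU : ↥(Spec Γ(X, U)) := hU.primeIdealOf ⟨x, hxU⟩
  have hxU' : hU.fromSpec.base xU = x := hU.fromSpec_primeIdealOf ⟨x, hxU⟩
  have h1 : EGA43.IsUnivOpenAt (hU.fromSpec ≫ g) xU :=
    IsUnivOpenAt.comp (fun Y' k x' _ W hW ↦
      ((pullback.snd hU.fromSpec k).isOpenEmbedding.isOpenMap.image_mem_nhds hW)) (hxU'.symm ▸ h)
  have h2 : EGA43.IsUnivOpenAt gR xU := by
    have sq : IsPullback (𝟙 _) gR (hU.fromSpec ≫ g) hV.fromSpec := by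
      refine ⟨⟨by rw [Category.id_comp, hgR]⟩, ⟨PullbackCone.IsLimit.mk _ (fun s ↦ s.fst)
        (fun s ↦ Category.comp_id _) (fun s ↦ ?_) fun s m h1 _ ↦ (Category.comp_id m).symm.trans h1⟩⟩
      refine (cancel_mono hV.fromSpec).mp ?_
      exact ((Category.assoc s.fst gR hV.fromSpec).trans (congrArg (fun m ↦ s.fst ≫ m) hgR)).trans
        s.condition
    exact IsUnivOpenAt.of_isPullback h1 sq xU rfl
  -- base change to the valuation ring
  let Ψ : MvPolynomial (Fin d) R →+* MvPolynomial (Fin d) Vv := MvPolynomial.map ψ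
  let prV : Spec (CommRingCat.of (MvPolynomial (Fin d) Vv)) ⟶ Spec (CommRingCat.of Vv) :=
    Spec.map (CommRingCat.ofHom (C : Vv →+* MvPolynomial (Fin d) Vv))
  have sqP : IsPullback (Spec.map (CommRingCat.ofHom (R := MvPolynomial (Fin d) R)
      (S := MvPolynomial (Fin d) Vv) Ψ)) prV pr (Spec.map (CommRingCat.ofHom (R := R) (S := Vv) ψ)) := by
    letI := ψ.toAlgebra
    let A₁ := MvPolynomial (Fin d) R
    let T₁ := MvPolynomial (Fin d) Vv
    letI := MvPolynomial.algebraMvPolynomial (σ := Fin d) (R := R) (S := Vv)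
    exact ((CommRingCat.isPushout_of_isPushout R A₁ Vv T₁).op.map Scheme.Spec).flip
  have squ := IsPullback.of_hasPullback uR (Spec.map (CommRingCat.ofHom (R := MvPolynomial (Fin d) R)
      (S := MvPolynomial (Fin d) Vv) Ψ))
  have sqf := squ.paste_vert sqP
  let mV := IsLocalRing.maximalIdeal Vv
  have hmT : (mV.map (C (σ := Fin d))).IsPrime := by
    have := MvPolynomial.ker_map (σ := Fin d) (Ideal.Quotient.mk mV)
    rw [Ideal.mk_ker] at this
    rw [← this]
    exact RingHom.ker_isPrime _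
  obtain ⟨x', hx'1, hx'2⟩ := image_fst_snd squ xU
    (⟨_, hmT⟩ : PrimeSpectrum (MvPolynomial (Fin d) Vv)) (by
      apply PrimeSpectrum.ext
      show (hU.primeIdealOf ⟨x, hxU⟩).asIdeal.comap φ = (mV.map C).comap Ψ
      rw [hq, show (hV.primeIdealOf ⟨g.base x, eUV hxU⟩).asIdeal = p.asIdeal from rfl, ← hψmax]
      ext P
      simp only [Ψ, Ideal.mem_comap, MvPolynomial.mem_map_C_iff, MvPolynomial.coeff_map]
      rfl)
  have hopen := IsUnivOpenAt.isOpenAt h2 sqf x' hx'1
  obtain ⟨z, hzx, hz0⟩ := (Groth.Agent.S3404.result _ x').1 hopen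
    (⟨⊥, Ideal.isPrime_bot⟩ : PrimeSpectrum Vv) ((PrimeSpectrum.le_iff_specializes _ _).mp bot_le)
  -- the generization maps to the generic point
  let Q : PrimeSpectrum (MvPolynomial (Fin d) Vv) :=
    (pullback.snd uR (Spec.map (CommRingCat.ofHom Ψ))).base z
  have hQ : Q.asIdeal.comap C = (⊥ : Ideal Vv) := by
    rw [Scheme.Hom.comp_apply] at hz0
    exact congrArg PrimeSpectrum.asIdeal hz0
  have hQm : Q.asIdeal ≤ mV.map C := by
    have := hzx.map (pullback.snd uR (Spec.map (CommRingCat.ofHom Ψ))).continuous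
    rw [hx'2] at this
    exact (PrimeSpectrum.le_iff_specializes Q ⟨_, hmT⟩).mpr this
  have hQbot : Q.asIdeal = ⊥ := by
    rw [eq_bot_iff]
    intro P hP
    by_contra hP0
    obtain ⟨c, P₀, hc, hPc, m, hm⟩ := exists_C_mul_eq P hP0
    rw [hPc] at hP
    rcases Q.isPrime.mem_or_mem hP with h' | h'
    · exact hc ((Ideal.mem_bot).mp (hQ ▸ (h' : c ∈ Q.asIdeal.comap C)))
    · have := MvPolynomial.mem_map_C_iff.mp (hQm h') m
      rw [hm] at this
      exact (IsLocalRing.maximalIdeal.isMaximal Vv).ne_top (Ideal.eq_top_of_isUnit_mem _ this isUnit_one)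
  let qζ : PrimeSpectrum Γ(X, U) := (pullback.fst uR (Spec.map (CommRingCat.ofHom Ψ))).base z
  have hqζc : qζ.asIdeal.comap φ = p'.asIdeal.map C := by
    have h' : uR.base qζ = (Spec.map (CommRingCat.ofHom Ψ)).base
        ((pullback.snd uR (Spec.map (CommRingCat.ofHom Ψ))).base z) := by
      rw [← Scheme.Hom.comp_apply, ← Scheme.Hom.comp_apply, pullback.condition]
    have h'' : qζ.asIdeal.comap φ = Q.asIdeal.comap Ψ := congrArg PrimeSpectrum.asIdeal h'
    rw [h'', hQbot, ← RingHom.ker_eq_comap_bot, MvPolynomial.ker_map, hψker]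
  obtain ⟨ζ, hζU, hζq⟩ := exists_point_of_prime hU qζ
  have hgζ : g.base ζ = y₁ := by
    have h1 : PrimeSpectrum.comap (φ.comp C) qζ = p' := by
      apply PrimeSpectrum.ext
      show (Ideal.comap φ qζ.asIdeal).comap C = _
      rw [hqζc]
      refine le_antisymm (fun a ha ↦ ?_) Ideal.le_comap_map
      have h' : (C a : MvPolynomial (Fin d) R) ∈ p'.asIdeal.map C := ha
      have := MvPolynomial.mem_map_C_iff.mp h' 0
      rwa [MvPolynomial.coeff_zero_C] at this
    rw [← hζq, comap_primeIdealOf g hV hU eUV φ hφ] at h1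
    have := congrArg hV.fromSpec.base h1
    rwa [hV.fromSpec_primeIdealOf, hV.fromSpec_primeIdealOf] at this
  subst hgζ
  have hsp : qζ ≤ xU := by
    have := hzx.map (pullback.fst uR (Spec.map (CommRingCat.ofHom Ψ))).continuous
    rw [hx'1] at this
    exact (PrimeSpectrum.le_iff_specializes _ _).mpr this
  refine ⟨ζ, (primeIdealOf_le_iff hU hζU hxU).mp (hζq.symm ▸ hsp), rfl, ?_⟩
  rw [hd]
  exact le_fibreClosureDim_of_comap_eq g hV hU eUV φ hφ hft hζU (hζq.symm ▸ hqζc)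

end UOpenLib
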