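import Mathlib
import Groth.Agent.UOpenLib.Generization
import Groth.Agent.UOpenLib.AffineSpace
import Groth.Agent.S4928
import Groth.Agent.DvrDom.Points

/-!
# Universal openness over geometrically unibranch points
-/

set_option autoImplicit false

universe u

open CategoryTheory Limits AlgebraicGeometry TopologicalSpace Topology MvPolynomial

namespace UOpenLib

variable {X Y : Scheme.{u}} (g : X ⟶ Y) [LocallyOfFiniteType g]

/-- Universal openness from a large generization over the generic point, at a geometrically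
unibranch point. -/
theorem isUnivOpenAt_of_unibranch [IsLocallyNoetherian Y] (x : X)
    (hy : CAlg2.IsGeomUnibranch (Y.presheaf.stalk (g.base x)))
    {ζ : X} (hζx : ζ ⤳ x) (hη : closure {g.base ζ} ∈ irreducibleComponents (Y : Type u))
    (hdim : FlatMor.fibreDimAt g x ≤ fibreClosureDim g ζ) : EGA43.IsUnivOpenAt g x := by
  obtain ⟨e, hd⟩ := exists_fibreDimAt_eq_nat g x
  obtain ⟨_, ⟨V, hV, rfl⟩, hxV, -⟩ :=
    Y.isBasis_affineOpens.exists_subset_of_mem_open (Set.mem_univ (g.base x)) isOpen_univ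
  have hV : IsAffineOpen V := hV
  obtain ⟨U, hU, hxU, eUV, φ, hφ, hft, hqf⟩ := FibDimLib.exists_qf_affine_nhd g x hV hxV e hd
  have hζU : ζ ∈ U := hζx.mem_open U.isOpen hxU
  have hζV : g.base ζ ∈ V := eUV hζU
  let qζ : PrimeSpectrum Γ(X, U) := hU.primeIdealOf ⟨ζ, hζU⟩
  let p : PrimeSpectrum Γ(Y, V) := hV.primeIdealOf ⟨g.base ζ, hζV⟩
  have hq : qζ.asIdeal.comap φ = p.asIdeal.map C :=
    comap_eq_of_le_fibreClosureDim g hV hU eUV φ hφ hqf hζU (hd ▸ hdim)
  -- pass to the spectrum of the affine open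
  let g₁ := hU.fromSpec ≫ g
  let x' : ↥(Spec Γ(X, U)) := hU.primeIdealOf ⟨x, hxU⟩
  have hx' : hU.fromSpec.base x' = x := hU.fromSpec_primeIdealOf ⟨x, hxU⟩
  suffices H : EGA43.IsUnivOpenAt g₁ x' from hx' ▸ IsUnivOpenAt.of_comp H
  let y := g₁.base x'
  have hy' : y = g.base x := by
    show g₁.base x' = _
    rw [Scheme.Hom.comp_apply, hx']
  have hyV : y ∈ V := hy' ▸ hxV
  let O := Y.presheaf.stalk y
  have hu : CAlg2.IsGeomUnibranch O :=
    (fun y₀ (h : y₀ = g.base x) ↦ by subst h; exact hy :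
      ∀ y₀, y₀ = g.base x → CAlg2.IsGeomUnibranch (Y.presheaf.stalk y₀)) y hy'
  let ψ : Γ(Y, V) →+* O := (Y.presheaf.germ V y hyV).hom
  let a := Y.fromSpecStalk y
  let aR : Spec O ⟶ Spec Γ(Y, V) := Spec.map (CommRingCat.ofHom ψ)
  have haR : aR ≫ hV.fromSpec = a := hV.fromSpecStalk_eq_fromSpecStalk hyV
  let uR : Spec Γ(X, U) ⟶ Spec (CommRingCat.of (MvPolynomial (Fin e) Γ(Y, V))) :=
    Spec.map (CommRingCat.ofHom φ)
  let gR := uR ≫ polyProj Γ(Y, V) e
  have hgR : gR ≫ hV.fromSpec = g₁ := by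
    simp only [gR, uR, polyProj, ← Spec.map_comp, ← CommRingCat.ofHom_comp, hφ,
      CommRingCat.ofHom_hom]
    exact IsAffineOpen.SpecMap_appLE_fromSpec g hV hU eUV
  have : LocallyOfFinitePresentation g₁ := locallyOfFinitePresentation_of_isLocallyNoetherian g₁
  obtain ⟨x₁, hx₁, hx₁c⟩ := Scheme.Pullback.exists_preimage_pullback (f := g₁) (g := a) x'
    (IsLocalRing.closedPoint O) (Scheme.fromSpecStalk_closedPoint).symm
  refine (Groth.Agent.S4928.result g₁ x' x₁ hx₁).mpr ?_
  let b := pullback.fst g₁ a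
  let f₁ := pullback.snd g₁ a
  have sq₀ : IsPullback b f₁ gR aR := by
    have hw : b ≫ gR = f₁ ≫ aR := by
      refine (cancel_mono hV.fromSpec).mp ?_
      exact (Category.assoc b gR hV.fromSpec).trans ((congrArg (fun m ↦ b ≫ m) hgR).trans
        (pullback.condition.trans ((congrArg (fun m ↦ f₁ ≫ m) haR).symm.trans
          (Category.assoc f₁ aR hV.fromSpec).symm)))
    refine ⟨⟨hw⟩, ⟨PullbackCone.IsLimit.mk _ (fun s ↦ pullback.lift s.fst s.snd ?_)
      (fun s ↦ pullback.lift_fst _ _ _) (fun s ↦ pullback.lift_snd _ _ _)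
      fun s m h1 h2 ↦ pullback.hom_ext (by rw [pullback.lift_fst]; exact h1)
        (by rw [pullback.lift_snd]; exact h2)⟩⟩
    exact (congrArg (fun m ↦ s.fst ≫ m) hgR).symm.trans
      ((Category.assoc s.fst gR hV.fromSpec).symm.trans
        ((congrArg (fun m ↦ m ≫ hV.fromSpec) s.condition).trans
          ((Category.assoc s.snd aR hV.fromSpec).trans (congrArg (fun m ↦ s.snd ≫ m) haR))))
  have sqP := isPullback_polyProj ψ e
  let u₁ := sqP.lift (b ≫ uR) f₁ (by rw [Category.assoc]; exact sq₀.w)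
  have hu₁ : u₁ ≫ polyProj O e = f₁ := sqP.lift_snd _ _ _
  have squ : IsPullback b u₁ uR _ :=
    IsPullback.of_bot (hu₁.symm ▸ sq₀) (sqP.lift_fst _ _ _).symm sqP
  have : LocallyOfFiniteType uR := HasRingHomProperty.Spec_iff.mpr hft
  have : LocallyQuasiFinite uR := HasRingHomProperty.Spec_iff.mpr hqf
  have : LocallyOfFiniteType u₁ := MorphismProperty.of_isPullback squ ‹_›
  have : LocallyQuasiFinite u₁ := MorphismProperty.of_isPullback squ ‹_›
  have hnil : (nilradical O).IsPrime := (Ideal.Quotient.isDomain_iff_prime _).mp hu.1.1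
  let n : ↥(Spec O) := (⟨nilradical O, hnil⟩ : PrimeSpectrum O)
  -- the generic point of the local scheme
  obtain ⟨r, hr⟩ : g.base ζ ∈ Set.range a.base := by
    rw [Scheme.range_fromSpecStalk]
    exact hy'.symm ▸ hζx.map g.continuous
  have hn : n ⤳ r :=
    (PrimeSpectrum.le_iff_specializes _ _).mp
      (show nilradical O ≤ (r : PrimeSpectrum O).asIdeal from nilradical_le_prime _)
  have han : a.base n = g.base ζ :=
    FibDimLib.eq_of_specializes_of_closure_mem hη (hr ▸ hn.map a.continuous)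
  have hnp : PrimeSpectrum.comap ψ n = p := by
    refine hV.fromSpec.isOpenEmbedding.injective ?_
    refine Eq.trans ?_ (hV.fromSpec_primeIdealOf ⟨g.base ζ, hζV⟩).symm
    show hV.fromSpec.base (aR.base n) = g.base ζ
    rw [← Scheme.Hom.comp_apply, haR, han]
  have hprime : ((nilradical O).map (C (σ := Fin e))).IsPrime := by
    have := MvPolynomial.ker_map (σ := Fin e) (Ideal.Quotient.mk (nilradical O))
    rw [Ideal.mk_ker] at this
    rw [← this]
    exact RingHom.ker_isPrime _
  obtain ⟨ζ₁, hζ₁, hζ₁u⟩ := image_fst_snd squ qζ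
    (⟨_, hprime⟩ : PrimeSpectrum (MvPolynomial (Fin e) O)) (by
      apply PrimeSpectrum.ext
      show qζ.asIdeal.comap φ = ((nilradical O).map C).comap (MvPolynomial.map ψ)
      rw [hq, ← hnp]
      ext P
      simp only [Ideal.mem_comap, MvPolynomial.mem_map_C_iff, MvPolynomial.coeff_map]
      rfl)
  have hsp : ζ₁ ⤳ x₁ := by
    rw [← b.isEmbedding.isInducing.specializes_iff, hζ₁, hx₁]
    exact (PrimeSpectrum.le_iff_specializes _ _).mp ((primeIdealOf_le_iff hU hζU hxU).mpr hζx)
  have := isUnivOpenAt_of_quasiFinite_polyProj O hu e u₁ x₁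
    (by rw [hu₁]; exact hx₁c) ζ₁ hsp (congrArg PrimeSpectrum.asIdeal hζ₁u)
  rwa [hu₁] at this

omit [LocallyOfFiniteType g] in
/-- Universal openness passes to specializations in the same fibre. -/
theorem isUnivOpenAt_of_specializes {x₀ x : X} (hsp : x₀ ⤳ x) (hg : g.base x₀ = g.base x)
    (h : EGA43.IsUnivOpenAt g x₀) : EGA43.IsUnivOpenAt g x := by
  intro Y' k x' hx'
  let g' := pullback.snd g k
  let y' := g'.base x'
  have hy : g.base x = k.base y' := by
    rw [← hx', ← Scheme.Hom.comp_apply, pullback.condition, Scheme.Hom.comp_apply]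
  have sq := isPullback_fiberToSpecResidueField_of_isPullback (IsPullback.of_hasPullback g k) y'
  have hfl : Flat (Spec.map (k.residueFieldMap y')) := by
    refine HasRingHomProperty.Spec_iff.mpr ?_
    letI := (k.residueFieldMap y').hom.toAlgebra
    exact RingHom.flat_algebraMap_iff.mpr inferInstance
  set m := pullback.map _ _ _ _ (pullback.fst g k) (Spec.map (k.residueFieldMap y')) k
    (IsPullback.of_hasPullback g k).w.symm (k.SpecMap_residueFieldMap_fromSpecResidueField y').symm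
  have : Flat m := MorphismProperty.of_isPullback sq.flip hfl
  have hm : m ≫ g.fiberι (k.base y') = g'.fiberι y' ≫ pullback.fst g k := pullback.lift_fst _ _ _
  let p : g'.fiber y' := g'.asFiber x'
  let z₀ : g.fiber (k.base y') := (g.fiberHomeo (k.base y')).symm ⟨x₀, hg.trans hy⟩
  have hz₀ : (g.fiberι (k.base y')).base z₀ = x₀ := g.fiberι_fiberHomeo_symm _ _
  have hmp : (g.fiberι (k.base y')).base (m.base p) = x :=
    (congrArg (fun q ↦ q.base p) hm).trans
      ((congrArg (pullback.fst g k).base (g'.fiberι_asFiber x')).trans hx')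
  have hz : z₀ ⤳ m.base p := by
    rw [← (g.fiberι (k.base y')).isEmbedding.isInducing.specializes_iff, hz₀, hmp]
    exact hsp
  obtain ⟨p₀, hp₀, hmp₀⟩ := Flat.generalizingMap m hz
  let x₀' := (g'.fiberι y').base p₀
  have hx₀'x : x₀' ⤳ x' := by
    have := hp₀.map (g'.fiberι y').continuous
    rwa [g'.fiberι_asFiber] at this
  have hx₀' : (pullback.fst g k).base x₀' = x₀ :=
    (congrArg (fun q ↦ q.base p₀) hm).symm.trans
      ((congrArg (g.fiberι (k.base y')).base hmp₀).trans hz₀)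
  have hy₀ : g'.base x₀' = y' := by
    have h := Set.mem_range_self (f := (g'.fiberι y').base) p₀
    rw [g'.range_fiberι] at h
    exact h
  intro W hW
  obtain ⟨O, hOW, hO, hxO⟩ := mem_nhds_iff.mp hW
  have := h Y' k x₀' hx₀' O (hO.mem_nhds (hx₀'x.mem_open hO hxO))
  rw [hy₀] at this
  exact Filter.mem_of_superset this (Set.image_mono hOW)

/-- Dimensions of closures in fibres, for points of fibres. -/
theorem fibreClosureDim_fiberι (y : Y) (z : g.fiber y) :
    fibreClosureDim g ((g.fiberι y).base z) = topologicalKrullDim (closure ({z} : Set (g.fiber y))) := by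
  let ι := g.fiberι y
  have hg : g.base (ι.base z) = y := by
    have h := Set.mem_range_self (f := ι.base) z
    rw [g.range_fiberι] at h
    exact h
  rw [fibreClosureDim_eq_inter, hg]
  have h : ι.base '' closure {z} = closure {ι.base z} ∩ g.base ⁻¹' {y} := by
    rw [ι.isEmbedding.isInducing.closure_eq_preimage_closure_image, Set.image_singleton,
      Set.image_preimage_eq_inter_range, g.range_fiberι]
  let e := (ι.isEmbedding.homeomorphImage (closure {z})).trans (Homeomorph.setCongr h)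
  exact (IsHomeomorph.topologicalKrullDim_eq e e.isHomeomorph).symm

/-- Dimension of the fibre closure grows under generization in a fibre. -/
theorem fibreClosureDim_mono {ζ₀ ζ : X} (h : ζ₀ ⤳ ζ) (hg : g.base ζ₀ = g.base ζ) :
    fibreClosureDim g ζ ≤ fibreClosureDim g ζ₀ := by
  rw [fibreClosureDim_eq_inter, fibreClosureDim_eq_inter, hg]
  exact (IsEmbedding.inclusion
    (Set.inter_subset_inter_left _ h.closure_subset)).isInducing.topologicalKrullDim_le

omit [LocallyOfFiniteType g] in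
/-- Chains of points in a subset bound its dimension. -/
theorem le_topologicalKrullDim_of_chain {A : Type*} [TopologicalSpace A] [T0Space A] {n : ℕ}
    (c : Fin (n + 1) → A) (hc : Function.Injective c) (hcs : ∀ i j, i ≤ j → c i ⤳ c j) :
    (n : WithBot ℕ∞) ≤ topologicalKrullDim A := by
  let r (i : Fin (n + 1)) : IrreducibleCloseds A :=
    ⟨closure {c i.rev}, isIrreducible_singleton.closure, isClosed_closure⟩
  refine le_iSup_of_le (LTSeries.mk n r fun i j hij ↦ ?_) le_rfl
  have h1 : c j.rev ⤳ c i.rev := hcs _ _ (Fin.rev_le_rev.mpr hij.le)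
  refine lt_of_le_of_ne h1.closure_subset fun e ↦ ?_
  have h2 : c i.rev ⤳ c j.rev := specializes_iff_mem_closure.mpr
    ((congrArg (fun s : IrreducibleCloseds A ↦ (s : Set A)) e).symm.le (subset_closure rfl))
  exact hij.ne (Fin.rev_injective (hc (h1.antisymm h2).eq.symm))

omit [LocallyOfFiniteType g] in
/-- Comparison of dimensions by natural numbers. -/
theorem le_of_forall_nat_le {a b : WithBot ℕ∞} (h : ∀ n : ℕ, (n : WithBot ℕ∞) ≤ a → (n : WithBot ℕ∞) ≤ b) :
    a ≤ b := by
  induction a with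
  | bot => exact bot_le
  | coe a =>
    induction a using ENat.recTopCoe with
    | coe n => exact h n le_rfl
    | top =>
      induction b with
      | bot => exact absurd (h 0 (WithBot.coe_le_coe.mpr le_top)) (by simp)
      | coe b =>
        refine WithBot.coe_le_coe.mpr (top_le_iff.mpr (ENat.eq_top_iff_forall_ge.mpr fun n ↦ ?_))
        exact WithBot.coe_le_coe.mp (h n (WithBot.coe_le_coe.mpr le_top))

/-- A large fibre closure inside an open set gives a large open part of the fibre. -/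
theorem le_dim_inter_of_le_fibreClosureDim {ζ : X} (U : X.Opens) (hζ : ζ ∈ U) {n : ℕ}
    (hn : (n : WithBot ℕ∞) ≤ fibreClosureDim g ζ) :
    (n : WithBot ℕ∞) ≤ topologicalKrullDim ↥((U : Set X) ∩ g.base ⁻¹' {g.base ζ}) := by
  obtain ⟨c, hc, hcs, hcU⟩ := exists_prime_chain g hζ hn
  exact le_topologicalKrullDim_of_chain
    (fun i ↦ (⟨c i, (hcU i).1, (hcU i).2.1⟩ : ↥((U : Set X) ∩ g.base ⁻¹' {g.base ζ})))
    (fun i j e ↦ hc (congrArg Subtype.val e))
    fun i j hij ↦ IsInducing.subtypeVal.specializes_iff.mp (hcs i j hij)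

/-- A chain in an open part of a fibre lies below a maximal point of the fibre in that open part. -/
theorem exists_max_of_le_dim_inter (U : X.Opens) (y : Y) {n : ℕ}
    (hn : (n : WithBot ℕ∞) ≤ topologicalKrullDim ↥((U : Set X) ∩ g.base ⁻¹' {y})) :
    ∃ x₀ : X, x₀ ∈ U ∧ g.base x₀ = y ∧
      (∀ x' : X, g.base x' = g.base x₀ → x₀ ∈ closure {x'} → x' = x₀) ∧
      (n : WithBot ℕ∞) ≤ fibreClosureDim g x₀ := by
  let ι := g.fiberι y
  let W := ι ⁻¹ᵁ U
  let r : ↥((U : Set X) ∩ g.base ⁻¹' {y}) → ↥(W : Set (g.fiber y)) := fun a ↦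
    ⟨(g.fiberHomeo y).symm ⟨a.1, a.2.2⟩,
      show ι.base _ ∈ U by rw [g.fiberι_fiberHomeo_symm]; exact a.2.1⟩
  have hr : IsInducing r := by
    refine IsInducing.of_comp ?_ continuous_subtype_val ?_
    · exact ((g.fiberHomeo y).symm.continuous.comp
        (continuous_subtype_val.subtype_mk fun a ↦ a.2.2)).subtype_mk _
    · exact (g.fiberHomeo y).symm.isInducing.comp (IsEmbedding.inclusion Set.inter_subset_right).isInducing
  have hn' := hn.trans hr.topologicalKrullDim_le
  have : QuasiSober ↥(W : Set (g.fiber y)) := inferInstanceAs (QuasiSober (W : Scheme.{u}))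
  obtain ⟨c, hc, hcs⟩ := FibDimLib.exists_specChain hn'
  obtain ⟨z, hz, hzc⟩ := DvrDomLib.exists_generic_specializes (c 0).1
  refine ⟨ι.base z, hzc.mem_open W.isOpen (c 0).2, ?_, max_of_closure_mem g hz, ?_⟩
  · have h := Set.mem_range_self (f := ι.base) z
    rw [g.range_fiberι] at h
    exact h
  · rw [fibreClosureDim_fiberι]
    exact le_topologicalKrullDim_of_chain
      (fun i ↦ (⟨(c i).1, (hzc.trans ((hcs 0 i (Fin.zero_le i)).map continuous_subtype_val)).mem_closure⟩ :
        closure ({z} : Set (g.fiber y))))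
      (fun i j e ↦ hc (Subtype.ext (congrArg (fun w : closure ({z} : Set (g.fiber y)) ↦ w.1) e)))
      fun i j hij ↦ IsInducing.subtypeVal.specializes_iff.mp ((hcs i j hij).map continuous_subtype_val)

/-- If all neighbourhoods of `x` have large fibres over `η`, a large generization lies over `η`. -/
theorem exists_generization_of_dim (x : X) {η : Y} {n : ℕ}
    (h : ∀ U : X.Opens, x ∈ U → (n : WithBot ℕ∞) ≤ topologicalKrullDim ↥((U : Set X) ∩ g.base ⁻¹' {η})) :
    ∃ ζ : X, ζ ⤳ x ∧ g.base ζ = η ∧ (n : WithBot ℕ∞) ≤ fibreClosureDim g ζ := by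
  obtain ⟨U, hU, hxU, -⟩ := exists_isAffineOpen_mem_and_subset (x := x) (U := ⊤) trivial
  let ι := g.fiberι η
  have : LocallyOfFiniteType (g.fiberToSpecResidueField η) := lft_fiberToSpec g η
  have hF : IsLocallyNoetherian (g.fiber η) :=
    LocallyOfFiniteType.isLocallyNoetherian (g.fiberToSpecResidueField η)
  obtain ⟨_, ⟨V, hV, rfl⟩, hxV, -⟩ :=
    Y.isBasis_affineOpens.exists_subset_of_mem_open (Set.mem_univ (g.base x)) isOpen_univ
  -- finitely many maximal points of the fibre inside the affine neighbourhood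
  let M : Set X := {z | z ∈ U ∧ g.base z = η ∧
    ∀ x' : X, g.base x' = g.base z → z ∈ closure {x'} → x' = z}
  have hM : M.Finite := by
    have : QuasiCompact ι := MorphismProperty.pullback_fst _ _ inferInstance
    let W := ι ⁻¹ᵁ U
    have hWc : IsCompact (W : Set (g.fiber η)) := QuasiCompact.isCompact_preimage (f := ι) _ U.isOpen hU.isCompact
    have : CompactSpace (W : Scheme.{u}) := isCompact_iff_compactSpace.mp hWc
    have : IsNoetherian (W : Scheme.{u}) := {}
    have hfin := NoetherianSpace.finite_irreducibleComponents (α := ↥(W : Scheme.{u}))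
    refine Set.Finite.of_finite_image (f := fun z ↦ (W.ι ≫ ι).base ⁻¹' closure {z}) (hfin.subset ?_) ?_
    · rintro _ ⟨z, ⟨hzU, hzη, hzmax⟩, rfl⟩
      obtain ⟨w, rfl⟩ : z ∈ Set.range ι.base := by rw [g.range_fiberι]; exact hzη
      have hw : closure {w} ∈ irreducibleComponents (g.fiber η : Type u) :=
        FibDimLib.closure_mem_irreducibleComponents_of_max fun v hv ↦ ι.isEmbedding.injective
          (hzmax _ (by
            have h1 := Set.mem_range_self (f := ι.base) v
            rw [g.range_fiberι] at h1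
            exact h1.trans hzη.symm) (hv.map ι.continuous).mem_closure)
      have he : (W.ι ≫ ι).base ⁻¹' closure {ι.base w} = W.ι.base ⁻¹' closure {w} := by
        rw [ι.isEmbedding.isInducing.closure_eq_preimage_closure_image {w}, Set.image_singleton]
        rfl
      show (W.ι ≫ ι).base ⁻¹' closure {ι.base w} ∈ _
      rw [he]
      exact preimage_mem_irreducibleComponents hw W.ι.isOpenEmbedding
        ⟨w, subset_closure rfl, by rw [W.range_ι]; exact hzU⟩
    · rintro a ⟨haU, haη, hamax⟩ b ⟨hbU, hbη, hbmax⟩ hab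
      obtain ⟨w, rfl⟩ : a ∈ Set.range ι.base := by rw [g.range_fiberι]; exact haη
      have h1 : (⟨w, haU⟩ : W) ∈ (W.ι ≫ ι).base ⁻¹' closure {b} :=
        (Set.ext_iff.mp (hab : (W.ι ≫ ι).base ⁻¹' closure {ι.base w} = (W.ι ≫ ι).base ⁻¹' closure {b})
          ⟨w, haU⟩).mp (subset_closure rfl : ι.base w ∈ closure {ι.base w})
      exact (hamax b (hbη.trans haη.symm) h1).symm
  let B : Set X := ⋃ z ∈ {z ∈ M | ¬ z ⤳ x}, closure {z}
  have hB : IsClosed B := (hM.subset fun _ h ↦ h.1).isClosed_biUnion fun _ _ ↦ isClosed_closure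
  let U' : X.Opens := ⟨(U : Set X) \ B, U.isOpen.sdiff hB⟩
  have hxU' : x ∈ U' := ⟨hxU, by
    simp only [B, Set.mem_iUnion, not_exists]
    exact fun z hz hx ↦ hz.2 (specializes_iff_mem_closure.mpr hx)⟩
  obtain ⟨ζ, hζU', hζη, hζmax, hζd⟩ := exists_max_of_le_dim_inter g U' η (h U' hxU')
  refine ⟨ζ, ?_, hζη, hζd⟩
  by_contra hζx
  exact hζU'.2 (Set.mem_biUnion (x := ζ) ⟨⟨hζU'.1, hζη, hζmax⟩, hζx⟩ (subset_closure rfl))

/-- A large generization over the generic point of a component gives a component of `X` with the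
fibre dimensions of the point. -/
theorem exists_component_of_generization {x x₀ ζ : X} (hx₀ : x₀ ⤳ x) (hx₀g : g.base x₀ = g.base x)
    (hx₀d : fibreClosureDim g x₀ = FlatMor.fibreDimAt g x) (hζ : ζ ⤳ x₀)
    (hη : closure {g.base ζ} ∈ irreducibleComponents (Y : Type u))
    (hdim : FlatMor.fibreDimAt g x ≤ fibreClosureDim g ζ) :
    ∃ Z ∈ irreducibleComponents (X : Type u), ∃ hx : x ∈ Z,
      closure (g.base '' Z) = closure {g.base ζ} ∧
      ∀ η : Y, closure ({η} : Set Y) = closure {g.base ζ} →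
        FlatMor.fibreDimAt g x = FlatMor.localDim ↥(Z ∩ g.base ⁻¹' {g.base x}) ⟨x, ⟨hx, rfl⟩⟩ ∧
        FlatMor.localDim ↥(Z ∩ g.base ⁻¹' {g.base x}) ⟨x, ⟨hx, rfl⟩⟩ =
          topologicalKrullDim ↥(Z ∩ g.base ⁻¹' {η}) := by
  obtain ⟨ζ₀, hζ₀, hζ₀ζ⟩ := DvrDomLib.exists_generic_specializes ζ
  have hgζ₀ : g.base ζ₀ = g.base ζ :=
    FibDimLib.eq_of_specializes_of_closure_mem hη (hζ₀ζ.map g.continuous)
  have hxZ : x ∈ closure {ζ₀} := ((hζ₀ζ.trans hζ).trans hx₀).mem_closure
  refine ⟨closure {ζ₀}, hζ₀, hxZ, ?_, fun η hη' ↦ ?_⟩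
  · rw [closure_image_closure g.continuous, Set.image_singleton, hgζ₀]
  have hη0 : η = g.base ζ₀ := by
    rw [hgζ₀]
    exact ((specializes_iff_mem_closure.mpr (hη'.symm ▸ subset_closure rfl : g.base ζ ∈ closure {η})).antisymm
      (specializes_iff_mem_closure.mpr (hη' ▸ subset_closure rfl : η ∈ closure {g.base ζ}))).eq
  subst hη0
  rw [← fibreClosureDim_eq_inter]
  obtain ⟨d, hd⟩ := exists_fibreDimAt_eq_nat g x
  have h1 : FlatMor.localDim ↥(closure {ζ₀} ∩ g.base ⁻¹' {g.base x}) ⟨x, ⟨hxZ, rfl⟩⟩ ≤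
      FlatMor.fibreDimAt g x := by
    let r : ↥(closure {ζ₀} ∩ g.base ⁻¹' {g.base x}) → g.fiber (g.base x) := fun a ↦
      (g.fiberHomeo (g.base x)).symm ⟨a.1, a.2.2⟩
    have hr : IsInducing r := (g.fiberHomeo (g.base x)).symm.isInducing.comp
      (IsEmbedding.inclusion Set.inter_subset_right).isInducing
    exact FibDimLib.localDim_le_of_isInducing hr _
  have h2 : FlatMor.fibreDimAt g x ≤
      FlatMor.localDim ↥(closure {ζ₀} ∩ g.base ⁻¹' {g.base x}) ⟨x, ⟨hxZ, rfl⟩⟩ := by
    rw [hd]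
    refine le_iInf fun W ↦ ?_
    obtain ⟨O, hO, hOW⟩ := isOpen_induced_iff.mp W.1.isOpen
    have hxO : x ∈ O := by
      have := W.2
      rw [← SetLike.mem_coe, ← hOW] at this
      exact this
    obtain ⟨c, hc, hcs, hcU⟩ := exists_prime_chain g (U := ⟨O, hO⟩) (ζ := x₀)
      (hx₀.mem_open hO hxO) (n := d) (by rw [hx₀d, hd])
    have hmem : ∀ i, c i ∈ closure {ζ₀} ∩ g.base ⁻¹' {g.base x} := fun i ↦
      ⟨((hζ₀ζ.trans hζ).trans (hcU i).2.2).mem_closure, (hcU i).2.1.trans hx₀g⟩
    refine le_topologicalKrullDim_of_chain (fun i ↦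
      (⟨⟨c i, hmem i⟩, by rw [← hOW]; exact (hcU i).1⟩ : ↥(W.1 : Set ↥(closure {ζ₀} ∩ g.base ⁻¹' {g.base x}))))
      (fun i j e ↦ hc (congrArg (fun a ↦ a.1.1) e)) fun i j hij ↦ ?_
    exact IsInducing.subtypeVal.specializes_iff.mp
      (IsInducing.subtypeVal.specializes_iff.mp (hcs i j hij))
  have heq := le_antisymm h2 h1
  refine ⟨heq, le_antisymm (h1.trans (hdim.trans (fibreClosureDim_mono g hζ₀ζ hgζ₀))) ?_⟩
  exact (fibreClosureDim_le_fibreDimAt g ((hζ₀ζ.trans hζ).trans hx₀)).trans heq.le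

end UOpenLib

namespace UOpenLib

variable {X Y : Scheme.{u}} (g : X ⟶ Y) [LocallyOfFiniteType g]

/-- Universal openness at a maximal point of a fibre from a component with equal fibre dimensions. -/
theorem isUnivOpenAt_of_component [IsLocallyNoetherian Y] (x : X)
    (hmax : ∀ x' : X, g.base x' = g.base x → x ∈ closure {x'} → x' = x)
    (hy : CAlg2.IsGeomUnibranch (Y.presheaf.stalk (g.base x)))
    (h : ∀ Y₀ ∈ irreducibleComponents (Y : Type u), g.base x ∈ Y₀ →
      ∃ Z ∈ irreducibleComponents (X : Type u), ∃ hx : x ∈ Z, closure (g.base '' Z) = Y₀ ∧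
        ∀ η : Y, closure ({η} : Set Y) = Y₀ →
          FlatMor.localDim ↥(Z ∩ g.base ⁻¹' {g.base x}) ⟨x, ⟨hx, rfl⟩⟩ =
            topologicalKrullDim ↥(Z ∩ g.base ⁻¹' {η})) :
    EGA43.IsUnivOpenAt g x := by
  obtain ⟨Z, hZ, hxZ, hdom, hdims⟩ := h _ (irreducibleComponent_mem_irreducibleComponents (g.base x))
    mem_irreducibleComponent
  have hgen := (hZ.1 : IsIrreducible Z).isGenericPoint_genericPoint_closure
  rw [closure_eq_iff_isClosed.mpr (isClosed_of_mem_irreducibleComponents _ hZ)] at hgen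
  set ζ := (hZ.1 : IsIrreducible Z).genericPoint with hζdef
  have hζx : ζ ⤳ x := hgen.specializes hxZ
  have hc : closure {g.base ζ} = irreducibleComponent (g.base x) := by
    rw [← hdom, ← hgen.def, closure_image_closure g.continuous, Set.image_singleton]
  refine isUnivOpenAt_of_unibranch g x hy hζx
    (hc.symm ▸ irreducibleComponent_mem_irreducibleComponents _) ?_
  rw [fibreClosureDim_eq_inter, hgen.def, ← hdims (g.base ζ) hc, fibreDimAt_eq_of_max g hmax]
  obtain ⟨d, hd⟩ := exists_fibreClosureDim_eq_nat g x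
  rw [hd]
  refine le_iInf fun W ↦ ?_
  obtain ⟨O, hO, hOW⟩ := isOpen_induced_iff.mp W.1.isOpen
  have hxO : x ∈ O := by
    have := W.2
    rw [← SetLike.mem_coe, ← hOW] at this
    exact this
  obtain ⟨c, hc', hcs, hcU⟩ := exists_prime_chain g (U := ⟨O, hO⟩) (ζ := x) hxO (n := d) hd.ge
  have hmem : ∀ i, c i ∈ Z ∩ g.base ⁻¹' {g.base x} := fun i ↦
    ⟨hgen.def ▸ (hζx.trans (hcU i).2.2).mem_closure, (hcU i).2.1⟩
  refine le_topologicalKrullDim_of_chain (fun i ↦
    (⟨⟨c i, hmem i⟩, by rw [← hOW]; exact (hcU i).1⟩ : ↥(W.1 : Set ↥(Z ∩ g.base ⁻¹' {g.base x}))))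
    (fun i j e ↦ hc' (congrArg (fun a ↦ a.1.1) e)) fun i j hij ↦ ?_
  exact IsInducing.subtypeVal.specializes_iff.mp
    (IsInducing.subtypeVal.specializes_iff.mp (hcs i j hij))

end UOpenLib
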