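import Mathlib
import Groth.Agent.UOpenLib.Unibranch
import Groth.Agent.UOpenLib.Generization
import Groth.Agent.UOpenLib.AffineSpace
import Groth.Agent.S4447

/-!
# Universal openness of quasi-finite morphisms to affine space
-/

set_option autoImplicit false

universe u

open CategoryTheory Limits AlgebraicGeometry TopologicalSpace Topology MvPolynomial

namespace UOpenLib

/-- Two specializations are realised by a valuation ring. -/
theorem exists_valuation_point {Y : Scheme.{u}} {y₁ y : Y} (h : y₁ ⤳ y) (hne : y ≠ y₁) :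
    ∃ (V : Type u) (_ : CommRing V) (_ : IsDomain V) (_ : ValuationRing V)
      (g : Spec (CommRingCat.of V) ⟶ Y), g.base (IsLocalRing.closedPoint V) = y ∧
        g.base (⟨⊥, Ideal.isPrime_bot⟩ : PrimeSpectrum V) = y₁ := by
  let K := Y.residueField y₁
  let X := Spec K
  let p := Y.fromSpecResidueField y₁
  let x : X := IsLocalRing.closedPoint K
  have hp : p.base x = y₁ := Y.fromSpecResidueField_apply y₁ x
  obtain ⟨A, g, -, hg, hgA⟩ := Groth.Agent.S4447.result p x y (hp.symm ▸ h) (hp.symm ▸ hne)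
  refine ⟨A, inferInstance, inferInstance, inferInstance, g, hg, ?_⟩
  let w : Spec (X.residueField x) := IsLocalRing.closedPoint _
  have h1 := congrArg (fun q ↦ q.base w) hgA
  simp only [Scheme.Hom.comp_apply] at h1
  rw [X.fromSpecResidueField_apply x w, hp] at h1
  refine Eq.trans ?_ h1
  congr 1
  apply PrimeSpectrum.ext
  show (⊥ : Ideal A) = Ideal.comap A.subtype w.asIdeal
  have : w.asIdeal = ⊥ := by
    show IsLocalRing.maximalIdeal _ = ⊥
    exact IsLocalRing.isField_iff_maximalIdeal_eq.mp (Field.toIsField _)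
  rw [this, ← RingHom.ker_eq_comap_bot, (RingHom.injective_iff_ker_eq_bot _).mp Subtype.val_injective]

/-- In a pullback square the generizations in a fibre lift. -/
theorem exists_specializes_fst {P X Y Y' : Scheme.{u}} {a : P ⟶ X} {b : P ⟶ Y'} {f : X ⟶ Y}
    {g : Y' ⟶ Y} (sq : IsPullback a b f g) (p : P) {z : X} (hz : z ⤳ a.base p)
    (hfz : f.base z = f.base (a.base p)) :
    ∃ p₀ : P, p₀ ⤳ p ∧ a.base p₀ = z ∧ b.base p₀ = b.base p := by
  let y' := b.base p
  have hy : f.base (a.base p) = g.base y' := by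
    rw [← Scheme.Hom.comp_apply, sq.w, Scheme.Hom.comp_apply]
  have sq' := isPullback_fiberToSpecResidueField_of_isPullback sq y'
  have hfl : Flat (Spec.map (g.residueFieldMap y')) := by
    refine HasRingHomProperty.Spec_iff.mpr ?_
    letI := (g.residueFieldMap y').hom.toAlgebra
    exact RingHom.flat_algebraMap_iff.mpr inferInstance
  set m := pullback.map _ _ _ _ a (Spec.map (g.residueFieldMap y')) g
    sq.w.symm (g.SpecMap_residueFieldMap_fromSpecResidueField y').symm
  have : Flat m := MorphismProperty.of_isPullback sq'.flip hfl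
  have hm : m ≫ f.fiberι (g.base y') = b.fiberι y' ≫ a := pullback.lift_fst _ _ _
  let q : b.fiber y' := b.asFiber p
  let z₀ : f.fiber (g.base y') := (f.fiberHomeo (g.base y')).symm ⟨z, hfz.trans hy⟩
  have hz₀ : (f.fiberι (g.base y')).base z₀ = z := f.fiberι_fiberHomeo_symm _ _
  have hmq : (f.fiberι (g.base y')).base (m.base q) = a.base p :=
    (congrArg (fun r ↦ r.base q) hm).trans (congrArg a.base (b.fiberι_asFiber p))
  have hzq : z₀ ⤳ m.base q := by
    rw [← (f.fiberι (g.base y')).isEmbedding.isInducing.specializes_iff, hz₀, hmq]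
    exact hz
  obtain ⟨q₀, hq₀, hmq₀⟩ := Flat.generalizingMap m hzq
  refine ⟨(b.fiberι y').base q₀, ?_, ?_, ?_⟩
  · have := hq₀.map (b.fiberι y').continuous
    rwa [b.fiberι_asFiber] at this
  · exact (congrArg (fun r ↦ r.base q₀) hm).symm.trans
      ((congrArg (f.fiberι (g.base y')).base hmq₀).trans hz₀)
  · have h := Set.mem_range_self (f := (b.fiberι y').base) q₀
    rw [b.range_fiberι] at h
    exact h

/-- In a pullback square the generizations in a fibre of the base map lift. -/
theorem exists_specializes_snd {P X Y Y' : Scheme.{u}} {a : P ⟶ X} {b : P ⟶ Y'} {f : X ⟶ Y}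
    {g : Y' ⟶ Y} (sq : IsPullback a b f g) (p : P) {y₁ : Y'} (hy : y₁ ⤳ b.base p)
    (hgy : g.base y₁ = g.base (b.base p)) :
    ∃ p₀ : P, p₀ ⤳ p ∧ b.base p₀ = y₁ ∧ f.base (a.base p₀) = f.base (a.base p) := by
  obtain ⟨p₀, h1, h2, h3⟩ := exists_specializes_fst sq.flip p hy hgy
  exact ⟨p₀, h1, h2, by rw [h3]⟩

variable {R B : Type u} [CommRing R] [CommRing B] {n : ℕ}

/-- A quasi-finite morphism to affine space is universally open at a specialization of a point over
the generic point of a fibre where the structure map is universally open. -/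
theorem isUnivOpenAt_polyChart (φ : MvPolynomial (Fin n) R →+* B) (hfp : (φ.comp C).FinitePresentation)
    (hqf : φ.QuasiFinite) (qx qz : PrimeSpectrum B) (hle : qz.asIdeal ≤ qx.asIdeal) (p : PrimeSpectrum R)
    (hxp : PrimeSpectrum.comap (φ.comp C) qx = p) (hgen : qz.asIdeal.comap φ = p.asIdeal.map C)
    (hopen : EGA43.IsUnivOpenAt
      (Spec.map (CommRingCat.ofHom φ) ≫ polyProj R n) qz) :
    EGA43.IsUnivOpenAt (Spec.map (CommRingCat.ofHom φ)) qx := by
  let uR := Spec.map (CommRingCat.ofHom φ)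
  have hufp : φ.FinitePresentation :=
    RingHom.FinitePresentation.of_comp_finiteType (C : R →+* MvPolynomial (Fin n) R) hfp
      (RingHom.finiteType_algebraMap.mpr inferInstance)
  have : LocallyOfFinitePresentation uR := HasRingHomProperty.Spec_iff.mpr hufp
  have : LocallyQuasiFinite uR := HasRingHomProperty.Spec_iff.mpr hqf
  refine (isUnivOpenAt_iff_genLift uR qx).mpr fun Y' g x' hx' y₁ hy₁ ↦ ?_
  rcases eq_or_ne ((pullback.snd uR g).base x') y₁ with he | hne
  · exact ⟨x', specializes_rfl, he⟩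
  obtain ⟨V, _, _, _, k, hk, hk₁⟩ := exists_valuation_point hy₁ hne
  obtain ⟨θ, hθ⟩ : ∃ θ : CommRingCat.of (MvPolynomial (Fin n) R) ⟶ CommRingCat.of V,
      Spec.map θ = k ≫ g := Spec.map_surjective _
  let η : PrimeSpectrum V := ⟨⊥, Ideal.isPrime_bot⟩
  -- it suffices to lift over the valuation ring
  let j : pullback uR (Spec.map θ) ⟶ pullback uR g :=
    pullback.lift (pullback.fst _ _) (pullback.snd _ _ ≫ k)
      (by rw [Category.assoc, ← hθ]; exact pullback.condition)
  have sqj : IsPullback j (pullback.snd uR (Spec.map θ)) (pullback.snd uR g) k := by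
    refine IsPullback.of_right ?_ (pullback.lift_snd _ _ _) (IsPullback.of_hasPullback uR g)
    rw [pullback.lift_fst, ← hθ]
    exact IsPullback.of_hasPullback _ _
  obtain ⟨w, hw1, hw2⟩ := image_fst_snd sqj x' (IsLocalRing.closedPoint V) hk.symm
  suffices ∃ z, z ⤳ w ∧ (pullback.snd uR (Spec.map θ)).base z = η by
    obtain ⟨z, hz, hzη⟩ := this
    refine ⟨j.base z, hw1 ▸ hz.map j.continuous, ?_⟩
    rw [← Scheme.Hom.comp_apply, sqj.w, Scheme.Hom.comp_apply, hzη]
    exact hk₁
  have hwx : (pullback.fst uR (Spec.map θ)).base w = qx := by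
    have : j ≫ pullback.fst uR g = pullback.fst uR (Spec.map θ) := pullback.lift_fst _ _ _
    rw [← this, Scheme.Hom.comp_apply, hw1, hx']
  -- pass to the affine space over the valuation ring
  let θ' : MvPolynomial (Fin n) R →+* V := θ.hom
  let ψ : R →+* V := θ'.comp C
  let Ψ : MvPolynomial (Fin n) R →+* MvPolynomial (Fin n) V := MvPolynomial.map ψ
  let ev : MvPolynomial (Fin n) V →+* V := MvPolynomial.eval₂Hom (RingHom.id V) fun i ↦ θ' (X i)
  have hev : ev.comp Ψ = θ' := by
    refine MvPolynomial.ringHom_ext (fun r ↦ ?_) fun i ↦ ?_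
    · simp [ev, Ψ, ψ]
    · simp [ev, Ψ]
  let mΨ := Spec.map (CommRingCat.ofHom Ψ)
  let σ := Spec.map (CommRingCat.ofHom ev)
  have hσ : σ ≫ mΨ = Spec.map θ := by
    rw [← Spec.map_comp, ← CommRingCat.ofHom_comp, hev]
    rfl
  let prV := polyProj V n
  let uV := pullback.snd uR mΨ
  let t : pullback uR (Spec.map θ) ⟶ pullback uR mΨ :=
    pullback.lift (pullback.fst _ _) (pullback.snd _ _ ≫ σ)
      (by rw [Category.assoc, hσ]; exact pullback.condition)
  have sqt : IsPullback t (pullback.snd uR (Spec.map θ)) uV σ := by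
    refine IsPullback.of_right ?_ (pullback.lift_snd _ _ _) (IsPullback.of_hasPullback uR mΨ)
    rw [pullback.lift_fst, hσ]
    exact IsPullback.of_hasPullback _ _
  have sqP : IsPullback mΨ prV (polyProj R n) (Spec.map (CommRingCat.ofHom ψ)) := isPullback_polyProj ψ n
  have squ := IsPullback.of_hasPullback uR mΨ
  have sqf := squ.paste_vert sqP
  let xV := t.base w
  have hxV : (pullback.fst uR mΨ).base xV = qx := by
    have : t ≫ pullback.fst uR mΨ = pullback.fst uR (Spec.map θ) := pullback.lift_fst _ _ _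
    rw [← Scheme.Hom.comp_apply, this, hwx]
  have hxVc : (uV ≫ prV).base xV = IsLocalRing.closedPoint V := by
    have h1 : uV.base xV = σ.base (IsLocalRing.closedPoint V) := by
      rw [← hw2, ← Scheme.Hom.comp_apply, ← Scheme.Hom.comp_apply]
      exact congrArg (fun q ↦ q.base w) sqt.w
    rw [Scheme.Hom.comp_apply, h1, ← Scheme.Hom.comp_apply, ← Spec.map_comp, ← CommRingCat.ofHom_comp,
      show ev.comp C = RingHom.id V from RingHom.ext fun a ↦ by simp [ev]]
    simp
  -- a point over the generic point of the closed fibre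
  have hqzp : PrimeSpectrum.comap (φ.comp C) qz = p := by
    apply PrimeSpectrum.ext
    show (Ideal.comap φ qz.asIdeal).comap C = _
    rw [hgen]
    refine le_antisymm (fun a ha ↦ ?_) Ideal.le_comap_map
    have h' : (C a : MvPolynomial (Fin n) R) ∈ p.asIdeal.map C := ha
    have := MvPolynomial.mem_map_C_iff.mp h' 0
    rwa [MvPolynomial.coeff_zero_C] at this
  obtain ⟨z₁, hz₁, hz₁a, hz₁b⟩ := exists_specializes_fst sqf xV (z := qz)
    (hxV.symm ▸ (PrimeSpectrum.le_iff_specializes qz qx).mp hle) (by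
      rw [hxV]
      exact (hqzp.trans hxp.symm : PrimeSpectrum.comap (φ.comp C) qz = PrimeSpectrum.comap (φ.comp C) qx))
  rw [hxVc] at hz₁b
  let mV := IsLocalRing.maximalIdeal V
  have hmT : (mV.map (C (σ := Fin n))).IsPrime := by
    have := MvPolynomial.ker_map (σ := Fin n) (Ideal.Quotient.mk mV)
    rw [Ideal.mk_ker] at this
    rw [← this]
    exact RingHom.ker_isPrime _
  let P₀ : PrimeSpectrum (MvPolynomial (Fin n) V) := ⟨_, hmT⟩
  have hP₀z : P₀ ⤳ uV.base z₁ := by
    refine (PrimeSpectrum.le_iff_specializes P₀ _).mp (Ideal.map_le_iff_le_comap.mpr ?_)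
    exact (congrArg PrimeSpectrum.asIdeal hz₁b).ge
  have hP₀ : mΨ.base P₀ = mΨ.base (uV.base z₁) := by
    have h1 : mΨ.base (uV.base z₁) = uR.base qz := by
      rw [← Scheme.Hom.comp_apply, ← squ.w, Scheme.Hom.comp_apply, hz₁a]
    rw [h1]
    apply PrimeSpectrum.ext
    have hψp : mV.comap ψ = p.asIdeal := by
      have h2 := congrArg (fun q ↦ q.base z₁) sqf.w
      simp only [Scheme.Hom.comp_apply] at h2
      have h3 : prV.base (uV.base z₁) = IsLocalRing.closedPoint V :=
        (Scheme.Hom.comp_apply _ _ _).symm.trans hz₁b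
      rw [hz₁a, h3] at h2
      rw [← hqzp]
      exact (congrArg PrimeSpectrum.asIdeal h2).symm
    show (mV.map C).comap Ψ = qz.asIdeal.comap φ
    rw [hgen, ← hψp]
    ext P
    simp only [Ψ, Ideal.mem_comap, MvPolynomial.mem_map_C_iff, MvPolynomial.coeff_map]
  obtain ⟨zV, hzV, hzVb, hzVu⟩ := exists_specializes_snd squ z₁ hP₀z hP₀
  have hzVa : (pullback.fst uR mΨ).base zV = qz := by
    letI := φ.toAlgebra
    have : Algebra.QuasiFinite (MvPolynomial (Fin n) R) B := hqf
    refine PrimeSpectrum.ext (Algebra.QuasiFinite.eq_of_le_of_under_eq (R := MvPolynomial (Fin n) R)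
      (S := B) _ _ ?_ ?_)
    · rw [← hz₁a]
      exact (PrimeSpectrum.le_iff_specializes _ _).mpr (hzV.map (pullback.fst uR mΨ).continuous)
    · rw [hz₁a] at hzVu
      exact congrArg PrimeSpectrum.asIdeal hzVu
  -- lift the generic point of the valuation ring
  have hopenV := IsUnivOpenAt.isOpenAt hopen sqf zV hzVa
  have hzVc : (uV ≫ prV).base zV = IsLocalRing.closedPoint V := by
    rw [Scheme.Hom.comp_apply, hzVb]
    apply PrimeSpectrum.ext
    show (mV.map C).comap C = mV
    refine le_antisymm (fun a ha ↦ ?_) Ideal.le_comap_map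
    have := MvPolynomial.mem_map_C_iff.mp (ha : C a ∈ mV.map C) 0
    rwa [MvPolynomial.coeff_zero_C] at this
  obtain ⟨ζ, hζ, hζ0⟩ := (Groth.Agent.S3404.result _ zV).1 hopenV η
    (hzVc.symm ▸ (PrimeSpectrum.le_iff_specializes η _).mp bot_le)
  have hζbot : (uV.base ζ : PrimeSpectrum (MvPolynomial (Fin n) V)).asIdeal = ⊥ := by
    let Q : PrimeSpectrum (MvPolynomial (Fin n) V) := uV.base ζ
    have hQ : Q.asIdeal.comap C = (⊥ : Ideal V) := by
      rw [Scheme.Hom.comp_apply] at hζ0
      exact congrArg PrimeSpectrum.asIdeal hζ0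
    have hQm : Q.asIdeal ≤ mV.map C := by
      have := hζ.map uV.continuous
      rw [hzVb] at this
      exact (PrimeSpectrum.le_iff_specializes Q P₀).mpr this
    rw [eq_bot_iff]
    intro P hP
    by_contra hP0
    obtain ⟨c, P₁, hc, hPc, m, hm⟩ := exists_C_mul_eq P hP0
    rw [hPc] at hP
    rcases Q.isPrime.mem_or_mem hP with h' | h'
    · exact hc ((Ideal.mem_bot).mp (hQ ▸ (h' : c ∈ Q.asIdeal.comap C)))
    · have := MvPolynomial.mem_map_C_iff.mp (hQm h') m
      rw [hm] at this
      exact (IsLocalRing.maximalIdeal.isMaximal V).ne_top (Ideal.eq_top_of_isUnit_mem _ this isUnit_one)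
  have : IsIntegrallyClosed (MvPolynomial (Fin n) V) := isIntegrallyClosed_mvPolynomial_fin V n
  have : LocallyQuasiFinite uV := MorphismProperty.pullback_snd _ _ inferInstance
  have : LocallyOfFiniteType uV := MorphismProperty.pullback_snd _ _ inferInstance
  have hu := isUnivOpenAt_of_quasiFinite_normal uV ζ xV ((hζ.trans hzV).trans hz₁) hζbot
  exact (Groth.Agent.S3404.result _ w).1 (IsUnivOpenAt.isOpenAt hu sqt w rfl) η
    (hw2.symm ▸ (PrimeSpectrum.le_iff_specializes η _).mp bot_le)

end UOpenLib
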