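import Mathlib
import Groth.Agent.CommAlgDim.Regular

/-!
# Dominant morphisms over regular one-dimensional bases; closed points of fibres
-/

set_option autoImplicit false

universe u

open CategoryTheory AlgebraicGeometry TopologicalSpace Topology

namespace UOpenLib

theorem irreducibleSpace_of_range {α β : Type*} [TopologicalSpace α] [TopologicalSpace β] {e : α → β}
    (he : IsEmbedding e) (h : IsIrreducible (Set.range e)) : IrreducibleSpace α := by
  have hne : Nonempty α := Set.range_nonempty_iff_nonempty.mp h.nonempty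
  refine { toNonempty := hne, isPreirreducible_univ := ?_ }
  intro u v hu hv ⟨a, _, ha⟩ ⟨b, _, hb⟩
  obtain ⟨u', hu', rfl⟩ := he.isInducing.isOpen_iff.mp hu
  obtain ⟨v', hv', rfl⟩ := he.isInducing.isOpen_iff.mp hv
  obtain ⟨_, ⟨c, rfl⟩, hcu, hcv⟩ := h.2 u' v' hu' hv' ⟨e a, ⟨a, rfl⟩, ha⟩ ⟨e b, ⟨b, rfl⟩, hb⟩
  exact ⟨c, trivial, hcu, hcv⟩

/-- A dominant morphism from an integral scheme to a regular scheme of dimension at most one is
flat. -/
theorem flat_of_dominant_regular_dim_one {Z Y : Scheme.{u}} [IsIntegral Z] [IrreducibleSpace Y]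
    (g : Z ⟶ Y) (hY : ∀ y : Y, IsRegularLocalRing (Y.presheaf.stalk y) ∧
      ringKrullDim (Y.presheaf.stalk y) ≤ 1) (hd : DenseRange g.base) : Flat g := by
  rw [Flat.iff_flat_stalkMap]
  intro z
  let O := Y.presheaf.stalk (g.base z)
  have : IsRegularLocalRing O := (hY _).1
  have : IsDomain O := CommAlgDim.isDomain_of_isRegularLocalRing O
  have hinj : Function.Injective (g.stalkMap z).hom := by
    rw [RingHom.injective_iff_ker_eq_bot]
    let s : ↥(Spec (Z.presheaf.stalk z)) := (⟨⊥, Ideal.isPrime_bot⟩ : PrimeSpectrum _)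
    let t : ↥(Spec O) := (⟨⊥, Ideal.isPrime_bot⟩ : PrimeSpectrum O)
    have hη : ∀ w : Z, genericPoint ↥Z ⤳ w := fun w ↦ (genericPoint_spec ↥Z).specializes trivial
    have h1 : (Z.fromSpecStalk z).base s = genericPoint ↥Z := by
      obtain ⟨r, hr⟩ : genericPoint ↥Z ∈ Set.range (Z.fromSpecStalk z).base := by
        rw [Scheme.range_fromSpecStalk]; exact hη z
      refine ((?_ : _ ⤳ genericPoint ↥Z).antisymm (hη _)).eq
      rw [← hr]
      exact ((PrimeSpectrum.le_iff_specializes s r).mp bot_le).map (Z.fromSpecStalk z).continuous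
    have h2 : g.base (genericPoint ↥Z) ⤳ genericPoint ↥Y := by
      have h3 : closure (Set.range g.base) ⊆ closure {g.base (genericPoint ↥Z)} := by
        refine closure_minimal ?_ isClosed_closure
        rintro _ ⟨w, rfl⟩
        exact ((hη w).map g.continuous).mem_closure
      exact specializes_iff_mem_closure.mpr (h3 (hd _))
    have h4 : (Y.fromSpecStalk (g.base z)).base ((Spec.map (g.stalkMap z)).base s) =
        (Y.fromSpecStalk (g.base z)).base t := by
      rw [← Scheme.Hom.comp_apply, Scheme.SpecMap_stalkMap_fromSpecStalk, Scheme.Hom.comp_apply, h1]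
      have ht : (Y.fromSpecStalk (g.base z)).base t ⤳ g.base (genericPoint ↥Z) := by
        obtain ⟨r, hr⟩ : g.base (genericPoint ↥Z) ∈ Set.range (Y.fromSpecStalk (g.base z)).base := by
          rw [Scheme.range_fromSpecStalk]; exact (hη z).map g.continuous
        rw [← hr]
        exact ((PrimeSpectrum.le_iff_specializes t r).mp bot_le).map (Y.fromSpecStalk _).continuous
      exact ((h2.trans ((genericPoint_spec ↥Y).specializes trivial)).antisymm ht).eq
    have h5 := congrArg PrimeSpectrum.asIdeal ((Y.fromSpecStalk (g.base z)).isEmbedding.injective h4)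
    rw [RingHom.ker_eq_comap_bot]
    exact h5
  have : IsPrincipalIdealRing O := by
    refine ((tfae_of_isNoetherianRing_of_isLocalRing_of_isDomain (R := O)).out 4 0).1 ?_
    have h1 := IsRegularLocalRing.spanFinrank_maximalIdeal (R := O)
    have h2 : (IsLocalRing.maximalIdeal O).spanFinrank ≤ 1 := by
      have h3 : ((IsLocalRing.maximalIdeal O).spanFinrank : WithBot ℕ∞) ≤ 1 := h1.trans_le (hY _).2
      exact_mod_cast h3
    obtain ⟨t, htc, ht⟩ := Submodule.FG.exists_span_finset_card_eq_spanFinrank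
      (IsNoetherian.noetherian (IsLocalRing.maximalIdeal O))
    rcases Nat.le_one_iff_eq_zero_or_eq_one.mp (htc ▸ h2) with h0 | h0
    · rw [Finset.card_eq_zero.mp h0] at ht
      exact ⟨0, by rw [← ht]; simp⟩
    · obtain ⟨a, rfl⟩ := Finset.card_eq_one.mp h0
      exact ⟨a, by rw [← ht]; simp⟩
  letI := (g.stalkMap z).hom.toAlgebra
  refine RingHom.flat_algebraMap_iff.mpr ?_
  have : Module.IsTorsionFree O (Z.presheaf.stalk z) :=
    Module.isTorsionFree_iff_algebraMap_injective.mpr hinj
  infer_instance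

/-- A nonempty closed subset of a fibre contains a point closed in the fibre. -/
theorem exists_closed_point_of_fibre {X Y : Scheme.{u}} (f : X ⟶ Y) [LocallyOfFiniteType f] (y : Y)
    {Z : Set X} (hZ : IsClosed Z) (hne : (Z ∩ f.base ⁻¹' {y}).Nonempty) :
    ∃ x : X, f.base x = y ∧ x ∈ Z ∧ ∀ x' : X, f.base x' = y → x ⤳ x' → x' = x := by
  let ι := f.fiberι y
  have hlft : LocallyOfFiniteType (f.fiberToSpecResidueField y) :=
    MorphismProperty.pullback_snd _ _ inferInstance
  have : JacobsonSpace ↥(f.fiber y) := LocallyOfFiniteType.jacobsonSpace (f.fiberToSpecResidueField y)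
  obtain ⟨a, haZ, hay⟩ := hne
  have hne' : (ι.base ⁻¹' Z).Nonempty := ⟨(f.fiberHomeo y).symm ⟨a, hay⟩, by
    show ι.base _ ∈ Z
    rw [f.fiberι_fiberHomeo_symm]; exact haZ⟩
  obtain ⟨c, hcZ, hc⟩ := nonempty_inter_closedPoints hne' (hZ.preimage ι.continuous).isLocallyClosed
  have hcy : f.base (ι.base c) = y := by
    have h := Set.mem_range_self (f := ι.base) c
    rw [f.range_fiberι] at h
    exact h
  refine ⟨ι.base c, hcy, hcZ, fun x' hx' hsp ↦ ?_⟩
  obtain ⟨w, rfl⟩ : x' ∈ Set.range ι.base := by rw [f.range_fiberι]; exact hx'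
  have h1 : c ⤳ w := ι.isEmbedding.isInducing.specializes_iff.mp hsp
  have h2 : w ∈ ({c} : Set _) := (IsClosed.closure_eq hc).le h1.mem_closure
  exact congrArg ι.base h2

end UOpenLib
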