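import Mathlib
import Groth.Agent.UOpenLib.Generization
import Groth.Agent.UOpenLib.Unibranch

/-!
# Quasi-sections through closed points of fibres
-/

set_option autoImplicit false

universe u

open MvPolynomial AlgebraicGeometry CategoryTheory

namespace UOpenLib

/-- Every prime is the kernel of a map to an algebraically closed field. -/
theorem exists_hom_algClosed {R : Type u} [CommRing R] (t : PrimeSpectrum R) :
    ∃ (Ω : Type u) (_ : Field Ω) (_ : IsAlgClosed Ω) (h : R →+* Ω), RingHom.ker h = t.asIdeal := by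
  refine ⟨AlgebraicClosure t.asIdeal.ResidueField, inferInstance, inferInstance,
    (algebraMap t.asIdeal.ResidueField _).comp (algebraMap R t.asIdeal.ResidueField), ?_⟩
  ext a
  rw [RingHom.mem_ker, RingHom.comp_apply, map_eq_zero, Ideal.algebraMap_residueField_eq_zero]

/-- A common zero in the closed fibre of monic polynomials in one variable each has a
generization over the generic point. -/
theorem exists_prime_le_of_monic {A : Type u} [CommRing A] [IsDomain A] [IsLocalRing A] {e : ℕ}
    (g : Fin e → Polynomial A) (hg : ∀ i, (g i).Monic) (t : PrimeSpectrum (MvPolynomial (Fin e) A))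
    (htm : t.asIdeal.comap C = IsLocalRing.maximalIdeal A)
    (htg : ∀ i, Polynomial.aeval (X i : MvPolynomial (Fin e) A) (g i) ∈ t.asIdeal) :
    ∃ c : PrimeSpectrum (MvPolynomial (Fin e) A), c ≤ t ∧ c.asIdeal.comap C = ⊥ ∧
      ∀ i, Polynomial.aeval (X i : MvPolynomial (Fin e) A) (g i) ∈ c.asIdeal := by
  classical
  let k := IsLocalRing.ResidueField A
  obtain ⟨Ω, _, _, h, hker⟩ := exists_hom_algClosed t
  letI : Algebra A Ω := (h.comp C).toAlgebra
  have hkerA : RingHom.ker (algebraMap A Ω) = IsLocalRing.maximalIdeal A := by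
    refine (Eq.trans ?_ (congrArg (Ideal.comap C) hker)).trans htm
    rfl
  letI : Algebra k Ω := (Ideal.Quotient.lift _ (algebraMap A Ω) fun a ha ↦ by
    rw [← RingHom.mem_ker, hkerA]; exact ha).toAlgebra
  have : IsScalarTower A k Ω := IsScalarTower.of_algebraMap_eq fun a ↦ rfl
  let L := AlgebraicClosure (FractionRing A)
  let A' := integralClosure A L
  have hinjL : Function.Injective (algebraMap A L) := by
    rw [IsScalarTower.algebraMap_eq A (FractionRing A) L]
    exact (algebraMap (FractionRing A) L).injective.comp (IsFractionRing.injective A _)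
  have hinj : Function.Injective (algebraMap A A') := fun a b e ↦ hinjL (congrArg Subtype.val e)
  have : Algebra.IsIntegral A A' := integralClosure.AlgebraIsIntegral
  obtain ⟨M, hM⟩ := (algebraMap_isIntegral_iff.mpr ‹Algebra.IsIntegral A A'›).comap_surjective hinj
    (IsLocalRing.closedPoint A)
  have hMc : M.asIdeal.comap (algebraMap A A') = IsLocalRing.maximalIdeal A :=
    congrArg PrimeSpectrum.asIdeal hM
  have hMmax : M.asIdeal.IsMaximal := by
    refine Ideal.isMaximal_of_isIntegral_of_isMaximal_comap (R := A) _ ?_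
    rw [hMc]
    exact IsLocalRing.maximalIdeal.isMaximal A
  letI : Field (A' ⧸ M.asIdeal) := Ideal.Quotient.field _
  letI : Algebra k (A' ⧸ M.asIdeal) :=
    (Ideal.Quotient.lift _ (algebraMap A (A' ⧸ M.asIdeal)) fun a ha ↦ by
      rw [IsScalarTower.algebraMap_apply A A' (A' ⧸ M.asIdeal), Ideal.Quotient.algebraMap_eq,
        Ideal.Quotient.eq_zero_iff_mem]
      exact hMc.symm.le ha).toAlgebra
  have : IsScalarTower A k (A' ⧸ M.asIdeal) := IsScalarTower.of_algebraMap_eq fun a ↦ rfl
  have : Algebra.IsIntegral A (A' ⧸ M.asIdeal) :=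
    ⟨fun z ↦ by
      obtain ⟨z, rfl⟩ := Ideal.Quotient.mk_surjective z
      exact (Algebra.IsIntegral.isIntegral (R := A) z).map (Ideal.Quotient.mkₐ A M.asIdeal)⟩
  have : Algebra.IsIntegral k (A' ⧸ M.asIdeal) := Algebra.IsIntegral.tower_top A
  let σ : (A' ⧸ M.asIdeal) →ₐ[k] Ω := IsAlgClosed.lift
  let φ : A' →ₐ[A] Ω := (σ.restrictScalars A).comp (Ideal.Quotient.mkₐ A M.asIdeal)
  -- roots lifting the coordinates
  have hroot : ∀ i, ∃ ρ : A', Polynomial.aeval ρ (g i) = 0 ∧ φ ρ = h (X i) := by
    intro i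
    have hsplit : ((g i).map (algebraMap A L)).Splits := IsAlgClosed.splits _
    have hprod := hsplit.eq_prod_roots_of_monic ((hg i).map _)
    have hmem : ∀ r ∈ ((g i).map (algebraMap A L)).roots, r ∈ A' := fun r hr ↦ by
      refine ⟨g i, hg i, ?_⟩
      rw [← Polynomial.eval_map]
      exact (Polynomial.mem_roots'.mp hr).2
    let rts : Multiset A' := ((g i).map (algebraMap A L)).roots.attach.map fun r ↦ ⟨r.1, hmem r.1 r.2⟩
    have hfac : (g i).map (algebraMap A A') = (rts.map fun r ↦ Polynomial.X - Polynomial.C r).prod := by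
      apply Polynomial.map_injective (algebraMap A' L) Subtype.val_injective
      rw [Polynomial.map_map, ← IsScalarTower.algebraMap_eq A A' L, Polynomial.map_multiset_prod,
        Multiset.map_map, Multiset.map_map]
      refine hprod.trans ?_
      congr 1
      conv_lhs => rw [← Multiset.attach_map_val ((g i).map (algebraMap A L)).roots, Multiset.map_map]
      refine Multiset.map_congr rfl fun r _ ↦ ?_
      simp
    have hz : Polynomial.eval (h (X i)) ((g i).map (algebraMap A Ω)) = 0 := by
      have h1 : h (Polynomial.aeval (X i : MvPolynomial (Fin e) A) (g i)) = 0 := by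
        rw [← RingHom.mem_ker, hker]; exact htg i
      rw [Polynomial.eval_map]
      rw [Polynomial.aeval_def, Polynomial.hom_eval₂] at h1
      exact h1
    rw [show algebraMap A Ω = φ.toRingHom.comp (algebraMap A A') from φ.comp_algebraMap.symm,
      ← Polynomial.map_map, hfac, Polynomial.map_multiset_prod, Polynomial.eval_multiset_prod,
      Multiset.prod_eq_zero_iff, Multiset.map_map, Multiset.map_map, Multiset.mem_map] at hz
    obtain ⟨ρ, hρ, hρ0⟩ := hz
    refine ⟨ρ, ?_, ?_⟩
    · rw [Polynomial.aeval_def, ← Polynomial.eval_map, hfac, Polynomial.eval_multiset_prod,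
        Multiset.prod_eq_zero_iff, Multiset.map_map, Multiset.mem_map]
      exact ⟨ρ, hρ, by simp⟩
    · simp only [Function.comp_apply, Polynomial.map_sub, Polynomial.map_X, Polynomial.map_C,
        Polynomial.eval_sub, Polynomial.eval_X, Polynomial.eval_C, sub_eq_zero] at hρ0
      exact hρ0.symm
  choose ρ hρ0 hρφ using hroot
  let a : MvPolynomial (Fin e) A →ₐ[A] A' := aeval ρ
  have hfac : φ.toRingHom.comp a.toRingHom = h := by
    refine MvPolynomial.ringHom_ext (fun r ↦ ?_) (fun i ↦ ?_)
    · show φ (a (C r)) = h (C r)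
      rw [show a (C r) = algebraMap A A' r from aeval_C _ _, φ.commutes]
      rfl
    · show φ (a (X i)) = h (X i)
      rw [show a (X i) = ρ i from aeval_X _ _, hρφ]
  have : (RingHom.ker a.toRingHom).IsPrime := RingHom.ker_isPrime _
  refine ⟨⟨RingHom.ker a.toRingHom, this⟩, ?_, ?_, fun i ↦ ?_⟩
  · show RingHom.ker a.toRingHom ≤ t.asIdeal
    intro z hz
    rw [← hker, RingHom.mem_ker, ← hfac]
    show φ (a z) = 0
    rw [show a z = 0 from hz, map_zero]
  · refine eq_bot_iff.mpr fun z hz ↦ hinj ?_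
    rw [map_zero, ← show a (C z) = algebraMap A A' z from aeval_C _ _]
    exact hz
  · show a (Polynomial.aeval (X i : MvPolynomial (Fin e) A) (g i)) = 0
    rw [← Polynomial.aeval_algHom_apply, show a (X i) = ρ i from aeval_X _ _]
    exact hρ0 i

/-- Elements of residue fields at maximal ideals of finite type algebras are algebraic. -/
theorem exists_aeval_eq_zero_of_maximal {R k F : Type u} [CommRing R] [IsDomain R] [Field k]
    [Algebra R k] [IsFractionRing R k] [CommRing F] [Algebra k F] [Algebra.FiniteType k F]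
    (Q : Ideal F) (hQ : Q.IsMaximal) (x : F) :
    ∃ g₀ : Polynomial R, g₀ ≠ 0 ∧
      Polynomial.eval₂ ((algebraMap k F).comp (algebraMap R k)) x g₀ ∈ Q := by
  letI : Field (F ⧸ Q) := Ideal.Quotient.field Q
  have : Algebra.FiniteType k (F ⧸ Q) :=
    Algebra.FiniteType.of_surjective (Ideal.Quotient.mkₐ k Q) Ideal.Quotient.mk_surjective
  have : Module.Finite k (F ⧸ Q) := finite_of_finite_type_of_isJacobsonRing k (F ⧸ Q)
  letI : Algebra R (F ⧸ Q) := ((algebraMap k (F ⧸ Q)).comp (algebraMap R k)).toAlgebra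
  have : IsScalarTower R k (F ⧸ Q) := IsScalarTower.of_algebraMap_eq' rfl
  obtain ⟨g₀, hne, h0⟩ := (IsFractionRing.isAlgebraic_iff R k (F ⧸ Q)).mpr
    (Algebra.IsAlgebraic.isAlgebraic (R := k) (Ideal.Quotient.mk Q x))
  refine ⟨g₀, hne, Ideal.Quotient.eq_zero_iff_mem.mp ?_⟩
  rw [Polynomial.hom_eval₂]
  exact h0

/-- Generizations lift along a quasi-finite map of domains after normalising the source. -/
theorem exists_lift_normal {P PN B : Type u} [CommRing P] [CommRing PN] [IsDomain PN]
    [IsIntegrallyClosed PN] [CommRing B] [IsDomain B] [Algebra P PN] [Algebra P B]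
    [Algebra.FiniteType P B] [Algebra.QuasiFinite P B] (hint : Algebra.IsIntegral P PN)
    (νT : PN →+* FractionRing B)
    (hνT : νT.comp (algebraMap P PN) = (algebraMap B (FractionRing B)).comp (algebraMap P B))
    (hinj : Function.Injective (algebraMap P B)) (q : PrimeSpectrum B) :
    ∃ t₁ : PrimeSpectrum PN, t₁.asIdeal.comap (algebraMap P PN) = q.asIdeal.comap (algebraMap P B) ∧
      ∀ c₁ ≤ t₁, ∃ z ≤ q, ∀ y : P,
        algebraMap P B y ∈ z.asIdeal ↔ algebraMap P PN y ∈ c₁.asIdeal := by
  let L := FractionRing B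
  letI : Algebra PN L := νT.toAlgebra
  have : IsScalarTower P PN L := IsScalarTower.of_algebraMap_eq' <| by
    rw [IsScalarTower.algebraMap_eq P B L]
    exact hνT.symm
  let Φ : TensorProduct P PN B →ₐ[PN] L :=
    Algebra.TensorProduct.lift (Algebra.ofId PN L) (IsScalarTower.toAlgHom P B L) fun _ _ ↦ .all _ _
  let T₁ := TensorProduct P PN B ⧸ RingHom.ker Φ.toRingHom
  have : (RingHom.ker Φ.toRingHom).IsPrime := RingHom.ker_isPrime _
  have : IsDomain T₁ := Ideal.Quotient.isDomain _
  have : Algebra.FiniteType PN T₁ :=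
    Algebra.FiniteType.of_surjective (Ideal.Quotient.mkₐ PN _) Ideal.Quotient.mk_surjective
  let β : B →+* T₁ := (Ideal.Quotient.mk _).comp Algebra.TensorProduct.includeRight.toRingHom
  have hβinj : Function.Injective β := by
    rw [injective_iff_map_eq_zero]
    intro b hb
    have : Φ (1 ⊗ₜ[P] b) = 0 := Ideal.Quotient.eq_zero_iff_mem.mp hb
    simp only [Φ, Algebra.TensorProduct.lift_tmul, map_one, one_mul] at this
    exact IsFractionRing.injective B L (this.trans (map_zero _).symm)
  letI : Algebra B T₁ := β.toAlgebra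
  have : IsScalarTower P B T₁ := IsScalarTower.of_algebraMap_eq fun r ↦ by
    show _ = Ideal.Quotient.mk _ (Algebra.TensorProduct.includeRight (algebraMap P B r))
    rw [AlgHom.commutes]
    rfl
  have hint₁ : Algebra.IsIntegral B T₁ := by
    refine ⟨fun w ↦ ?_⟩
    obtain ⟨w, rfl⟩ := Ideal.Quotient.mk_surjective w
    induction w using TensorProduct.induction_on with
    | zero => rw [map_zero]; exact isIntegral_zero
    | add a b ha hb => rw [map_add]; exact ha.add hb
    | tmul n b =>
      rw [show n ⊗ₜ[P] b = (n ⊗ₜ[P] (1 : B)) * ((1 : PN) ⊗ₜ[P] b) by simp, map_mul]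
      refine IsIntegral.mul ?_ (isIntegral_algebraMap (x := b))
      exact IsIntegral.tower_top ((hint.isIntegral n).map
        ((Ideal.Quotient.mkₐ P (RingHom.ker Φ.toRingHom)).comp Algebra.TensorProduct.includeLeft))
  obtain ⟨q₁, hq₁⟩ := (algebraMap_isIntegral_iff.mpr hint₁).comap_surjective hβinj q
  -- openness over the normal affine space
  let f : Spec (CommRingCat.of T₁) ⟶ Spec (CommRingCat.of PN) :=
    Spec.map (CommRingCat.ofHom (algebraMap PN T₁))
  have hT₁qf : Algebra.QuasiFinite PN T₁ := inferInstance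
  have : LocallyOfFiniteType f :=
    HasRingHomProperty.Spec_iff.mpr (RingHom.finiteType_algebraMap.mpr inferInstance)
  have : LocallyQuasiFinite f :=
    HasRingHomProperty.Spec_iff.mpr (RingHom.quasiFinite_algebraMap.mpr hT₁qf)
  have hbot : (RingHom.ker (algebraMap PN T₁)) = ⊥ := by
    have : Nontrivial P := (algebraMap P B).domain_nontrivial
    have : (RingHom.ker (algebraMap PN T₁)).IsPrime := RingHom.ker_isPrime _
    refine Ideal.eq_bot_of_comap_eq_bot (R := P) (eq_bot_iff.mpr fun r hr ↦ hinj ?_)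
    have h1 : algebraMap P T₁ r = 0 := by
      rw [IsScalarTower.algebraMap_apply P PN T₁]; exact hr
    rw [IsScalarTower.algebraMap_apply P B T₁] at h1
    exact (hβinj (h1.trans (map_zero _).symm) : algebraMap P B r = 0).trans (map_zero _).symm
  have hopen : EGA43.IsUnivOpenAt f q₁ := isUnivOpenAt_of_quasiFinite_normal (O := PN) f
    (⟨⊥, Ideal.isPrime_bot⟩ : PrimeSpectrum T₁) q₁
    ((PrimeSpectrum.le_iff_specializes _ _).mp bot_le)
    (by show Ideal.comap (algebraMap PN T₁) ⊥ = ⊥; rw [← RingHom.ker_eq_comap_bot, hbot])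
  -- a common zero over the generic point
  let t₁ : PrimeSpectrum PN := PrimeSpectrum.comap (algebraMap PN T₁) q₁
  have ht₁ : t₁.asIdeal.comap (algebraMap P PN) = q.asIdeal.comap (algebraMap P B) := by
    show (q₁.asIdeal.comap (algebraMap PN T₁)).comap (algebraMap P PN) = _
    rw [Ideal.comap_comap, ← IsScalarTower.algebraMap_eq, IsScalarTower.algebraMap_eq P B T₁,
      ← Ideal.comap_comap, ← hq₁]
    rfl
  refine ⟨t₁, ht₁, fun c₁ hc₁ ↦ ?_⟩
  obtain ⟨z₁, hz₁, hz₁c⟩ := (Groth.Agent.S3404.result f q₁).1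
    (IsUnivOpenAt.isOpenAt hopen (CategoryTheory.IsPullback.id_horiz f).flip.flip q₁ rfl) c₁
    ((PrimeSpectrum.le_iff_specializes _ _).mp hc₁)
  have hz₁c' : z₁.asIdeal.comap (algebraMap PN T₁) = c₁.asIdeal :=
    congrArg PrimeSpectrum.asIdeal hz₁c
  refine ⟨PrimeSpectrum.comap β z₁, ?_, fun y ↦ ?_⟩
  · rw [← hq₁]
    exact Ideal.comap_mono ((PrimeSpectrum.le_iff_specializes _ _).mpr hz₁)
  · show algebraMap B T₁ (algebraMap P B y) ∈ z₁.asIdeal ↔ _
    rw [← IsScalarTower.algebraMap_apply, IsScalarTower.algebraMap_apply P PN T₁,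
      ← Ideal.mem_comap, hz₁c']

/-- Common zeros of one-variable polynomials generize to the generic point. -/
theorem exists_generic_zero {N : Type u} [CommRing N] [IsDomain N] {e : ℕ}
    (t₁ : PrimeSpectrum (MvPolynomial (Fin e) N)) (g : Fin e → Polynomial N)
    (hlead : ∀ i, (C (g i).leadingCoeff : MvPolynomial (Fin e) N) ∉ t₁.asIdeal)
    (hg : ∀ i, Polynomial.aeval (X i : MvPolynomial (Fin e) N) (g i) ∈ t₁.asIdeal) :
    ∃ c₁ ≤ t₁, c₁.asIdeal.comap C = ⊥ ∧
      ∀ i, Polynomial.aeval (X i : MvPolynomial (Fin e) N) (g i) ∈ c₁.asIdeal := by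
  let p₁ : PrimeSpectrum N := PrimeSpectrum.comap C t₁
  let A := Localization.AtPrime p₁.asIdeal
  obtain ⟨Ω, _, _, h, hh⟩ := exists_hom_algClosed t₁
  let hA : A →+* Ω := IsLocalization.lift (M := p₁.asIdeal.primeCompl) (g := h.comp C) fun s ↦
    IsUnit.mk0 _ fun e ↦ s.2 (hh.le e : C (s : N) ∈ t₁.asIdeal)
  let hT : MvPolynomial (Fin e) A →+* Ω := eval₂Hom hA fun i ↦ h (X i)
  let μ : MvPolynomial (Fin e) N →+* MvPolynomial (Fin e) A := MvPolynomial.map (algebraMap N A)
  have hμC : ∀ r, μ (C r) = C (algebraMap N A r) := fun r ↦ MvPolynomial.map_C _ _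
  have hμX : ∀ i, μ (X i) = X i := fun i ↦ MvPolynomial.map_X _ _
  have hμ : hT.comp μ = h := by
    refine MvPolynomial.ringHom_ext (fun r ↦ ?_) (fun i ↦ ?_)
    · show hT (μ (C r)) = _
      rw [hμC, show hT (C (algebraMap N A r)) = hA (algebraMap N A r) from eval₂_C _ _ _]
      exact IsLocalization.lift_eq _ r
    · show hT (μ (X i)) = _
      rw [hμX]
      exact eval₂_X _ _ _
  have : (RingHom.ker hT).IsPrime := RingHom.ker_isPrime _
  let tA : PrimeSpectrum (MvPolynomial (Fin e) A) := ⟨RingHom.ker hT, this⟩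
  have htA : tA.asIdeal.comap μ = t₁.asIdeal := by
    rw [← hh, ← hμ]; rfl
  have htAm : tA.asIdeal.comap C = IsLocalRing.maximalIdeal A := by
    have h1 : (tA.asIdeal.comap C).comap (algebraMap N A) = p₁.asIdeal := by
      show _ = t₁.asIdeal.comap C
      rw [← htA, Ideal.comap_comap, Ideal.comap_comap]
      congr 1
      ext r
      simp [μ]
    rw [← IsLocalization.map_under p₁.asIdeal.primeCompl A (tA.asIdeal.comap C)]
    rw [show (tA.asIdeal.comap C).under N = p₁.asIdeal from h1]
    exact IsLocalization.AtPrime.map_eq_maximalIdeal p₁.asIdeal A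
  have hunit : ∀ i, IsUnit (algebraMap N A (g i).leadingCoeff) := fun i ↦
    IsLocalization.map_units A (⟨(g i).leadingCoeff, hlead i⟩ : p₁.asIdeal.primeCompl)
  let w (i : Fin e) : A := ((hunit i).unit⁻¹ : Aˣ)
  have hw : ∀ i, w i * algebraMap N A (g i).leadingCoeff = 1 := fun i ↦ (hunit i).val_inv_mul
  let gA (i : Fin e) : Polynomial A := Polynomial.C (w i) * (g i).map (algebraMap N A)
  have hmonic : ∀ i, (gA i).Monic := fun i ↦ by
    apply Polynomial.monic_C_mul_of_mul_leadingCoeff_eq_one
    rw [Polynomial.leadingCoeff_map_of_leadingCoeff_ne_zero _ (hunit i).ne_zero]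
    exact hw i
  have haeval : ∀ i, Polynomial.aeval (X i : MvPolynomial (Fin e) A) (gA i) =
      C (w i) * μ (Polynomial.aeval (X i : MvPolynomial (Fin e) N) (g i)) := fun i ↦ by
    simp only [gA, map_mul, Polynomial.aeval_C, MvPolynomial.algebraMap_eq]
    congr 1
    rw [Polynomial.aeval_def, Polynomial.eval₂_map, Polynomial.aeval_def, Polynomial.hom_eval₂, hμX]
    congr 1
    exact RingHom.ext fun r ↦ (hμC r).symm
  obtain ⟨c, hct, hcb, hcg⟩ := exists_prime_le_of_monic gA hmonic tA htAm fun i ↦ by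
    rw [haeval]
    refine Ideal.mul_mem_left _ _ ?_
    show Polynomial.aeval (X i : MvPolynomial (Fin e) N) (g i) ∈ tA.asIdeal.comap μ
    rw [htA]
    exact hg i
  refine ⟨PrimeSpectrum.comap μ c, fun y hy ↦ htA.le (hct hy), ?_, fun i ↦ ?_⟩
  · refine eq_bot_iff.mpr fun r hr ↦ ?_
    have h2 : algebraMap N A r ∈ c.asIdeal.comap C := by
      show C (algebraMap N A r) ∈ c.asIdeal
      rw [← hμC]
      exact hr
    rwa [hcb, Ideal.mem_bot,
      IsLocalization.to_map_eq_zero_iff A p₁.asIdeal.primeCompl_le_nonZeroDivisors] at h2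
  · show μ _ ∈ c.asIdeal
    have := hcg i
    rw [haeval] at this
    exact (c.isPrime.mem_or_mem this).resolve_left fun hu ↦ c.isPrime.ne_top
      (Ideal.eq_top_of_isUnit_mem _ hu ((Units.isUnit _).map C))

/-- The algebraic core of the quasi-section theorem. -/
theorem exists_prime_quasiSection {R B : Type u} [CommRing R] [IsDomain R] [CommRing B] [IsDomain B]
    {e : ℕ} (φ : MvPolynomial (Fin e) R →+* B) (hinj : Function.Injective φ) (hft : φ.FiniteType)
    (hqf : φ.QuasiFinite) (q : PrimeSpectrum B) (g : Fin e → Polynomial R)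
    (hlead : ∀ i, φ (C (g i).leadingCoeff) ∉ q.asIdeal)
    (hg : ∀ i, φ (Polynomial.aeval (X i : MvPolynomial (Fin e) R) (g i)) ∈ q.asIdeal) :
    ∃ z : PrimeSpectrum B, z ≤ q ∧ z.asIdeal.comap (φ.comp C) = ⊥ ∧
      ∀ i, φ (Polynomial.aeval (X i : MvPolynomial (Fin e) R) (g i)) ∈ z.asIdeal := by
  let K := FractionRing R
  let N := integralClosure R K
  have : IsIntegrallyClosed N := integralClosure.isIntegrallyClosedOfFiniteExtension K
  have : Algebra.IsIntegral R N := integralClosure.AlgebraIsIntegral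
  have := isIntegrallyClosed_mvPolynomial_fin N e
  let P₀ := MvPolynomial (Fin e) R
  let PN := MvPolynomial (Fin e) N
  letI := φ.toAlgebra
  have : Algebra.FiniteType P₀ B := hft
  have : Algebra.QuasiFinite P₀ B := hqf
  letI := MvPolynomial.algebraMvPolynomial (σ := Fin e) (R := R) (S := N)
  have hint : Algebra.IsIntegral P₀ PN := by
    refine ⟨fun y ↦ ?_⟩
    induction y using MvPolynomial.induction_on with
    | C b =>
      exact IsIntegral.tower_top
        ((Algebra.IsIntegral.isIntegral (R := R) b).map (IsScalarTower.toAlgHom R N PN))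
    | add p q hp hq => refine IsIntegral.add (R := P₀) (A := PN) ?_ ?_ <;> assumption
    | mul_X p i hp =>
      refine IsIntegral.mul (R := P₀) (A := PN) ?_ ?_
      · assumption
      rw [show (X i : PN) = algebraMap P₀ PN (X i) from (MvPolynomial.map_X _ i).symm]
      exact isIntegral_algebraMap
  let L := FractionRing B
  let κ : R →+* L := (algebraMap B L).comp (φ.comp C)
  have hκ : Function.Injective κ :=
    (IsFractionRing.injective B L).comp (hinj.comp (MvPolynomial.C_injective _ _))
  let ν : N →+* L := (IsFractionRing.lift hκ : K →+* L).comp N.val.toRingHom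
  let νT : PN →+* L := eval₂Hom ν fun i ↦ algebraMap B L (φ (X i))
  have hνT : νT.comp (algebraMap P₀ PN) = (algebraMap B L).comp φ := by
    refine MvPolynomial.ringHom_ext (fun r ↦ ?_) (fun i ↦ ?_)
    · show νT (MvPolynomial.map (algebraMap R N) (C r)) = _
      rw [MvPolynomial.map_C, show νT (C (algebraMap R N r)) = ν (algebraMap R N r) from eval₂_C _ _ _]
      show (IsFractionRing.lift hκ : K →+* L) (algebraMap R K r) = κ r
      exact IsFractionRing.lift_algebraMap hκ r
    · show νT (MvPolynomial.map (algebraMap R N) (X i)) = _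
      rw [MvPolynomial.map_X, show νT (X i) = _ from eval₂_X _ _ _]
      rfl
  obtain ⟨t₁, ht₁, hlift⟩ := exists_lift_normal (P := P₀) (PN := PN) (B := B) hint νT hνT hinj q
  have hgN : ∀ i, ((g i).map (algebraMap R N)).leadingCoeff = algebraMap R N (g i).leadingCoeff :=
    fun i ↦ Polynomial.leadingCoeff_map_of_injective
      (fun a b h ↦ IsFractionRing.injective R K (congrArg Subtype.val h)) _
  have hmapX : ∀ i, algebraMap P₀ PN (Polynomial.aeval (X i : P₀) (g i)) =
      Polynomial.aeval (X i : PN) ((g i).map (algebraMap R N)) := fun i ↦ by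
    rw [MvPolynomial.algebraMap_def, Polynomial.aeval_def, Polynomial.aeval_def, Polynomial.hom_eval₂,
      Polynomial.eval₂_map, MvPolynomial.algebraMap_eq, MvPolynomial.algebraMap_eq]
    congr 1
    · exact RingHom.ext fun r ↦ MvPolynomial.map_C _ _
    · exact MvPolynomial.map_X _ _
  obtain ⟨c₁, hc₁t, hc₁b, hc₁g⟩ := exists_generic_zero t₁ (fun i ↦ (g i).map (algebraMap R N))
    (fun i hmem ↦ by
      rw [hgN] at hmem
      refine hlead i ?_
      have : (C (g i).leadingCoeff : P₀) ∈ t₁.asIdeal.comap (algebraMap P₀ PN) := by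
        show algebraMap P₀ PN (C (g i).leadingCoeff) ∈ t₁.asIdeal
        rw [MvPolynomial.algebraMap_def, MvPolynomial.map_C]
        exact hmem
      rw [ht₁] at this
      exact this)
    (fun i ↦ by
      rw [← hmapX]
      have := hg i
      rw [← Ideal.mem_comap, ← RingHom.algebraMap_toAlgebra φ, ← ht₁] at this
      exact this)
  obtain ⟨z, hzq, hkey⟩ := hlift c₁ hc₁t
  refine ⟨z, hzq, ?_, fun i ↦ ?_⟩
  · refine eq_bot_iff.mpr fun r hr ↦ ?_
    have h1 : algebraMap P₀ PN (C r) ∈ c₁.asIdeal := (hkey (C r)).mp hr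
    rw [MvPolynomial.algebraMap_def, MvPolynomial.map_C, ← Ideal.mem_comap, hc₁b, Ideal.mem_bot] at h1
    exact IsFractionRing.injective R K ((congrArg Subtype.val h1).trans (map_zero _).symm)
  · refine (hkey _).mpr ?_
    rw [hmapX]
    exact hc₁g i

/-- Common zeros of one-variable polynomials with unit leading coefficients are quasi-finite. -/
theorem quasiFinite_comp_C {R S : Type u} [CommRing R] [CommRing S] {e : ℕ}
    (χ : MvPolynomial (Fin e) R →+* S) (hqf : χ.QuasiFinite) (g : Fin e → Polynomial R) (a : R)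
    (ha : IsUnit (χ (C a))) (hlead : ∀ i, (g i).leadingCoeff ∣ a)
    (hg : ∀ i, χ (Polynomial.aeval (X i : MvPolynomial (Fin e) R) (g i)) = 0) :
    (χ.comp C).QuasiFinite := by
  let Ra := Localization.Away a
  letI : Algebra Ra S := (IsLocalization.Away.lift a (g := χ.comp C) ha).toAlgebra
  let x : Fin e → S := fun i ↦ χ (X i)
  let D := Algebra.adjoin Ra (Set.range x)
  have hRS : ∀ r, algebraMap Ra S (algebraMap R Ra r) = χ (C r) := fun r ↦
    IsLocalization.Away.lift_eq a ha r
  have hx : ∀ y ∈ Set.range x, IsIntegral Ra y := by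
    rintro _ ⟨i, rfl⟩
    have hu : IsUnit (algebraMap R Ra (g i).leadingCoeff) :=
      isUnit_of_dvd_unit ((algebraMap R Ra).map_dvd (hlead i)) (IsLocalization.Away.algebraMap_isUnit a)
    rcases subsingleton_or_nontrivial Ra with hs | hs
    · exact ⟨1, Polynomial.monic_one, by
        have : (1 : S) = 0 := by
          rw [← map_one (algebraMap Ra S), Subsingleton.elim (1 : Ra) 0, map_zero]
        simp [this]⟩
    · refine ⟨Polynomial.C ((hu.unit⁻¹ : Raˣ) : Ra) * (g i).map (algebraMap R Ra), ?_, ?_⟩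
      · apply Polynomial.monic_C_mul_of_mul_leadingCoeff_eq_one
        rw [Polynomial.leadingCoeff_map_of_leadingCoeff_ne_zero _ hu.ne_zero]
        exact hu.val_inv_mul
      · rw [Polynomial.eval₂_mul, Polynomial.eval₂_map]
        refine mul_eq_zero_of_right _ ?_
        rw [show (algebraMap Ra S).comp (algebraMap R Ra) = χ.comp C from RingHom.ext hRS]
        have := hg i
        rw [Polynomial.aeval_def, Polynomial.hom_eval₂, MvPolynomial.algebraMap_eq] at this
        exact this
  have : Module.Finite Ra D := Module.Finite.iff_fg.mpr (fg_adjoin_of_finite (Set.finite_range x) hx)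
  let δ : R →+* D := (algebraMap Ra D).comp (algebraMap R Ra)
  let π : MvPolynomial (Fin e) R →+* D :=
    eval₂Hom δ fun i ↦ ⟨x i, Algebra.subset_adjoin ⟨i, rfl⟩⟩
  have hπ : D.val.toRingHom.comp π = χ := by
    refine MvPolynomial.ringHom_ext (fun r ↦ ?_) (fun i ↦ ?_)
    · show (π (C r) : S) = χ (C r)
      rw [show π (C r) = δ r from eval₂_C _ _ _]
      exact hRS r
    · show (π (X i) : S) = χ (X i)
      rw [show π (X i) = _ from eval₂_X _ _ _]
  have h1 : D.val.toRingHom.QuasiFinite := RingHom.QuasiFinite.of_comp (g := π) (hπ.symm ▸ hqf)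
  have h2 : (algebraMap Ra D).QuasiFinite :=
    RingHom.quasiFinite_algebraMap.mpr inferInstance
  have h3 : (algebraMap R Ra).QuasiFinite :=
    RingHom.quasiFinite_algebraMap.mpr (Algebra.QuasiFinite.of_isLocalization (Submonoid.powers a))
  have := h1.comp (h2.comp h3)
  rwa [show D.val.toRingHom.comp ((algebraMap Ra D).comp (algebraMap R Ra)) = χ.comp C from
    RingHom.ext hRS] at this

/-- Coordinates are algebraic at closed points of fibres. -/
theorem exists_polynomial_of_maximal {R B : Type u} [CommRing R] [CommRing B] [Algebra R B]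
    [Algebra.FiniteType R B] (q : PrimeSpectrum B)
    (hmax : ∀ q', q ≤ q' → PrimeSpectrum.comap (algebraMap R B) q' = PrimeSpectrum.comap (algebraMap R B) q →
      q' = q) (b : B) :
    ∃ g : Polynomial R, algebraMap R B g.leadingCoeff ∉ q.asIdeal ∧ Polynomial.aeval b g ∈ q.asIdeal := by
  let p := PrimeSpectrum.comap (algebraMap R B) q
  let k := p.asIdeal.ResidueField
  let F := p.asIdeal.Fiber B
  let H := PrimeSpectrum.preimageOrderIsoFiber R B p
  let Q : PrimeSpectrum F := H ⟨q, rfl⟩
  let ι : B →ₐ[R] F := Algebra.TensorProduct.includeRight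
  have hQ : Q.asIdeal.comap ι.toRingHom = q.asIdeal :=
    congrArg (fun w ↦ (Subtype.val w : PrimeSpectrum B).asIdeal) (H.symm_apply_apply ⟨q, rfl⟩)
  have hQmax : Q.asIdeal.IsMaximal := by
    obtain ⟨M, hM, hle⟩ := Ideal.exists_le_maximal _ Q.isPrime.ne_top
    let M' : PrimeSpectrum F := ⟨M, hM.isPrime⟩
    have h1 : q ≤ (H.symm M').1 := by
      have := H.symm.monotone (show Q ≤ M' from hle)
      rwa [H.symm_apply_apply] at this
    have h2 : H.symm M' = ⟨q, rfl⟩ := Subtype.ext (hmax _ h1 (H.symm M').2)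
    have h3 : M' = Q := by rw [← H.apply_symm_apply M', h2]
    exact (congrArg PrimeSpectrum.asIdeal h3) ▸ hM
  obtain ⟨g₀, hg₀, hg₀x⟩ := exists_aeval_eq_zero_of_maximal (k := k) (F := F) (R := R ⧸ p.asIdeal)
    Q.asIdeal hQmax (ι b)
  have hlift : g₀ ∈ Polynomial.lifts (Ideal.Quotient.mk p.asIdeal) :=
    Polynomial.map_surjective _ Ideal.Quotient.mk_surjective g₀
  obtain ⟨g, hg, hdeg⟩ := Polynomial.exists_natDegree_eq_of_mem_lifts hlift
  refine ⟨g, fun hmem ↦ hg₀ ?_, ?_⟩
  · rw [← Polynomial.leadingCoeff_eq_zero, Polynomial.leadingCoeff, ← hdeg, ← hg, Polynomial.coeff_map,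
      Ideal.Quotient.eq_zero_iff_mem]
    exact hmem
  · rw [← hQ]
    show ι (Polynomial.aeval b g) ∈ Q.asIdeal
    rw [← Polynomial.aeval_algHom_apply]
    rw [← hg, Polynomial.eval₂_map] at hg₀x
    convert hg₀x using 1
    rw [Polynomial.aeval_def]
    congr 1

end UOpenLib
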