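import Mathlib
import Groth.Agent.UOpenLib.QuasiSection
import Groth.Agent.DvrDom.Points

/-!
# Quasi-sections through closed points of fibres, for schemes
-/

set_option autoImplicit false

universe u

open CategoryTheory AlgebraicGeometry TopologicalSpace Topology MvPolynomial

namespace UOpenLib

/-- The ring-level quasi-section: a prime below `q`, over `P`, whose coordinate ring becomes
quasi-finite over the base after inverting one element of the base outside the prime of `q`. -/
theorem exists_quasiFinite_section {R B : Type u} [CommRing R] [CommRing B] {e : ℕ}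
    (φ : MvPolynomial (Fin e) R →+* B) (hft : φ.FiniteType) (hqf : φ.QuasiFinite)
    (q qζ : PrimeSpectrum B) (hqζ : qζ ≤ q)
    (hgen : qζ.asIdeal.comap φ = (qζ.asIdeal.comap (φ.comp C)).map C)
    (hmax : ∀ q', q ≤ q' → PrimeSpectrum.comap (φ.comp C) q' = PrimeSpectrum.comap (φ.comp C) q →
      q' = q) :
    ∃ (z : PrimeSpectrum B) (b : B), qζ ≤ z ∧ z ≤ q ∧ b ∉ q.asIdeal ∧
      PrimeSpectrum.comap (φ.comp C) z = PrimeSpectrum.comap (φ.comp C) qζ ∧
      RingHom.QuasiFinite (((algebraMap (B ⧸ z.asIdeal)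
        (Localization.Away (Ideal.Quotient.mk z.asIdeal b))).comp (Ideal.Quotient.mk z.asIdeal)).comp
          (φ.comp C)) := by
  classical
  letI := (φ.comp C).toAlgebra
  have : Algebra.FiniteType R B := RingHom.finiteType_algebraMap.mp
    (hft.comp (RingHom.finiteType_algebraMap.mpr
      (inferInstance : Algebra.FiniteType R (MvPolynomial (Fin e) R))))
  choose g hlead hg using fun i : Fin e ↦ exists_polynomial_of_maximal (R := R) q hmax (φ (X i))
  have haev : ∀ (G : Polynomial R) i, φ (Polynomial.aeval (X i : MvPolynomial (Fin e) R) G) =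
      Polynomial.aeval (φ (X i)) G := fun G i ↦ by
    rw [Polynomial.aeval_def, Polynomial.aeval_def, Polynomial.hom_eval₂, MvPolynomial.algebraMap_eq]
    rfl
  let P := qζ.asIdeal.comap (φ.comp C)
  let R' := R ⧸ P
  let B' := B ⧸ qζ.asIdeal
  have : IsDomain R' := Ideal.Quotient.isDomain P
  have : IsDomain B' := Ideal.Quotient.isDomain qζ.asIdeal
  let mkB := Ideal.Quotient.mk qζ.asIdeal
  let base : R' →+* B' := Ideal.Quotient.lift P (mkB.comp (φ.comp C)) fun a ha ↦
    Ideal.Quotient.eq_zero_iff_mem.mpr ha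
  let φ' : MvPolynomial (Fin e) R' →+* B' := eval₂Hom base fun i ↦ mkB (φ (X i))
  let μ : MvPolynomial (Fin e) R →+* MvPolynomial (Fin e) R' := MvPolynomial.map (Ideal.Quotient.mk P)
  have hμC : ∀ r, μ (C r) = C (Ideal.Quotient.mk P r) := fun r ↦ MvPolynomial.map_C _ _
  have hμX : ∀ i, μ (X i) = X i := fun i ↦ MvPolynomial.map_X _ _
  have hsq : φ'.comp μ = mkB.comp φ := by
    refine MvPolynomial.ringHom_ext (fun r ↦ ?_) (fun i ↦ ?_)
    · show φ' (μ (C r)) = _
      rw [hμC, show φ' (C (Ideal.Quotient.mk P r)) = base (Ideal.Quotient.mk P r) from eval₂_C _ _ _]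
      rfl
    · show φ' (μ (X i)) = _
      rw [hμX]
      exact eval₂_X _ _ _
  have hinj : Function.Injective φ' := by
    rw [injective_iff_map_eq_zero]
    intro y hy
    obtain ⟨y, rfl⟩ := MvPolynomial.map_surjective (Ideal.Quotient.mk P) Ideal.Quotient.mk_surjective y
    have h1 : mkB (φ y) = 0 := (RingHom.congr_fun hsq y).symm.trans hy
    have h2 : y ∈ qζ.asIdeal.comap φ := (Ideal.Quotient.eq_zero_iff_mem.mp h1 : φ y ∈ qζ.asIdeal)
    rw [hgen] at h2
    have : y ∈ RingHom.ker μ := by rw [MvPolynomial.ker_map, Ideal.mk_ker]; exact h2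
    exact this
  have hqf' : φ'.QuasiFinite := RingHom.QuasiFinite.of_comp (g := μ) (hsq.symm ▸
    (RingHom.QuasiFinite.of_finite (RingHom.Finite.of_surjective mkB Ideal.Quotient.mk_surjective)).comp hqf)
  have hft' : φ'.FiniteType := RingHom.FiniteType.of_comp_finiteType (f := μ) (hsq.symm ▸
    (RingHom.FiniteType.of_surjective mkB Ideal.Quotient.mk_surjective).comp hft)
  let q' : PrimeSpectrum B' := ⟨q.asIdeal.map mkB, Ideal.isPrime_map_quotientMk_of_isPrime hqζ⟩
  have hq' : ∀ y, mkB y ∈ q'.asIdeal ↔ y ∈ q.asIdeal := fun y ↦ by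
    rw [← Ideal.mem_comap, Ideal.comap_map_of_surjective _ Ideal.Quotient.mk_surjective,
      ← RingHom.ker_eq_comap_bot, Ideal.mk_ker, sup_eq_left.mpr hqζ]
  have hφ'C : ∀ r, φ' (C (Ideal.Quotient.mk P r)) = mkB (φ (C r)) := fun r ↦ by
    rw [← hμC]; exact RingHom.congr_fun hsq _
  have hglead : ∀ i, Ideal.Quotient.mk P (g i).leadingCoeff ≠ 0 := fun i h ↦
    hlead i (hqζ (Ideal.Quotient.eq_zero_iff_mem.mp h : (g i).leadingCoeff ∈ P))
  have haev' : ∀ i, φ' (Polynomial.aeval (X i : MvPolynomial (Fin e) R')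
      ((g i).map (Ideal.Quotient.mk P))) = mkB (Polynomial.aeval (φ (X i)) (g i)) := fun i ↦ by
    rw [← haev, ← RingHom.comp_apply mkB φ, ← hsq, RingHom.comp_apply]
    congr 1
    rw [Polynomial.aeval_def, Polynomial.eval₂_map, Polynomial.aeval_def, Polynomial.hom_eval₂, hμX]
    congr 1
    exact RingHom.ext fun r ↦ (hμC r).symm
  obtain ⟨z', hz'q, hz'b, hz'g⟩ := exists_prime_quasiSection φ' hinj hft' hqf' q'
    (fun i ↦ (g i).map (Ideal.Quotient.mk P))
    (fun i h ↦ by
      rw [Polynomial.leadingCoeff_map_of_leadingCoeff_ne_zero _ (hglead i), hφ'C, hq'] at h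
      exact hlead i h)
    (fun i ↦ by rw [haev', hq']; exact hg i)
  let z : PrimeSpectrum B := PrimeSpectrum.comap mkB z'
  have hζz : qζ ≤ z := fun y hy ↦ by
    show mkB y ∈ z'.asIdeal
    rw [show mkB y = 0 from Ideal.Quotient.eq_zero_iff_mem.mpr hy]
    exact Ideal.zero_mem _
  let a : R := ∏ i, (g i).leadingCoeff
  have ha : φ (C a) ∉ q.asIdeal := by
    intro h
    rw [map_prod, map_prod] at h
    obtain ⟨i, -, hi⟩ := (q.isPrime.prod_mem_iff).mp h
    exact hlead i hi
  refine ⟨z, φ (C a), hζz, fun y hy ↦ (hq' y).mp (hz'q hy), ha, ?_, ?_⟩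
  · apply PrimeSpectrum.ext
    ext r
    show mkB (φ (C r)) ∈ z'.asIdeal ↔ φ (C r) ∈ qζ.asIdeal
    rw [← hφ'C, ← RingHom.comp_apply φ' C, ← Ideal.mem_comap, hz'b, Ideal.mem_bot,
      Ideal.Quotient.eq_zero_iff_mem]
    rfl
  · let mkz := Ideal.Quotient.mk z.asIdeal
    let S := Localization.Away (mkz (φ (C a)))
    let χ : MvPolynomial (Fin e) R →+* S := ((algebraMap (B ⧸ z.asIdeal) S).comp mkz).comp φ
    show ((((algebraMap (B ⧸ z.asIdeal) S).comp mkz).comp φ).comp C).QuasiFinite
    refine quasiFinite_comp_C χ ?_ g a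
      (IsLocalization.Away.algebraMap_isUnit (S := S) (mkz (φ (C a))))
      (fun i ↦ Finset.dvd_prod_of_mem _ (Finset.mem_univ i)) (fun i ↦ ?_)
    · refine RingHom.QuasiFinite.comp ?_ hqf
      exact (RingHom.quasiFinite_algebraMap.mpr
        (Algebra.QuasiFinite.of_isLocalization (Submonoid.powers (mkz (φ (C a)))))).comp
        (RingHom.QuasiFinite.of_finite (RingHom.Finite.of_surjective mkz Ideal.Quotient.mk_surjective))
    · show algebraMap (B ⧸ z.asIdeal) S (mkz (φ _)) = 0
      have h0 : mkz (Polynomial.aeval (φ (X i)) (g i)) = 0 := Ideal.Quotient.eq_zero_iff_mem.mpr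
        (show mkB _ ∈ z'.asIdeal by rw [← haev']; exact hz'g i)
      rw [haev, h0, map_zero]

/-- A quasi-section through a point closed in its fibre, inside the closure of a generization with a
large fibre over the generic point. -/
theorem exists_quasiSection {X Y : Scheme.{u}} [IsLocallyNoetherian Y] (g : X ⟶ Y)
    [LocallyOfFiniteType g] (x : X) (hcl : ∀ x' : X, g.base x' = g.base x → x ⤳ x' → x' = x)
    (ζ : X) (hζx : ζ ⤳ x) (hη : closure {g.base ζ} = Set.univ)
    (hdim : FlatMor.fibreDimAt g x ≤ fibreClosureDim g ζ) :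
    ∃ (T : Scheme.{u}) (i : T ⟶ X), IsImmersion i ∧ IrreducibleSpace ↥T ∧ IsReduced T ∧
      x ∈ Set.range i.base ∧ Set.range i.base ⊆ closure {ζ} ∧
      LocallyOfFiniteType (i ≫ g) ∧ LocallyQuasiFinite (i ≫ g) ∧ QuasiCompact (i ≫ g) ∧
      IsDominant (i ≫ g) := by
  obtain ⟨e, hd⟩ := exists_fibreDimAt_eq_nat g x
  obtain ⟨_, ⟨V, hV, rfl⟩, hxV, -⟩ :=
    Y.isBasis_affineOpens.exists_subset_of_mem_open (Set.mem_univ (g.base x)) isOpen_univ
  have hV : IsAffineOpen V := hV
  obtain ⟨U, hU, hxU, eUV, φ, hφ, hft, hqf⟩ := FibDimLib.exists_qf_affine_nhd g x hV hxV e hd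
  have hζU : ζ ∈ U := hζx.mem_open U.isOpen hxU
  let qx := hU.primeIdealOf ⟨x, hxU⟩
  let qζ := hU.primeIdealOf ⟨ζ, hζU⟩
  have hgen := comap_eq_of_le_fibreClosureDim g hV hU eUV φ hφ hqf hζU (hd ▸ hdim)
  rw [← comap_primeIdealOf g hV hU eUV φ hφ ζ hζU] at hgen
  obtain ⟨z, b, hζz, hzx, hb, hzb, hSqf⟩ := exists_quasiFinite_section φ hft hqf qx qζ
    ((primeIdealOf_le_iff hU hζU hxU).mpr hζx) hgen (fun q' hq' he ↦ by
      obtain ⟨w, hw, rfl⟩ := exists_point_of_prime hU q'
      have hgw : g.base w = g.base x := by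
        rw [comap_primeIdealOf g hV hU eUV φ hφ w hw, comap_primeIdealOf g hV hU eUV φ hφ x hxU] at he
        have := congrArg hV.fromSpec.base he
        rwa [hV.fromSpec_primeIdealOf, hV.fromSpec_primeIdealOf] at this
      have := hcl w hgw ((primeIdealOf_le_iff hU hxU hw).mp hq')
      subst this
      rfl)
  let B := Γ(X, U)
  let Bz := B ⧸ z.asIdeal
  let mkz : B →+* Bz := Ideal.Quotient.mk z.asIdeal
  have : IsDomain Bz := Ideal.Quotient.isDomain z.asIdeal
  have hbz : mkz b ≠ 0 := fun h ↦ hb (hzx (Ideal.Quotient.eq_zero_iff_mem.mp h))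
  let S := Localization.Away (mkz b)
  have : IsDomain S := IsLocalization.isDomain_localization
    (powers_le_nonZeroDivisors_of_noZeroDivisors hbz)
  let ι : B →+* S := (algebraMap Bz S).comp mkz
  let i : Spec (CommRingCat.of S) ⟶ X := Spec.map (CommRingCat.ofHom ι) ≫ hU.fromSpec
  have hi : IsImmersion i := by
    have h1 : Spec.map (CommRingCat.ofHom ι) =
        Spec.map (CommRingCat.ofHom (algebraMap Bz S)) ≫ Spec.map (CommRingCat.ofHom mkz) := by
      rw [← Spec.map_comp]; rfl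
    have : IsOpenImmersion (Spec.map (CommRingCat.ofHom (algebraMap Bz S))) :=
      IsOpenImmersion.of_isLocalization (mkz b)
    have : IsClosedImmersion (Spec.map (CommRingCat.ofHom mkz)) :=
      IsClosedImmersion.spec_of_surjective _ Ideal.Quotient.mk_surjective
    show IsImmersion (Spec.map (CommRingCat.ofHom ι) ≫ hU.fromSpec)
    rw [h1]
    infer_instance
  have hcomp : i ≫ g = Spec.map (CommRingCat.ofHom (ι.comp (φ.comp C))) ≫ hV.fromSpec := by
    show (Spec.map (CommRingCat.ofHom ι) ≫ hU.fromSpec) ≫ g = _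
    rw [Category.assoc, ← IsAffineOpen.SpecMap_appLE_fromSpec g hV hU eUV, ← Spec.map_comp_assoc]
    congr 2
    exact CommRingCat.hom_ext (congrArg ι.comp hφ.symm)
  have hqfS : LocallyQuasiFinite (Spec.map (CommRingCat.ofHom (ι.comp (φ.comp C)))) :=
    HasRingHomProperty.Spec_iff.mpr hSqf
  have hftS : LocallyOfFiniteType (Spec.map (CommRingCat.ofHom (ι.comp (φ.comp C)))) := by
    refine HasRingHomProperty.Spec_iff.mpr ?_
    refine RingHom.FiniteType.comp ?_ (hft.comp (RingHom.finiteType_algebraMap.mpr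
      (inferInstance : Algebra.FiniteType Γ(Y, V) (MvPolynomial (Fin e) Γ(Y, V)))))
    exact (RingHom.finiteType_algebraMap.mpr
      (IsLocalization.finiteType_of_monoid_fg (Submonoid.powers (mkz b)) S)).comp
      (RingHom.FiniteType.of_surjective mkz Ideal.Quotient.mk_surjective)
  have hrange : ∀ s, z ≤ PrimeSpectrum.comap ι s := fun s y hy ↦ by
    show algebraMap Bz S (mkz y) ∈ s.asIdeal
    rw [show mkz y = 0 from Ideal.Quotient.eq_zero_iff_mem.mpr hy, map_zero]
    exact Ideal.zero_mem _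
  refine ⟨Spec (CommRingCat.of S), i, hi, inferInstanceAs (IrreducibleSpace (PrimeSpectrum S)),
    inferInstance, ?_, ?_, ?_, ?_, ?_, ?_⟩
  · let qz : PrimeSpectrum Bz := ⟨qx.asIdeal.map mkz, Ideal.isPrime_map_quotientMk_of_isPrime hzx⟩
    have hqz : qz.asIdeal.comap mkz = qx.asIdeal := by
      rw [Ideal.comap_map_of_surjective _ Ideal.Quotient.mk_surjective, ← RingHom.ker_eq_comap_bot,
        Ideal.mk_ker, sup_eq_left]
      exact hzx
    obtain ⟨s, hs⟩ : qz ∈ Set.range (PrimeSpectrum.comap (algebraMap Bz S)) := by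
      rw [PrimeSpectrum.localization_away_comap_range S (mkz b)]
      exact fun h ↦ hb (hqz.le h)
    refine ⟨s, ?_⟩
    refine Eq.trans ?_ (hU.fromSpec_primeIdealOf ⟨x, hxU⟩)
    show hU.fromSpec.base (PrimeSpectrum.comap ι s) = hU.fromSpec.base qx
    congr 1
    apply PrimeSpectrum.ext
    show (s.asIdeal.comap (algebraMap Bz S)).comap mkz = qx.asIdeal
    rw [show s.asIdeal.comap (algebraMap Bz S) = qz.asIdeal from congrArg PrimeSpectrum.asIdeal hs, hqz]
  · rintro _ ⟨s, rfl⟩
    have hle : qζ ≤ PrimeSpectrum.comap ι s := hζz.trans (hrange s)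
    have := ((PrimeSpectrum.le_iff_specializes _ _).mp hle).map hU.fromSpec.continuous
    rw [hU.fromSpec_primeIdealOf] at this
    exact this.mem_closure
  · rw [hcomp]; infer_instance
  · rw [hcomp]; infer_instance
  · rw [hcomp]
    have : QuasiCompact hV.fromSpec := inferInstance
    infer_instance
  · let s₀ : PrimeSpectrum S := ⟨⊥, Ideal.isPrime_bot⟩
    have hs₀ : PrimeSpectrum.comap ι s₀ = z := by
      apply PrimeSpectrum.ext
      show (⊥ : Ideal S).comap ι = z.asIdeal
      rw [← RingHom.ker_eq_comap_bot]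
      ext y
      rw [RingHom.mem_ker]
      show algebraMap Bz S (mkz y) = 0 ↔ _
      rw [IsLocalization.to_map_eq_zero_iff S (powers_le_nonZeroDivisors_of_noZeroDivisors hbz)]
      exact Ideal.Quotient.eq_zero_iff_mem
    have h1 : (i ≫ g).base s₀ = g.base ζ := by
      rw [hcomp, Scheme.Hom.comp_apply]
      show hV.fromSpec.base (PrimeSpectrum.comap (ι.comp (φ.comp C)) s₀) = _
      rw [PrimeSpectrum.comap_comp_apply, hs₀, hzb, comap_primeIdealOf g hV hU eUV φ hφ ζ hζU,
        hV.fromSpec_primeIdealOf]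
    refine ⟨dense_iff_closure_eq.mpr (Set.eq_univ_of_univ_subset ?_)⟩
    rw [← hη]
    exact closure_mono (Set.singleton_subset_iff.mpr ⟨s₀, h1⟩)

end UOpenLib
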