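import Mathlib
import Groth.Agent.UOpenLib.Chevalley
import Groth.Agent.UOpenLib.QuasiSectionScheme
import Groth.Agent.UOpenLib.Generization
import Groth.Agent.UOpenLib.DimOne

/-!
# Openness along a fibre over a geometrically unibranch point
-/

set_option autoImplicit false

universe u

open CategoryTheory Limits AlgebraicGeometry TopologicalSpace Topology

namespace UOpenLib

variable {X Y : Scheme.{u}} (g : X ⟶ Y)

theorem isOpenAt_of_isUnivOpenAt {x : X} (h : EGA43.IsUnivOpenAt g x) : EGA43.IsOpenAt g.base x :=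
  IsUnivOpenAt.isOpenAt h (IsPullback.of_id_fst (f := g)) x rfl

/-- Universal openness at the points closed in the fibre gives it at all points of the fibre. -/
theorem isUnivOpenAt_of_closed_points [LocallyOfFiniteType g] (y : Y)
    (h : ∀ x : X, g.base x = y → (∀ x' : X, g.base x' = y → x ⤳ x' → x' = x) → EGA43.IsUnivOpenAt g x)
    (z : X) (hz : g.base z = y) : EGA43.IsUnivOpenAt g z := by
  intro Y' k z' hz'
  let g' := pullback.snd g k
  let y' := g'.base z'
  have hy : g.base z = k.base y' := by
    rw [← hz', ← Scheme.Hom.comp_apply, pullback.condition, Scheme.Hom.comp_apply]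
  have hky : k.base y' = y := hy.symm.trans hz
  have sq := isPullback_fiberToSpecResidueField_of_isPullback (IsPullback.of_hasPullback g k) y'
  set m := pullback.map _ _ _ _ (pullback.fst g k) (Spec.map (k.residueFieldMap y')) k
    (IsPullback.of_hasPullback g k).w.symm (k.SpecMap_residueFieldMap_fromSpecResidueField y').symm
  have : UniversallyOpen (Spec.map (k.residueFieldMap y')) := inferInstance
  have : UniversallyOpen m := MorphismProperty.of_isPullback sq.flip this
  have hm : m ≫ g.fiberι (k.base y') = g'.fiberι y' ≫ pullback.fst g k := pullback.lift_fst _ _ _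
  intro W hW
  obtain ⟨O, hOW, hO, hzO⟩ := mem_nhds_iff.mp hW
  let V : Set (g'.fiber y') := (g'.fiberι y').base ⁻¹' O
  have hV : IsOpen (m.base '' V) := m.isOpenMap _ (hO.preimage (g'.fiberι y').continuous)
  have hne : (m.base '' V).Nonempty := ⟨_, g'.asFiber z', show (g'.fiberι y').base _ ∈ O by
    rw [g'.fiberι_asFiber]; exact hzO, rfl⟩
  have : LocallyOfFiniteType (pullback.snd g (Y.fromSpecResidueField (k.base y'))) :=
    MorphismProperty.pullback_snd _ _ inferInstance
  have : JacobsonSpace ↥(pullback g (Y.fromSpecResidueField (k.base y'))) :=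
    LocallyOfFiniteType.jacobsonSpace (pullback.snd g (Y.fromSpecResidueField (k.base y')))
  obtain ⟨a, ha, hacl⟩ := nonempty_inter_closedPoints hne hV.isLocallyClosed
  obtain ⟨v, hv, rfl⟩ := ha
  let x' := (g'.fiberι y').base v
  have hxx : (pullback.fst g k).base x' = (g.fiberι (k.base y')).base (m.base v) :=
    (congrArg (fun q ↦ q.base v) hm).symm
  have hgx : g.base ((g.fiberι (k.base y')).base (m.base v)) = y := by
    have h1 := Set.mem_range_self (f := (g.fiberι (k.base y')).base) (m.base v)
    rw [g.range_fiberι] at h1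
    exact h1.trans hky
  have hx := h _ hgx (fun x'' hx'' hsp ↦ by
    obtain ⟨b, rfl⟩ : x'' ∈ Set.range (g.fiberι (k.base y')).base := by
      rw [g.range_fiberι]; exact hx''.trans hky.symm
    have : m.base v ⤳ b := (g.fiberι (k.base y')).isEmbedding.isInducing.specializes_iff.mp hsp
    rw [show b = m.base v from (mem_closedPoints_iff.mp hacl).closure_eq.subset this.mem_closure])
  have hy' : g'.base x' = y' := by
    have h1 := Set.mem_range_self (f := (g'.fiberι y').base) v
    rw [g'.range_fiberι] at h1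
    exact h1
  have := hx Y' k x' hxx O (hO.mem_nhds hv)
  rw [hy'] at this
  exact Filter.mem_of_superset this (Set.image_mono hOW)

variable [IrreducibleSpace Y] [IsLocallyNoetherian Y] [LocallyOfFiniteType g]

omit [IsLocallyNoetherian Y] in
theorem closure_genericPoint_mem : closure {genericPoint Y} ∈ irreducibleComponents (Y : Type u) := by
  rw [(genericPoint_closure _), irreducibleComponents_eq_singleton]; rfl

omit [IsLocallyNoetherian Y] in
theorem eq_genericPoint_of_specializes {η : Y} (h : η ⤳ genericPoint Y) : η = genericPoint Y :=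
  (h.antisymm (genericPoint_specializes η)).eq

/-- Openness at a maximal point of a fibre gives a component with equal fibre dimensions. -/
theorem exists_component_of_isOpenAt (z : X)
    (hmax : ∀ z' : X, g.base z' = g.base z → z ∈ closure {z'} → z' = z)
    (h : EGA43.IsOpenAt g.base z) :
    ∃ Z ∈ irreducibleComponents (X : Type u), ∃ hz : z ∈ Z, Dense (g.base '' Z) ∧
      FlatMor.localDim ↥(Z ∩ g.base ⁻¹' {g.base z}) ⟨z, ⟨hz, rfl⟩⟩ =
        topologicalKrullDim ↥(Z ∩ g.base ⁻¹' {genericPoint Y}) := by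
  have hlift := (Groth.Agent.S3404.result g z).1 h
  obtain ⟨ζ, hζ, hgζ, hdim⟩ := exists_generization_of_lift g hmax (y₁ := genericPoint Y)
    (genericPoint_specializes _) fun y' _ hy' ↦ hlift y' hy'
  obtain ⟨Z, hZ, hzZ, hcl, hdims⟩ := exists_component_of_generization g (x := z) specializes_rfl rfl
    (fibreDimAt_eq_of_max g hmax).symm hζ (hgζ ▸ closure_genericPoint_mem) hdim
  rw [hgζ] at hcl hdims
  exact ⟨Z, hZ, hzZ, dense_iff_closure_eq.mpr (hcl.trans (genericPoint_closure _)), (hdims _ rfl).2⟩

/-- Equal fibre dimensions at the maximal points give quasi-sections through closed points. -/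
theorem exists_quasiSection_of_component (y : Y) (hy : CAlg2.IsGeomUnibranch (Y.presheaf.stalk y))
    (h : ∀ z : X, ∀ hzy : g.base z = y, (∀ z' : X, g.base z' = y → z ∈ closure {z'} → z' = z) →
        ∃ Z ∈ irreducibleComponents (X : Type u), ∃ hz : z ∈ Z, Dense (g.base '' Z) ∧
          FlatMor.localDim ↥(Z ∩ g.base ⁻¹' {y}) ⟨z, ⟨hz, hzy⟩⟩ =
            topologicalKrullDim ↥(Z ∩ g.base ⁻¹' {genericPoint Y}))
    (x : X) (hxy : g.base x = y) (hcl : ∀ x' : X, g.base x' = y → x ⤳ x' → x' = x) :
    ∃ (T : Scheme.{u}) (i : T ⟶ X), IsImmersion i ∧ IrreducibleSpace ↥T ∧ IsReduced T ∧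
      x ∈ Set.range i.base ∧ LocallyOfFiniteType (i ≫ g) ∧ LocallyQuasiFinite (i ≫ g) ∧
      QuasiCompact (i ≫ g) ∧ IsDominant (i ≫ g) := by
  subst hxy
  obtain ⟨x₀, hg₀, hx₀, hmax, hd⟩ := exists_max_fibreDimAt g x
  have hu : EGA43.IsUnivOpenAt g x₀ := by
    refine isUnivOpenAt_of_component g x₀ hmax (hg₀ ▸ hy) fun Y₀ hY₀ _ ↦ ?_
    obtain ⟨Z, hZ, hz, hden, hdim⟩ := h x₀ hg₀ (fun z' hz' ↦ hmax z' (hz'.trans hg₀.symm))
    have hY : Y₀ = Set.univ := by simpa [irreducibleComponents_eq_singleton] using hY₀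
    subst hY
    refine ⟨Z, hZ, hz, hden.closure_eq, fun η hη ↦ ?_⟩
    obtain rfl : η = genericPoint Y := eq_genericPoint_of_specializes
      (specializes_iff_mem_closure.mpr (hη.symm ▸ Set.mem_univ _))
    exact (fun y' (e : g.base x₀ = y') (h' : FlatMor.localDim ↥(Z ∩ g.base ⁻¹' {y'}) ⟨x₀, ⟨hz, e⟩⟩ =
        topologicalKrullDim ↥(Z ∩ g.base ⁻¹' {genericPoint Y})) ↦ by subst e; exact h') _ hg₀ hdim
  obtain ⟨ζ, hζ, hgζ, hdim⟩ := exists_generization_of_isUnivOpenAt g hmax hu (y₁ := genericPoint Y)
    (genericPoint_specializes _)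
  rw [fibreDimAt_eq_of_max g hmax, hd] at hdim
  obtain ⟨T, i, h1, h2, h3, h4, -, h5⟩ := exists_quasiSection g x hcl ζ (hζ.trans hx₀)
    (hgζ ▸ (genericPoint_closure _)) hdim
  exact ⟨T, i, h1, h2, h3, h4, h5⟩

omit [LocallyOfFiniteType g] in
/-- A quasi-section through a point over a geometrically unibranch point gives universal openness. -/
theorem isUnivOpenAt_of_quasiSection {T : Scheme.{u}} (i : T ⟶ X) [IrreducibleSpace ↥T]
    [LocallyOfFiniteType (i ≫ g)] [LocallyQuasiFinite (i ≫ g)] [IsDominant (i ≫ g)] (t : T)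
    (hy : CAlg2.IsGeomUnibranch (Y.presheaf.stalk (g.base (i.base t)))) :
    EGA43.IsUnivOpenAt g (i.base t) := by
  refine IsUnivOpenAt.of_comp (isUnivOpenAt_of_unibranch (i ≫ g) t hy (genericPoint_specializes t) ?_ ?_)
  · have : closure {(i ≫ g).base (genericPoint T)} = Set.univ := by
      rw [← Set.image_singleton, ← closure_image_closure (i ≫ g).continuous, (genericPoint_closure _),
        Set.image_univ]
      exact (IsDominant.denseRange (f := i ≫ g)).closure_range
    rw [this, irreducibleComponents_eq_singleton]; rfl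
  · obtain ⟨t₀, -, -, -, hd⟩ := exists_max_fibreDimAt (i ≫ g) t
    obtain ⟨n, hn⟩ := exists_fibreClosureDim_eq_nat (i ≫ g) (genericPoint T)
    rw [← hd, hn]
    refine le_trans ?_ (Nat.cast_nonneg n)
    have : Subsingleton ↥(closure ({(i ≫ g).asFiber t₀} : Set _)) := by
      rw [closure_discrete]; infer_instance
    have : Subsingleton (IrreducibleCloseds ↥(closure ({(i ≫ g).asFiber t₀} : Set _))) :=
      ⟨fun a b ↦ IrreducibleCloseds.ext ((Subsingleton.eq_univ_of_nonempty a.isIrreducible.nonempty).trans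
        (Subsingleton.eq_univ_of_nonempty b.isIrreducible.nonempty).symm)⟩
    exact Order.krullDim_nonpos_of_subsingleton

end UOpenLib
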