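import Mathlib
import Groth.Agent.GonfLib.Residue
import Groth.Agent.DvrDom.Basic
import Groth.Agent.CatLib.Completion
import Groth.Agent.CompleteLib.Basic
import Groth.Agent.AdicRingLib.RigClosedFinite

/-!
# Complete discrete valuation rings and finite points of algebras over them
-/

set_option autoImplicit false
universe u

open IsLocalRing

namespace UOpenLib

/-- A Noetherian local ring with principal maximal ideal generated by a regular element is a discrete
valuation ring. -/
theorem isDiscreteValuationRing_of_regular_principal {B : Type u} [CommRing B] [IsLocalRing B]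
    [IsNoetherianRing B] {π : B} (hπ : maximalIdeal B = Ideal.span {π}) (hreg : ∀ z, π * z = 0 → z = 0) :
    ∃ _ : IsDomain B, IsDiscreteValuationRing B := by
  classical
  have hdec : ∀ z : B, z ≠ 0 → ∃ (n : ℕ) (u : B), IsUnit u ∧ z = π ^ n * u := by
    intro z hz
    by_contra hno
    refine hz ?_
    have hz' : z ∈ ⨅ n : ℕ, maximalIdeal B ^ n := by
      rw [Submodule.mem_iInf]
      intro n
      rw [hπ, Ideal.span_singleton_pow, Ideal.mem_span_singleton]
      induction n with
      | zero => simp
      | succ n ih =>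
        obtain ⟨w, hw⟩ := ih
        have hw2 : w ∈ maximalIdeal B := fun hu => hno ⟨n, w, hu, hw⟩
        rw [hπ, Ideal.mem_span_singleton] at hw2
        obtain ⟨w', rfl⟩ := hw2
        exact ⟨w', by rw [hw, pow_succ, mul_assoc]⟩
    rwa [Ideal.iInf_pow_eq_bot_of_isLocalRing _ (maximalIdeal.isMaximal B).ne_top] at hz'
  have hpow : ∀ (n : ℕ) (z : B), π ^ n * z = 0 → z = 0 := by
    intro n
    induction n with
    | zero => simp
    | succ n ih => intro z hz; rw [pow_succ', mul_assoc] at hz; exact ih z (hreg _ hz)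
  have : IsDomain B := by
    have : NoZeroDivisors B := ⟨fun {a b} hab => or_iff_not_imp_left.2 fun ha => by
      obtain ⟨n, u, hu, rfl⟩ := hdec a ha
      rw [mul_assoc] at hab
      exact hu.mul_right_eq_zero.1 (hpow n _ hab)⟩
    exact NoZeroDivisors.to_isDomain B
  have hnf : ¬ IsField B := fun hF => by
    have := IsLocalRing.isField_iff_maximalIdeal_eq.1 hF
    rw [hπ, Ideal.span_singleton_eq_bot] at this
    exact one_ne_zero (hreg 1 (by rw [this, zero_mul]))
  exact ⟨inferInstance, ((IsDiscreteValuationRing.TFAE B hnf).out 0 4).2 (by rw [hπ]; exact ⟨⟨π, rfl⟩⟩)⟩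

/-- A discrete valuation ring extends to a complete one with a given residue field. -/
theorem exists_complete_dvr_residue {A : Type u} [CommRing A] [IsDomain A] [IsDiscreteValuationRing A]
    (K : Type u) [Field K] [Algebra A K] (hk : RingHom.ker (algebraMap A K) = maximalIdeal A) :
    ∃ (Λ : Type u) (_ : CommRing Λ) (_ : IsDomain Λ) (_ : IsDiscreteValuationRing Λ) (_ : Algebra A Λ)
      (ψ : Λ →ₐ[A] K), IsAdicComplete (maximalIdeal Λ) Λ ∧ IsLocalHom (algebraMap A Λ) ∧
      Function.Injective (algebraMap A Λ) ∧ Function.Surjective ψ ∧ RingHom.ker ψ = maximalIdeal Λ := by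
  obtain ⟨B, _, _, _, _, φ, hflat, hmap, hs, hker, hN⟩ := GonfLib.exists_local_extension A K hk
  have := hN inferInstance
  obtain ⟨ϖ, hϖ⟩ := IsDiscreteValuationRing.exists_irreducible A
  let C := AdicCompletion (maximalIdeal B) B
  have : IsNoetherianRing C := CatLib.isNoetherianRing_cpl B
  have hmax : maximalIdeal C = Ideal.span {algebraMap A C ϖ} := by
    rw [AdicCompletion.maximalIdeal_eq_map]
    refine (congrArg (Ideal.map (algebraMap B C)) (hmap.symm.trans
      (congrArg (Ideal.map (algebraMap A B)) hϖ.maximalIdeal_eq))).trans ?_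
    rw [Ideal.map_span, Set.image_singleton, Ideal.map_span, Set.image_singleton,
      ← IsScalarTower.algebraMap_apply]
  have : Module.Flat B C := AdicCompletion.flat_of_isNoetherian _
  have : Module.Flat A C := Module.Flat.trans A B C
  have hreg : ∀ z : C, algebraMap A C ϖ * z = 0 → z = 0 := fun z hz => by
    have h1 := Module.Flat.isSMulRegular_of_nonZeroDivisors (M := C) (mem_nonZeroDivisors_of_ne_zero hϖ.ne_zero)
    exact h1 (show ϖ • z = ϖ • 0 by rw [smul_zero, Algebra.smul_def]; exact hz)
  obtain ⟨_, _⟩ := isDiscreteValuationRing_of_regular_principal hmax hreg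
  have hloc : IsLocalHom (algebraMap A C) := by
    refine ((IsLocalRing.local_hom_TFAE (algebraMap A C)).out 0 2 rfl rfl).mpr ?_
    rw [hϖ.maximalIdeal_eq, Ideal.map_span, Set.image_singleton, hmax]
  have hinj : Function.Injective (algebraMap A C) := by
    rw [injective_iff_map_eq_zero]
    intro a ha
    by_contra ha0
    obtain ⟨n, v, rfl⟩ := IsDiscreteValuationRing.eq_unit_mul_pow_irreducible ha0 hϖ
    rw [map_mul, map_pow] at ha
    have h2 : (algebraMap A C ϖ) ^ n = 0 := (v.isUnit.map _).mul_right_eq_zero.mp ha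
    have h3 : algebraMap A C ϖ = 0 := pow_eq_zero_iff'.mp h2 |>.1
    exact one_ne_zero (hreg 1 (by rw [h3, zero_mul]))
  let κ : (B ⧸ maximalIdeal B) →ₐ[A] K := Ideal.Quotient.liftₐ _ φ (fun a ha => RingHom.mem_ker.mp (hker.ge ha))
  let ψ : C →ₐ[A] K := κ.comp ((AdicCompletion.evalOneₐ (maximalIdeal B)).restrictScalars A)
  have hψs : Function.Surjective ψ := fun k => by
    obtain ⟨b, rfl⟩ := hs k
    obtain ⟨c, hc⟩ := AdicCompletion.evalOneₐ_surjective (maximalIdeal B) (Ideal.Quotient.mk _ b)
    exact ⟨c, (congrArg κ hc).trans rfl⟩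
  refine ⟨C, inferInstance, inferInstance, inferInstance, inferInstance, ψ, inferInstance, hloc, hinj, hψs,
    IsLocalRing.eq_maximalIdeal (RingHom.ker_isMaximal_of_surjective ψ hψs)⟩

/-- In a Noetherian local ring a non-nilpotent element of the maximal ideal avoids a prime of
coheight one. -/
theorem exists_prime_radical {S : Type u} [CommRing S] [IsLocalRing S] [IsNoetherianRing S] {T : S}
    (hnil : ¬ IsNilpotent T) :
    ∃ Q : Ideal S, Q.IsPrime ∧ T ∉ Q ∧ maximalIdeal S ≤ (Q ⊔ Ideal.span {T}).radical := by
  classical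
  obtain ⟨Q, hQ, hmaxQ⟩ := set_has_maximal_iff_noetherian.mpr ‹IsNoetherianRing S›
    {Q : Ideal S | Q.IsPrime ∧ T ∉ Q} (by
      by_contra hemp
      refine hnil (nilpotent_iff_mem_prime.mpr fun P hP => ?_)
      by_contra hTP
      exact hemp ⟨P, hP, hTP⟩)
  have := hQ.1
  let D := S ⧸ Q
  let π := Ideal.Quotient.mk Q
  have : IsLocalRing D := .of_surjective' _ Ideal.Quotient.mk_surjective
  have hall : ∀ P : Ideal D, P.IsPrime → P ≠ ⊥ → π T ∈ P := fun P hP hP0 => by
    by_contra hTP
    refine hmaxQ (P.comap π) ⟨hP.comap _, hTP⟩ (lt_of_le_of_ne ?_ fun e => hP0 ?_)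
    · intro a ha
      rw [Ideal.mem_comap, show π a = 0 from Ideal.Quotient.eq_zero_iff_mem.mpr ha]
      exact zero_mem _
    · rw [← Ideal.map_comap_of_surjective π Ideal.Quotient.mk_surjective P, ← e, Ideal.map_quotient_self]
  by_cases hTS : T ∈ maximalIdeal S
  swap
  · refine ⟨Q, inferInstance, hQ.2, ?_⟩
    rw [Ideal.span_singleton_eq_top.mpr (IsLocalRing.notMem_maximalIdeal.mp hTS), sup_top_eq,
      Ideal.radical_top]
    exact le_top
  have hTm : π T ∈ maximalIdeal D := (IsLocalRing.mem_maximalIdeal _).mpr fun hu =>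
    hTS ((Function.Surjective.isLocalHom π Ideal.Quotient.mk_surjective).map_nonunit _ hu)
  have hsub : (maximalIdeal D : Set D) ⊆ ⋃ P ∈ (Ideal.span {π T}).minimalPrimes, (P : Set D) := by
    intro a ha
    simp only [Set.mem_iUnion]
    by_cases ha0 : a = 0
    · obtain ⟨P, hP, -⟩ := Ideal.exists_minimalPrimes_le
        (show Ideal.span {π T} ≤ maximalIdeal D from (Ideal.span_singleton_le_iff_mem _).mpr hTm)
      exact ⟨P, hP, ha0 ▸ zero_mem _⟩
    · obtain ⟨P, hP, -⟩ := Ideal.exists_minimalPrimes_le
        (show Ideal.span {a} ≤ maximalIdeal D from (Ideal.span_singleton_le_iff_mem _).mpr ha)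
      have := hP.1.1
      have haP : a ∈ P := hP.1.2 (Ideal.mem_span_singleton_self a)
      have hP0 : P ≠ ⊥ := fun e => ha0 (by rw [e] at haP; exact haP)
      refine ⟨P, ⟨⟨inferInstance, (Ideal.span_singleton_le_iff_mem _).mpr (hall P inferInstance hP0)⟩, ?_⟩, haP⟩
      intro P' hP' hle
      by_contra hne
      have hlt : P' < P := lt_of_le_not_ge hle hne
      have := hP'.1
      have hh : P.height ≤ 1 := Ideal.height_le_one_of_isPrincipal_of_mem_minimalPrimes _ _ hP
      have h1 : P'.height < 1 := lt_of_lt_of_le (Ideal.height_strict_mono_of_isPrime hlt) hh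
      have h2 : P'.height = 0 := Order.lt_one_iff.mp h1
      rw [Ideal.height_eq_zero_iff_eq_bot] at h2
      have hTP : π T ∈ P' := hP'.2 (Ideal.mem_span_singleton_self _)
      rw [h2, Ideal.mem_bot, Ideal.Quotient.eq_zero_iff_mem] at hTP
      exact hQ.2 hTP
  obtain ⟨P, hP, hle⟩ := (Ideal.subset_union_prime_finite
    (Ideal.finite_minimalPrimes_of_isNoetherianRing D _) (f := id) ⊥ ⊥ (fun P hP _ _ => hP.1.1)).mp hsub
  have hPm : P = maximalIdeal D := le_antisymm (le_maximalIdeal hP.1.1.ne_top) hle
  refine ⟨Q, inferInstance, hQ.2, fun s hs => ?_⟩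
  rw [← Ideal.sInf_minimalPrimes, Submodule.mem_sInf]
  intro P' hP'
  have := hP'.1.1
  have hker : RingHom.ker π ≤ P' := by rw [Ideal.mk_ker]; exact le_sup_left.trans hP'.1.2
  have hP'' : (Ideal.map π P').IsPrime := Ideal.map_isPrime_of_surjective Ideal.Quotient.mk_surjective hker
  have hPle : maximalIdeal D ≤ Ideal.map π P' := hPm ▸ hP.2 ⟨hP'', (Ideal.span_singleton_le_iff_mem _).mpr
    (Ideal.mem_map_of_mem _ (hP'.1.2 (Submodule.mem_sup_right (Ideal.mem_span_singleton_self T))))⟩
    (hPm ▸ le_maximalIdeal hP''.ne_top)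
  have hsπ : π s ∈ maximalIdeal D := (IsLocalRing.mem_maximalIdeal _).mpr fun hu =>
    hs ((Function.Surjective.isLocalHom π Ideal.Quotient.mk_surjective).map_nonunit _ hu)
  have h3 := hPle hsπ
  rw [← Ideal.mem_comap, Ideal.comap_map_of_surjective _ Ideal.Quotient.mk_surjective,
    ← RingHom.ker_eq_comap_bot, sup_eq_left.mpr hker] at h3
  exact h3


/-- A lattice in a finite extension of the fraction field is finite modulo a uniformizer. -/
theorem finite_quotient_of_finite_fractionRing {A V K L : Type u} [CommRing A] [IsDomain A]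
    [IsDiscreteValuationRing A] [CommRing V] [Algebra A V] [Field K] [Algebra A K] [IsFractionRing A K]
    [Field L] [Algebra K L] [Algebra V L] [Algebra A L] [IsScalarTower A K L] [IsScalarTower A V L]
    [Module.Finite K L] (hinj : Function.Injective (algebraMap V L)) :
    Module.Finite A (V ⧸ (maximalIdeal A • ⊤ : Submodule A V)) := by
  classical
  obtain ⟨ϖ, hϖ⟩ := IsDiscreteValuationRing.exists_irreducible A
  let V₀ := V ⧸ (maximalIdeal A • ⊤ : Submodule A V)
  have key : ∀ s : Finset V₀, LinearIndependent (A ⧸ maximalIdeal A) (fun x : s => (x : V₀)) →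
      s.card ≤ Module.finrank K L := by
    intro s hs
    choose v hv using fun x : s => Submodule.Quotient.mk_surjective _ (x : V₀)
    have hsur : LinearIndependent A fun x : s => algebraMap V L (v x) := by
      rw [Fintype.linearIndependent_iff]
      intro c hc
      have hc' : ∑ x, c x • v x = 0 := hinj (by
        rw [map_sum, map_zero, ← hc]
        refine Finset.sum_congr rfl fun x _ => ?_
        rw [Algebra.smul_def, Algebra.smul_def, map_mul, ← IsScalarTower.algebraMap_apply])
      have hdvd : ∀ n : ℕ, ∀ c : s → A, ∑ x, c x • v x = 0 → ∀ x, ϖ ^ n ∣ c x := by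
        intro n
        induction n with
        | zero => intro c _ x; simp
        | succ n ih =>
          intro c hc x
          have h1 : ∀ x, c x ∈ maximalIdeal A := by
            intro x
            have h2 := congrArg (Submodule.mkQ (maximalIdeal A • ⊤ : Submodule A V)) hc
            rw [map_sum, map_zero] at h2
            have h3 : ∑ x, (Ideal.Quotient.mk (maximalIdeal A) (c x)) • (x : V₀) = 0 := by
              rw [← h2]
              refine Finset.sum_congr rfl fun x _ => ?_
              rw [map_smul, ← hv x]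
              rfl
            exact Ideal.Quotient.eq_zero_iff_mem.mp (Fintype.linearIndependent_iff.mp hs _ h3 x)
          have h4 : ∀ x, ϖ ∣ c x := fun x => by
            rw [← Ideal.mem_span_singleton, ← hϖ.maximalIdeal_eq]; exact h1 x
          choose d hd using h4
          have h5 : ∑ x, d x • v x = 0 := by
            have h6 : algebraMap V L (∑ x, c x • v x) = algebraMap A L ϖ * algebraMap V L (∑ x, d x • v x) := by
              rw [map_sum, map_sum, Finset.mul_sum]
              refine Finset.sum_congr rfl fun x _ => ?_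
              rw [hd x, Algebra.smul_def, Algebra.smul_def]
              simp only [map_mul, ← IsScalarTower.algebraMap_apply A V L, mul_assoc]
            rw [hc, map_zero, zero_eq_mul] at h6
            refine hinj ((h6.resolve_left ?_).trans (map_zero _).symm)
            rw [IsScalarTower.algebraMap_apply A K L, ← map_zero (algebraMap K L)]
            exact fun h => hϖ.ne_zero (IsFractionRing.injective A K
              ((algebraMap K L).injective h |>.trans (map_zero _).symm))
          rw [hd x, pow_succ']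
          exact mul_dvd_mul_left ϖ (ih d h5 x)
      intro x
      by_contra hx
      obtain ⟨n, u, hu⟩ := IsDiscreteValuationRing.eq_unit_mul_pow_irreducible hx hϖ
      have h7 := hdvd (n + 1) c hc' x
      rw [hu, pow_succ, Units.dvd_mul_left] at h7
      exact hϖ.not_isUnit (isUnit_of_dvd_one ((mul_dvd_mul_iff_left (pow_ne_zero n hϖ.ne_zero)).mp
        (by rw [mul_one]; exact h7)))
    have h8 := ((LinearIndependent.iff_fractionRing (R := A) K).mp hsur).fintype_card_le_finrank
    simpa using h8
  let := Ideal.Quotient.field (maximalIdeal A)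
  have : Module.Finite (A ⧸ maximalIdeal A) V₀ := by
    refine Module.rank_lt_aleph0_iff.mp (lt_of_le_of_lt (rank_le key) ?_)
    exact Cardinal.natCast_lt_aleph0
  exact Module.Finite.trans (A ⧸ maximalIdeal A) V₀

/-- An algebra point over the closed point of a complete discrete valuation ring at which the
uniformizer is not nilpotent lifts to a finite discrete valuation ring. -/
theorem exists_finite_dvr_point {A C : Type u} [CommRing A] [IsDomain A] [IsDiscreteValuationRing A]
    [IsAdicComplete (maximalIdeal A) A] [CommRing C] [Algebra A C] [Algebra.FiniteType A C]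
    (ψ : C →ₐ[A] ResidueField A)
    (hnil : ∀ t ∈ maximalIdeal A, t ≠ 0 → ∀ c, ψ c ≠ 0 → ∀ n : ℕ, algebraMap A C t ^ n * c ≠ 0) :
    ∃ (V : Type u) (_ : CommRing V) (_ : IsDomain V) (_ : IsDiscreteValuationRing V) (_ : Algebra A V)
      (_ : IsLocalHom (algebraMap A V)) (θ : C →ₐ[A] V), Module.Finite A V ∧
      ∀ c, IsLocalRing.residue V (θ c) = IsLocalRing.ResidueField.map (algebraMap A V) (ψ c) := by
  classical
  have : IsNoetherianRing C := Algebra.FiniteType.isNoetherianRing A C
  obtain ⟨ϖ, hϖ⟩ := IsDiscreteValuationRing.exists_irreducible A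
  have hψs : Function.Surjective ψ := fun k => by
    obtain ⟨a, rfl⟩ := IsLocalRing.residue_surjective k
    exact ⟨algebraMap A C a, ψ.commutes a⟩
  let M : Ideal C := RingHom.ker ψ
  have : M.IsMaximal := RingHom.ker_isMaximal_of_surjective ψ hψs
  let S := Localization.AtPrime M
  have : IsNoetherianRing S := IsLocalization.isNoetherianRing M.primeCompl _ inferInstance
  let T := algebraMap A S ϖ
  have hT : ¬ IsNilpotent T := by
    rintro ⟨n, hn⟩
    have hn' : algebraMap C S (algebraMap A C ϖ ^ n) = 0 := by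
      rw [map_pow, ← IsScalarTower.algebraMap_apply]; exact hn
    obtain ⟨c, hc⟩ := (IsLocalization.map_eq_zero_iff M.primeCompl S _).mp hn'
    exact hnil ϖ (hϖ.maximalIdeal_eq ▸ Ideal.mem_span_singleton_self ϖ) hϖ.ne_zero c
      (fun h => c.2 (RingHom.mem_ker.mpr h)) n (by rw [mul_comm]; exact hc)
  obtain ⟨Q, hQ, hTQ, hrad⟩ := exists_prime_radical hT
  let D := S ⧸ Q
  have : IsLocalRing D := .of_surjective' _ Ideal.Quotient.mk_surjective
  have hTm : ϖ ∈ M.comap (algebraMap A C) := by
    rw [Ideal.mem_comap, RingHom.mem_ker, ψ.commutes]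
    exact (IsLocalRing.residue_eq_zero_iff _).mpr (hϖ.maximalIdeal_eq ▸ Ideal.mem_span_singleton_self ϖ)
  have hTD : algebraMap A D ϖ ∈ maximalIdeal D := by
    refine (IsLocalRing.mem_maximalIdeal _).mpr fun hu => ?_
    have h1 : T ∈ maximalIdeal S := by
      show algebraMap A S ϖ ∈ maximalIdeal S
      rw [IsScalarTower.algebraMap_apply A C S]
      exact (IsLocalization.AtPrime.to_map_mem_maximal_iff S M _).mpr hTm
    exact h1 ((Function.Surjective.isLocalHom (Ideal.Quotient.mk Q) Ideal.Quotient.mk_surjective).map_nonunit _ hu)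
  have hmapD : (maximalIdeal A).map (algebraMap A D) = Ideal.span {algebraMap A D ϖ} := by
    rw [hϖ.maximalIdeal_eq, Ideal.map_span, Set.image_singleton]
  -- the residue field of `D` is that of `A`
  have hres : ∀ d : D, ∃ a : A, d - algebraMap A D a ∈ maximalIdeal D := by
    intro d
    obtain ⟨s, rfl⟩ := Ideal.Quotient.mk_surjective d
    obtain ⟨c, u, rfl⟩ := IsLocalization.exists_mk'_eq M.primeCompl s
    obtain ⟨a, ha⟩ := IsLocalRing.residue_surjective (ψ c)
    obtain ⟨b, hb⟩ := IsLocalRing.residue_surjective (ψ (u : C))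
    have hbu : IsUnit b := IsLocalRing.notMem_maximalIdeal.mp fun h => u.2 (RingHom.mem_ker.mpr
      (hb.symm.trans ((IsLocalRing.residue_eq_zero_iff _).mpr h)))
    obtain ⟨b', rfl⟩ := hbu
    refine ⟨a * ↑b'⁻¹, ?_⟩
    have h1 : (c - algebraMap A C (a * ↑b'⁻¹) * (u : C)) ∈ M := by
      rw [RingHom.mem_ker, map_sub, map_mul, ψ.commutes, ← ha, ← hb, sub_eq_zero]
      show IsLocalRing.residue A a = IsLocalRing.residue A (a * ↑b'⁻¹) * IsLocalRing.residue A ↑b'
      rw [← map_mul, mul_assoc, Units.inv_mul, mul_one]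
    have h2 : IsLocalization.mk' S c u - algebraMap A S (a * ↑b'⁻¹) ∈ maximalIdeal S := by
      have h3 : IsLocalization.mk' S c u - algebraMap A S (a * ↑b'⁻¹) =
          IsLocalization.mk' S (c - algebraMap A C (a * ↑b'⁻¹) * (u : C)) u := by
        rw [IsLocalization.eq_mk'_iff_mul_eq, sub_mul, IsLocalization.mk'_spec]
        simp only [map_sub, map_mul, ← IsScalarTower.algebraMap_apply A C S]
      rw [h3]
      exact (IsLocalization.AtPrime.mk'_mem_maximal_iff S M _ u).mpr h1
    exact (IsLocalRing.mem_maximalIdeal _).mpr fun hu => h2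
      ((Function.Surjective.isLocalHom (Ideal.Quotient.mk Q) Ideal.Quotient.mk_surjective).map_nonunit _ hu)
  have : Module.Finite A (D ⧸ maximalIdeal D) := by
    refine Module.Finite.of_surjective (Algebra.linearMap A (D ⧸ maximalIdeal D)) fun x => ?_
    obtain ⟨d, rfl⟩ := Ideal.Quotient.mk_surjective x
    obtain ⟨a, ha⟩ := hres d
    exact ⟨a, (Ideal.Quotient.eq.mpr ha).symm⟩
  have hradD : maximalIdeal D ≤ (Ideal.span {algebraMap A D ϖ}).radical := fun d hd => by
    obtain ⟨s, rfl⟩ := Ideal.Quotient.mk_surjective d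
    have hs : s ∈ maximalIdeal S := (IsLocalRing.mem_maximalIdeal _).mpr fun hu => hd (hu.map _)
    obtain ⟨n, hn⟩ := hrad hs
    refine ⟨n, ?_⟩
    obtain ⟨q, hq, e, he, hqe⟩ := Submodule.mem_sup.mp hn
    obtain ⟨w, rfl⟩ := Ideal.mem_span_singleton'.mp he
    rw [← map_pow, ← hqe, map_add, Ideal.Quotient.eq_zero_iff_mem.mpr hq, zero_add, map_mul]
    exact Ideal.mul_mem_left _ _ (Ideal.mem_span_singleton_self _)
  have : IsHausdorff (maximalIdeal A) D := ⟨fun d hd => by
    have h1 : d ∈ ⨅ n : ℕ, maximalIdeal D ^ n := by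
      rw [Submodule.mem_iInf]
      intro n
      have h2 := SModEq.zero.mp (hd n)
      rw [Ideal.smul_top_eq_map, Submodule.restrictScalars_mem, Ideal.map_pow, hmapD] at h2
      exact Ideal.pow_right_mono ((Ideal.span_singleton_le_iff_mem _).mpr hTD) n h2
    rwa [Ideal.iInf_pow_eq_bot_of_isLocalRing _ (maximalIdeal.isMaximal D).ne_top] at h1⟩
  obtain ⟨k, hk⟩ := Ideal.exists_pow_le_of_le_radical_of_fg hradD (IsNoetherian.noetherian _)
  have := AdicRingLib.RigClosed.finite_quotient_pow (A := A) (maximalIdeal D) k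
  have hfD : Module.Finite A (D ⧸ (maximalIdeal A • ⊤ : Submodule A D)) := by
    have h1 : Module.Finite A (D ⧸ (maximalIdeal A).map (algebraMap A D)) :=
      Module.Finite.of_surjective (Ideal.Quotient.factorₐ A (hk.trans hmapD.ge)).toLinearMap
        (Ideal.Quotient.factor_surjective (hk.trans hmapD.ge))
    exact Module.Finite.equiv ((Submodule.quotEquivOfEq _ _ (Ideal.smul_top_eq_map (maximalIdeal A))).trans
      (Submodule.Quotient.restrictScalarsEquiv A ((maximalIdeal A).map (algebraMap A D)))).symm
  have : Module.Finite A D := CompleteLib.finite_of_quotient_finite hfD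
  -- the dominating discrete valuation ring
  let L := FractionRing D
  have hinjD : Function.Injective (algebraMap A D) := by
    rw [injective_iff_map_eq_zero]
    intro a ha
    by_contra ha0
    obtain ⟨n, v, rfl⟩ := IsDiscreteValuationRing.eq_unit_mul_pow_irreducible ha0 hϖ
    rw [map_mul, map_pow] at ha
    have h1 : algebraMap A D ϖ ^ n = 0 := (v.isUnit.map _).mul_right_eq_zero.mp ha
    exact hTQ (Ideal.Quotient.eq_zero_iff_mem.mp (pow_eq_zero_iff'.mp h1).1)
  let K := FractionRing A
  have hAL : Function.Injective (algebraMap A L) := by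
    rw [IsScalarTower.algebraMap_eq A D L]
    exact (IsFractionRing.injective D L).comp hinjD
  have huK : ∀ y : nonZeroDivisors A, IsUnit (algebraMap A L y) := fun y =>
    isUnit_iff_ne_zero.mpr fun h => nonZeroDivisors.coe_ne_zero y (hAL (h.trans (map_zero _).symm))
  letI : Algebra K L := (IsLocalization.lift huK).toAlgebra
  have : IsScalarTower A K L := IsScalarTower.of_algebraMap_eq fun r => (IsLocalization.lift_eq huK r).symm
  have : Module.Finite K L := by
    obtain ⟨G, hG⟩ := (Module.Finite.fg_top (R := A) (M := D))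
    let E : Subalgebra K L := Algebra.adjoin K ((G.image (algebraMap D L) : Finset L) : Set L)
    have hint : ∀ x ∈ ((G.image (algebraMap D L) : Finset L) : Set L), IsIntegral K x := by
      intro x hx
      obtain ⟨g, _, rfl⟩ := Finset.mem_image.mp hx
      exact ((IsIntegral.of_finite A g).map (IsScalarTower.toAlgHom A D L)).tower_top
    have hEfin : Module.Finite K E := Algebra.finite_adjoin_of_finite_of_isIntegral (Finset.finite_toSet _) hint
    have hdE : ∀ d : D, algebraMap D L d ∈ E := by
      intro d
      have hd : d ∈ Submodule.span A (G : Set D) := hG ▸ Submodule.mem_top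
      induction hd using Submodule.span_induction with
      | mem y hy => exact Algebra.subset_adjoin (Finset.mem_image_of_mem _ hy)
      | zero => rw [map_zero]; exact E.zero_mem
      | add a b _ _ ha hb => rw [map_add]; exact E.add_mem ha hb
      | smul r y _ hy =>
        rw [Algebra.smul_def, map_mul, ← IsScalarTower.algebraMap_apply, IsScalarTower.algebraMap_apply A K L]
        exact E.mul_mem (E.algebraMap_mem _) hy
    have hEfield : IsField E := (Algebra.IsIntegral.isField_iff_isField (algebraMap K E).injective).mp (Field.toIsField K)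
    have hE : E = ⊤ := by
      refine top_le_iff.mp fun x _ => ?_
      obtain ⟨a, b, hb, rfl⟩ := IsFractionRing.div_surjective D x
      have hb0 : algebraMap D L b ≠ 0 := IsFractionRing.to_map_ne_zero_of_mem_nonZeroDivisors hb
      obtain ⟨w, hw⟩ := hEfield.mul_inv_cancel (a := ⟨_, hdE b⟩) (fun h => hb0 (congrArg Subtype.val h))
      have hw' : algebraMap D L b * (w : L) = 1 := congrArg Subtype.val hw
      rw [div_eq_mul_inv, inv_eq_of_mul_eq_one_right hw']
      exact E.mul_mem (hdE a) w.2
    exact Module.Finite.equiv ((Subalgebra.equivOfEq E ⊤ hE).toLinearEquiv.trans Subalgebra.topEquiv.toLinearEquiv)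
  have hgen : Subfield.closure (Set.range (algebraMap D L) ∪ ((∅ : Finset L) : Set L)) = ⊤ := by
    refine top_le_iff.mp fun x _ => ?_
    obtain ⟨c, d, _, rfl⟩ := IsFractionRing.div_surjective D x
    exact div_mem (Subfield.subset_closure (Or.inl ⟨c, rfl⟩)) (Subfield.subset_closure (Or.inl ⟨d, rfl⟩))
  obtain ⟨V, hV, hmem, hlt⟩ := DvrDomLib.exists_dvr_dominating (L := L) (maximalIdeal D)
    (fun d hd => by
      rw [(injective_iff_map_eq_zero _).mp (IsFractionRing.injective D L) d hd]; exact zero_mem _)
    ⟨algebraMap A D ϖ, hTD, fun h => hϖ.ne_zero (hAL (by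
      rw [map_zero, IsScalarTower.algebraMap_apply A D L]; exact h))⟩ ∅ hgen
  letI : Algebra D V := ((algebraMap D L).codRestrict V.toSubring hmem).toAlgebra
  letI : Algebra A V := ((algebraMap D V).comp (algebraMap A D)).toAlgebra
  have : IsScalarTower A D V := IsScalarTower.of_algebraMap_eq fun _ => rfl
  have : IsScalarTower A V L := IsScalarTower.of_algebraMap_eq fun a => IsScalarTower.algebraMap_apply A D L a
  have hDV : ∀ d, d ∈ maximalIdeal D ↔ algebraMap D V d ∈ maximalIdeal V := fun d => by
    rw [← hlt]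
    exact (V.valuation_lt_one_iff (algebraMap D V d)).symm
  have hϖV : algebraMap A V ϖ ∈ maximalIdeal V := (hDV _).mp hTD
  have hlocV : IsLocalHom (algebraMap A V) := by
    refine ((IsLocalRing.local_hom_TFAE (algebraMap A V)).out 0 2 rfl rfl).mpr ?_
    rw [hϖ.maximalIdeal_eq, Ideal.map_span, Set.image_singleton, Ideal.span_singleton_le_iff_mem]
    exact hϖV
  have : IsHausdorff (maximalIdeal A) V := ⟨fun d hd => by
    have h1 : d ∈ ⨅ n : ℕ, maximalIdeal V ^ n := by
      rw [Submodule.mem_iInf]
      intro n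
      have h2 := SModEq.zero.mp (hd n)
      rw [Ideal.smul_top_eq_map, Submodule.restrictScalars_mem, Ideal.map_pow, hϖ.maximalIdeal_eq,
        Ideal.map_span, Set.image_singleton] at h2
      exact Ideal.pow_right_mono ((Ideal.span_singleton_le_iff_mem _).mpr hϖV) n h2
    rwa [Ideal.iInf_pow_eq_bot_of_isLocalRing _ (maximalIdeal.isMaximal V).ne_top] at h1⟩
  have hVfin : Module.Finite A V :=
    CompleteLib.finite_of_quotient_finite (finite_quotient_of_finite_fractionRing (K := K) (L := L) Subtype.val_injective)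
  let θ : C →ₐ[A] V := (IsScalarTower.toAlgHom A D V).comp
    ((Ideal.Quotient.mkₐ A Q).comp (IsScalarTower.toAlgHom A C S))
  refine ⟨V, inferInstance, inferInstance, hV, inferInstance, hlocV, θ, hVfin, fun c => ?_⟩
  obtain ⟨a, ha⟩ := IsLocalRing.residue_surjective (ψ c)
  rw [← ha, IsLocalRing.ResidueField.map_residue, ← sub_eq_zero, ← map_sub, IsLocalRing.residue_eq_zero_iff,
    ← θ.commutes, ← map_sub]
  show algebraMap D V (Ideal.Quotient.mk Q (algebraMap C S (c - algebraMap A C a))) ∈ maximalIdeal V
  refine (hDV _).mp ?_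
  have h1 : c - algebraMap A C a ∈ M := by
    rw [RingHom.mem_ker, map_sub, ψ.commutes, ← ha]; exact sub_self _
  refine (IsLocalRing.mem_maximalIdeal _).mpr fun hu =>
    (IsLocalization.AtPrime.to_map_mem_maximal_iff S M _).mpr h1
      ((Function.Surjective.isLocalHom (Ideal.Quotient.mk Q) Ideal.Quotient.mk_surjective).map_nonunit _ hu)

end UOpenLib
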