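import Mathlib

/-!
# Extending finite algebras on an affine open to finite schemes

On every affine open one takes the algebra generated by those combinations of the given
generators which are integral.
-/

set_option autoImplicit false

universe u

open CategoryTheory Limits AlgebraicGeometry

namespace UOpenLib

section Algebra

variable (R : Type*) {S : Type*} [CommRing R] [CommRing S] [Algebra R S] {ι : Type*} (c : ι → S)

/-- The integral combinations of `1` and the `c i`. -/
def intSpan : Submodule R S :=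
  Submodule.span R (insert 1 (Set.range c)) ⊓ Subalgebra.toSubmodule (integralClosure R S)

/-- The algebra generated by the integral combinations. -/
def intAdj : Subalgebra R S := Algebra.adjoin R (intSpan R c : Set S)

theorem finite_intAdj [IsNoetherianRing R] [Finite ι] : Module.Finite R (intAdj R c) := by
  obtain ⟨t, ht⟩ : (intSpan R c).FG :=
    (Submodule.fg_span ((Set.finite_range c).insert 1)).of_le inf_le_left
  have h : intAdj R c = Algebra.adjoin R (t : Set S) := by
    rw [intAdj, ← ht, Algebra.adjoin_span]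
  have hfg : (intAdj R c).toSubmodule.FG := h ▸ fg_adjoin_of_finite t.finite_toSet fun x hx ↦
    (ht ▸ Submodule.subset_span hx : x ∈ intSpan R c).2
  exact Module.Finite.iff_fg.mpr hfg

theorem intAdj_eq_top (hc : ∀ i, IsIntegral R (c i)) (hgen : Algebra.adjoin R (Set.range c) = ⊤) :
    intAdj R c = ⊤ := by
  rw [eq_top_iff, ← hgen]
  exact Algebra.adjoin_mono (Set.range_subset_iff.mpr fun i ↦
    ⟨Submodule.subset_span (Set.mem_insert_of_mem _ (Set.mem_range_self i)), hc i⟩)

variable (R' : Type*) [CommRing R'] [Algebra R R'] (S' : Type*) [CommRing S'] [Algebra S S'] [Algebra R S']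
  [Algebra R' S'] [IsScalarTower R R' S'] [IsScalarTower R S S']

theorem algebraMap_mem_intAdj {x : S} (hx : x ∈ intAdj R c) :
    algebraMap S S' x ∈ intAdj R' (algebraMap S S' ∘ c) := by
  induction hx using Algebra.adjoin_induction with
  | mem x hx =>
    refine Algebra.subset_adjoin ⟨?_, (hx.2.map (IsScalarTower.toAlgHom R S S')).tower_top⟩
    have h : Submodule.span R (insert 1 (Set.range c)) ≤ ((Submodule.span R'
        (insert 1 (Set.range (algebraMap S S' ∘ c)))).restrictScalars R).comap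
          (IsScalarTower.toAlgHom R S S').toLinearMap := by
      rw [Submodule.span_le]
      rintro y (rfl | ⟨i, rfl⟩)
      · exact Submodule.subset_span (Or.inl (map_one (algebraMap S S')))
      · exact Submodule.subset_span (Or.inr ⟨i, rfl⟩)
    exact h hx.1
  | algebraMap r =>
    rw [← IsScalarTower.algebraMap_apply R S S', IsScalarTower.algebraMap_apply R R' S']
    exact Subalgebra.algebraMap_mem _ _
  | add x y _ _ hx hy => rw [map_add]; exact add_mem hx hy
  | mul x y _ _ hx hy => rw [map_mul]; exact mul_mem hx hy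

variable {R}

theorem exists_mem_intSpan (r : R) [IsLocalization.Away r R']
    [IsLocalization.Away (algebraMap R S r) S'] {z : S'}
    (hz : z ∈ intSpan R' (algebraMap S S' ∘ c)) :
    ∃ n : ℕ, ∃ a ∈ intSpan R c, z * algebraMap R S' r ^ n = algebraMap S S' a := by
  have key : ∀ z ∈ Submodule.span R' (insert (1 : S') (Set.range (algebraMap S S' ∘ c))),
      ∃ n : ℕ, ∃ g ∈ Submodule.span R (insert (1 : S) (Set.range c)),
        z * algebraMap R S' r ^ n = algebraMap S S' g := by
    intro z hz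
    induction hz using Submodule.span_induction with
    | mem z hz =>
      rcases hz with rfl | ⟨i, rfl⟩
      · exact ⟨0, 1, Submodule.subset_span (Or.inl rfl), by simp⟩
      · exact ⟨0, c i, Submodule.subset_span (Or.inr ⟨i, rfl⟩), by simp⟩
    | zero => exact ⟨0, 0, zero_mem _, by simp⟩
    | add x y _ _ hx hy =>
      obtain ⟨m, a, ha, hxa⟩ := hx
      obtain ⟨n, b, hb, hyb⟩ := hy
      refine ⟨m + n, r ^ n • a + r ^ m • b,
        add_mem (Submodule.smul_mem _ _ ha) (Submodule.smul_mem _ _ hb), ?_⟩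
      rw [map_add, Algebra.smul_def, Algebra.smul_def, map_mul, map_mul,
        ← IsScalarTower.algebraMap_apply R S S', ← IsScalarTower.algebraMap_apply R S S', ← hxa,
        ← hyb, map_pow, map_pow]
      ring
    | smul t x _ hx =>
      obtain ⟨m, a, ha, hxa⟩ := hx
      obtain ⟨k, b, hb⟩ := IsLocalization.Away.surj r t
      refine ⟨k + m, b • a, Submodule.smul_mem _ _ ha, ?_⟩
      have hb' := congrArg (algebraMap R' S') hb
      rw [map_mul, map_pow, ← IsScalarTower.algebraMap_apply R R' S',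
        ← IsScalarTower.algebraMap_apply R R' S'] at hb'
      rw [Algebra.smul_def, Algebra.smul_def, map_mul, ← IsScalarTower.algebraMap_apply R S S',
        ← hxa, ← hb', pow_add]
      ring
  obtain ⟨n, g, hg, hzg⟩ := key z hz.1
  have hint : IsIntegral R' (algebraMap S S' g) := by
    rw [← hzg, IsScalarTower.algebraMap_apply R R' S']
    exact hz.2.mul (isIntegral_algebraMap.pow n)
  obtain ⟨⟨_, k, rfl⟩, hk⟩ :=
    IsIntegral.exists_multiple_integral_of_isLocalization (Submonoid.powers r) (algebraMap S S' g) hint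
  have : IsLocalization (Algebra.algebraMapSubmonoid S (Submonoid.powers r)) S' := by
    rw [Algebra.algebraMapSubmonoid_powers]
    infer_instance
  obtain ⟨_, ⟨l, rfl⟩, hl⟩ := IsLocalization.exists_isIntegral_smul_of_isIntegral_map
    (Sₘ := S') (Submonoid.powers r) (x := r ^ k • g) (by
      rw [Algebra.smul_def, map_mul, ← IsScalarTower.algebraMap_apply R S S', ← Algebra.smul_def]
      exact hk)
  refine ⟨l + k + n, r ^ l • r ^ k • g,
    ⟨Submodule.smul_mem _ _ (Submodule.smul_mem _ _ hg), hl⟩, ?_⟩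
  rw [Algebra.smul_def, Algebra.smul_def, map_mul, map_mul, ← IsScalarTower.algebraMap_apply R S S',
    ← IsScalarTower.algebraMap_apply R S S', ← hzg, map_pow, map_pow, pow_add, pow_add]
  ring

theorem exists_mem_intAdj (r : R) [IsLocalization.Away r R']
    [IsLocalization.Away (algebraMap R S r) S'] {z : S'}
    (hz : z ∈ intAdj R' (algebraMap S S' ∘ c)) :
    ∃ n : ℕ, ∃ a ∈ intAdj R c, z * algebraMap R S' r ^ n = algebraMap S S' a := by
  induction hz using Algebra.adjoin_induction with
  | mem z hz =>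
    obtain ⟨n, a, ha, h⟩ := exists_mem_intSpan c R' S' r hz
    exact ⟨n, a, Algebra.subset_adjoin ha, h⟩
  | algebraMap t =>
    obtain ⟨k, b, hb⟩ := IsLocalization.Away.surj r t
    refine ⟨k, algebraMap R S b, Subalgebra.algebraMap_mem _ _, ?_⟩
    rw [← IsScalarTower.algebraMap_apply R S S', IsScalarTower.algebraMap_apply R R' S',
      IsScalarTower.algebraMap_apply R R' S', ← map_pow, ← map_mul, hb]
  | add x y _ _ hx hy =>
    obtain ⟨m, a, ha, hxa⟩ := hx
    obtain ⟨n, b, hb, hyb⟩ := hy
    refine ⟨m + n, r ^ n • a + r ^ m • b, add_mem (Subalgebra.smul_mem _ ha _)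
      (Subalgebra.smul_mem _ hb _), ?_⟩
    rw [map_add, Algebra.smul_def, Algebra.smul_def, map_mul, map_mul,
      ← IsScalarTower.algebraMap_apply R S S', ← IsScalarTower.algebraMap_apply R S S', ← hxa,
      ← hyb, map_pow, map_pow]
    ring
  | mul x y _ _ hx hy =>
    obtain ⟨m, a, ha, hxa⟩ := hx
    obtain ⟨n, b, hb, hyb⟩ := hy
    refine ⟨m + n, a * b, mul_mem ha hb, ?_⟩
    rw [map_mul, ← hxa, ← hyb]
    ring

theorem isLocalization_intAdj (r : R) [IsLocalization.Away r R']
    [IsLocalization.Away (algebraMap R S r) S']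
    [Algebra (intAdj R c) (intAdj R' (algebraMap S S' ∘ c))]
    (hc : ∀ a : intAdj R c,
      ((algebraMap (intAdj R c) (intAdj R' (algebraMap S S' ∘ c)) a : S')) = algebraMap S S' a) :
    IsLocalization.Away (algebraMap R (intAdj R c) r) (intAdj R' (algebraMap S S' ∘ c)) := by
  have hr : algebraMap (intAdj R c) (intAdj R' (algebraMap S S' ∘ c)) (algebraMap R (intAdj R c) r) =
      algebraMap R' _ (algebraMap R R' r) := Subtype.ext (by
    rw [hc]
    exact (IsScalarTower.algebraMap_apply R S S' r).symm.trans (IsScalarTower.algebraMap_apply R R' S' r))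
  refine IsLocalization.Away.mk _ ?_ (fun z ↦ ?_) fun a b h ↦ ?_
  · rw [hr]
    exact (IsLocalization.Away.algebraMap_isUnit r).map _
  · obtain ⟨n, a, ha, h⟩ := exists_mem_intAdj c R' S' r z.2
    refine ⟨n, ⟨a, ha⟩, Subtype.ext ?_⟩
    rw [hc, hr]
    push_cast
    rw [← IsScalarTower.algebraMap_apply R R' S']
    exact h
  · have h' := congrArg (Subtype.val (p := fun w ↦ w ∈ intAdj R' (algebraMap S S' ∘ c))) h
    rw [hc, hc] at h'
    obtain ⟨n, hn⟩ := IsLocalization.Away.exists_of_eq (algebraMap R S r) h'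
    exact ⟨n, Subtype.ext hn⟩

end Algebra

section Scheme

open Scheme.AffineZariskiSite Opposite

variable {X Y : Scheme.{u}} (f : X ⟶ Y) {ι : Type u} (c : ι → Γ(X, ⊤))

/-- The generators over an open of the base. -/
noncomputable def resGens (U : Y.Opens) : ι → Γ(X, f ⁻¹ᵁ U) :=
  fun i ↦ X.presheaf.map (homOfLE le_top).op (c i)

/-- The finite algebra over an affine open. -/
noncomputable def extAlg (U : Y.Opens) : CommRingCat.{u} :=
  letI := (f.app U).hom.toAlgebra
  .of (intAdj Γ(Y, U) (resGens f c U))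

noncomputable def extInc (U : Y.Opens) : extAlg f c U ⟶ Γ(X, f ⁻¹ᵁ U) :=
  letI := (f.app U).hom.toAlgebra
  CommRingCat.ofHom (intAdj Γ(Y, U) (resGens f c U)).val.toRingHom

noncomputable def extStr (U : Y.Opens) : Γ(Y, U) ⟶ extAlg f c U :=
  letI := (f.app U).hom.toAlgebra
  CommRingCat.ofHom (algebraMap Γ(Y, U) (intAdj Γ(Y, U) (resGens f c U)))

theorem extInc_injective (U : Y.Opens) : Function.Injective (extInc f c U) := Subtype.val_injective

theorem extStr_inc (U : Y.Opens) : extStr f c U ≫ extInc f c U = f.app U := rfl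

theorem resGens_res {U W : Y.Opens} (h : W ≤ U) (i : ι) :
    X.presheaf.map (homOfLE (f.preimage_mono h)).op (resGens f c U i) = resGens f c W i := by
  rw [resGens, resGens, ← CommRingCat.comp_apply, ← Functor.map_comp]
  rfl

theorem app_res {U W : Y.Opens} (h : W ≤ U) (b : Γ(Y, U)) :
    f.app W (Y.presheaf.map (homOfLE h).op b) =
      X.presheaf.map (homOfLE (f.preimage_mono h)).op (f.app U b) :=
  ConcreteCategory.congr_hom (f.naturality (homOfLE h).op) b

set_option backward.isDefEq.respectTransparency false in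
theorem res_mem {U W : Y.Opens} (h : W ≤ U) (a : extAlg f c U) :
    letI := (f.app W).hom.toAlgebra
    X.presheaf.map (homOfLE (f.preimage_mono h)).op (extInc f c U a) ∈
      intAdj Γ(Y, W) (resGens f c W) := by
  let := (f.app W).hom.toAlgebra
  let := (f.app U).hom.toAlgebra
  let : Algebra Γ(Y, U) Γ(Y, W) := (Y.presheaf.map (homOfLE h).op).hom.toAlgebra
  let : Algebra Γ(X, f ⁻¹ᵁ U) Γ(X, f ⁻¹ᵁ W) :=
    (X.presheaf.map (homOfLE (f.preimage_mono h)).op).hom.toAlgebra
  let : Algebra Γ(Y, U) Γ(X, f ⁻¹ᵁ W) :=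
    ((f.app W).hom.comp (Y.presheaf.map (homOfLE h).op).hom).toAlgebra
  have : IsScalarTower Γ(Y, U) Γ(Y, W) Γ(X, f ⁻¹ᵁ W) := .of_algebraMap_eq' rfl
  have : IsScalarTower Γ(Y, U) Γ(X, f ⁻¹ᵁ U) Γ(X, f ⁻¹ᵁ W) := .of_algebraMap_eq (app_res f h)
  have e : algebraMap Γ(X, f ⁻¹ᵁ U) Γ(X, f ⁻¹ᵁ W) ∘ resGens f c U = resGens f c W :=
    funext (resGens_res f c h)
  exact e ▸ algebraMap_mem_intAdj Γ(Y, U) (resGens f c U) Γ(Y, W) Γ(X, f ⁻¹ᵁ W) a.2

/-- Restriction. -/
noncomputable def extRes {U W : Y.Opens} (h : W ≤ U) : extAlg f c U ⟶ extAlg f c W :=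
  letI := (f.app W).hom.toAlgebra
  CommRingCat.ofHom (((extInc f c U) ≫ X.presheaf.map (homOfLE (f.preimage_mono h)).op).hom.codRestrict
    (intAdj Γ(Y, W) (resGens f c W)) (res_mem f c h))

theorem extRes_inc {U W : Y.Opens} (h : W ≤ U) :
    extRes f c h ≫ extInc f c W = extInc f c U ≫ X.presheaf.map (homOfLE (f.preimage_mono h)).op := rfl

/-- The diagram of finite algebras. -/
noncomputable def extDiagram : Y.AffineZariskiSiteᵒᵖ ⥤ CommRingCat.{u} where
  obj U := extAlg f c U.unop.1
  map {U W} g := extRes f c (Scheme.AffineZariskiSite.toOpens_mono g.unop.le)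
  map_id U := by
    have : Mono (extInc f c U.unop.1) := ConcreteCategory.mono_of_injective _ (extInc_injective ..)
    rw [← cancel_mono (extInc f c U.unop.1), extRes_inc]
    simp
  map_comp {U V W} g g' := by
    have : Mono (extInc f c W.unop.1) := ConcreteCategory.mono_of_injective _ (extInc_injective ..)
    rw [← cancel_mono (extInc f c W.unop.1), Category.assoc, extRes_inc, extRes_inc, ← Category.assoc,
      extRes_inc, Category.assoc, ← Functor.map_comp]
    rfl

/-- The structure map. -/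
noncomputable def extDiagramMap :
    (toOpensFunctor Y).op ⋙ Y.presheaf ⟶ extDiagram f c where
  app U := extStr f c U.unop.1
  naturality {U W} g := by
    have : Mono (extInc f c W.unop.1) := ConcreteCategory.mono_of_injective _ (extInc_injective ..)
    refine (cancel_mono (extInc f c W.unop.1)).mp ?_
    have h : W.unop.1 ≤ U.unop.1 := toOpens_mono g.unop.le
    change (Y.presheaf.map (homOfLE h).op ≫ extStr f c W.unop.1) ≫ _ =
      (extStr f c U.unop.1 ≫ extRes f c h) ≫ _
    rw [Category.assoc, Category.assoc, extStr_inc, extRes_inc, ← Category.assoc (extStr f c U.unop.1),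
      extStr_inc]
    exact f.naturality _

variable [QuasiCompact f] [QuasiSeparated f]

set_option backward.isDefEq.respectTransparency false in
theorem coequifibered_extDiagramMap : (extDiagramMap f c).Coequifibered := by
  refine coequifibered_iff_forall_isLocalizationAway.mpr fun U r ↦ ?_
  let W := Y.basicOpen r
  let h : W ≤ U.1 := Y.basicOpen_le r
  let := (f.app U.1).hom.toAlgebra
  let := (f.app W).hom.toAlgebra
  let : Algebra Γ(Y, U.1) Γ(Y, W) := (Y.presheaf.map (homOfLE h).op).hom.toAlgebra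
  let inst : Algebra Γ(X, f ⁻¹ᵁ U.1) Γ(X, f ⁻¹ᵁ W) :=
    (X.presheaf.map (homOfLE (f.preimage_mono h)).op).hom.toAlgebra
  let : Algebra Γ(Y, U.1) Γ(X, f ⁻¹ᵁ W) :=
    ((f.app W).hom.comp (Y.presheaf.map (homOfLE h).op).hom).toAlgebra
  have : IsScalarTower Γ(Y, U.1) Γ(Y, W) Γ(X, f ⁻¹ᵁ W) := .of_algebraMap_eq' rfl
  have : IsScalarTower Γ(Y, U.1) Γ(X, f ⁻¹ᵁ U.1) Γ(X, f ⁻¹ᵁ W) := .of_algebraMap_eq (app_res f h)
  have : IsLocalization.Away r Γ(Y, W) := U.2.isLocalization_basicOpen r
  have : IsLocalization.Away (algebraMap Γ(Y, U.1) Γ(X, f ⁻¹ᵁ U.1) r) Γ(X, f ⁻¹ᵁ W) := by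
    let : Algebra Γ(X, f ⁻¹ᵁ U.1) Γ(X, X.basicOpen (f.app _ r)) :=
      (X.presheaf.map (homOfLE (X.basicOpen_le _)).op).hom.toAlgebra
    dsimp +instances [inst, W]
    rw! (castMode := .all) [f.preimage_basicOpen r]
    exact isLocalization_basicOpen_of_qcqs (f.isCompact_preimage U.2.isCompact)
        (f.isQuasiSeparated_preimage U.2.isQuasiSeparated) (f.app _ r)
  have e : algebraMap Γ(X, f ⁻¹ᵁ U.1) Γ(X, f ⁻¹ᵁ W) ∘ resGens f c U.1 = resGens f c W :=
    funext (resGens_res f c h)
  have key : ∀ (c' : ι → Γ(X, f ⁻¹ᵁ W)), algebraMap Γ(X, f ⁻¹ᵁ U.1) Γ(X, f ⁻¹ᵁ W) ∘ resGens f c U.1 = c' →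
      ∀ (ρ : intAdj Γ(Y, U.1) (resGens f c U.1) →+* intAdj Γ(Y, W) c'),
      (∀ a, (ρ a : Γ(X, f ⁻¹ᵁ W)) = algebraMap Γ(X, f ⁻¹ᵁ U.1) Γ(X, f ⁻¹ᵁ W) a) →
      letI := ρ.toAlgebra
      IsLocalization.Away (algebraMap Γ(Y, U.1) (intAdj Γ(Y, U.1) (resGens f c U.1)) r)
        (intAdj Γ(Y, W) c') := by
    rintro _ rfl ρ hρ
    let := ρ.toAlgebra
    exact isLocalization_intAdj (resGens f c U.1) Γ(Y, W) Γ(X, f ⁻¹ᵁ W) r hρ
  exact key _ e (extRes f c h).hom fun a ↦ rfl

end Scheme

/-- A finite algebra over an affine open extends to a finite scheme over the whole base. -/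
theorem exists_isFinite_extension {Y : Scheme.{u}} [IsLocallyNoetherian Y] [QuasiSeparatedSpace Y]
    {V : Y.Opens} (hV : IsAffineOpen V) (L : Type u) [CommRing L] [Algebra Γ(Y, V) L]
    [Module.Finite Γ(Y, V) L] :
    ∃ (Y' : Scheme.{u}) (g : Y' ⟶ Y) (_ : IsFinite g)
      (i : Spec (CommRingCat.of L) ⟶ Y'), IsOpenImmersion i ∧
        i ≫ g = Spec.map (CommRingCat.ofHom (algebraMap Γ(Y, V) L)) ≫ hV.fromSpec := by
  obtain ⟨t, ht⟩ := (Module.Finite.fg_top : (⊤ : Submodule Γ(Y, V) L).FG)
  let X := Spec (CommRingCat.of L)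
  let α := CommRingCat.ofHom (algebraMap Γ(Y, V) L)
  let f : X ⟶ Y := Spec.map α ≫ hV.fromSpec
  let c : ↥(t : Set L) → Γ(X, ⊤) := fun a ↦ (Scheme.ΓSpecIso (CommRingCat.of L)).inv a.1
  have : QuasiCompact f := inferInstance
  have : QuasiSeparated f := inferInstance
  have hco := coequifibered_extDiagramMap f c
  let d := Scheme.AffineZariskiSite.relativeGluingData hco
  have hld : (d.functor ⋙ Scheme.forget).IsLocallyDirected :=
    Scheme.Cover.RelativeGluingData.instIsLocallyDirectedI₀CompFunctorForgetOfIsThin ..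
  let g := d.toBase
  have hι : ∀ U : Y.AffineZariskiSite, colimit.ι d.functor U ≫ g =
      Spec.map (extStr f c U.1) ≫ U.2.fromSpec := fun U ↦ colimit.ι_desc _ _
  have hfin : IsFinite g := by
    rw [IsZariskiLocalAtTarget.iff_of_iSup_eq_top (P := @IsFinite) _ (iSup_affineOpens_eq_top _)]
    intro U
    have hpre : g ⁻¹ᵁ U.1 = (colimit.ι d.functor U).opensRange := by
      simpa using! d.toBase_preimage_eq_opensRange_ι U
    let e := IsOpenImmersion.isoOfRangeEq (g ⁻¹ᵁ U).ι (colimit.ι d.functor U)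
      (by simpa using congr($(hpre).1))
    rw [← MorphismProperty.cancel_left_of_respectsIso @IsFinite e.inv,
      ← MorphismProperty.cancel_right_of_respectsIso @IsFinite _ U.2.isoSpec.hom]
    have : (extStr f c U.1).hom.Finite := by
      let := (f.app U.1).hom.toAlgebra
      have : IsNoetherianRing Γ(Y, U.1) := IsLocallyNoetherian.component_noetherian U
      exact RingHom.finite_algebraMap.mpr (finite_intAdj Γ(Y, U.1) (resGens f c U.1))
    have h1 : IsFinite (Spec.map (extStr f c U.1)) := (IsFinite.SpecMap_iff _).mpr this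
    convert! h1
    rw [← cancel_mono U.2.fromSpec]
    simp [IsAffineOpen.isoSpec_hom, e, hι]
    rfl
  let U₀ : Y.AffineZariskiSite := ⟨V, hV⟩
  have hfV : f ⁻¹ᵁ V = ⊤ := by
    rw [Scheme.Hom.comp_preimage, hV.fromSpec_preimage_self]
    rfl
  let := (f.app V).hom.toAlgebra
  let r : CommRingCat.of L ⟶ Γ(X, f ⁻¹ᵁ V) :=
    (Scheme.ΓSpecIso _).inv ≫ X.presheaf.map (homOfLE le_top).op
  have hr : α ≫ r = f.app V := by
    rw [Scheme.Hom.comp_app, hV.fromSpec_app_self]
    simp only [r, Category.assoc]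
    rw [Scheme.ΓSpecIso_inv_naturality_assoc]
    congr 1
  have hrs : Function.Bijective r := by
    have : IsIso r := by
      have : IsIso (X.presheaf.map (homOfLE (le_top : f ⁻¹ᵁ V ≤ ⊤)).op) := by
        have h1 : (homOfLE (le_top : f ⁻¹ᵁ V ≤ ⊤)) = eqToHom hfV := Subsingleton.elim _ _
        rw [h1]
        infer_instance
      infer_instance
    exact ConcreteCategory.bijective_of_isIso r
  have htop : intAdj Γ(Y, V) (resGens f c V) = ⊤ := by
    let re : L →ₐ[Γ(Y, V)] Γ(X, f ⁻¹ᵁ V) :=
      { r.hom with commutes' := fun b ↦ ConcreteCategory.congr_hom hr b }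
    have hres : resGens f c V = fun a ↦ re a.1 := rfl
    refine intAdj_eq_top _ _ (fun a ↦ ?_) ?_
    · rw [hres]
      exact (Algebra.IsIntegral.isIntegral a.1).map re
    · rw [hres]
      have hgen : Algebra.adjoin Γ(Y, V) (t : Set L) = ⊤ :=
        Algebra.toSubmodule_eq_top.mp (top_le_iff.mp (ht ▸ Algebra.span_le_adjoin _ _))
      have hrange : Set.range (fun a : ↥(t : Set L) ↦ re a.1) = re '' (t : Set L) := by
        rw [Set.image_eq_range]
      rw [hrange, Algebra.adjoin_image, hgen, Algebra.map_top,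
        AlgHom.range_eq_top]
      exact hrs.2
  have hiso : IsIso (extInc f c V) := by
    refine (ConcreteCategory.isIso_iff_bijective _).mpr ⟨extInc_injective f c V, fun z ↦ ?_⟩
    exact ⟨⟨z, htop ▸ Algebra.mem_top⟩, rfl⟩
  have : IsIso r := (ConcreteCategory.isIso_iff_bijective r).mpr hrs
  let j : extAlg f c V ⟶ CommRingCat.of L := extInc f c V ≫ inv r
  let i : X ⟶ d.glued := Spec.map j ≫ colimit.ι d.functor U₀
  have : IsOpenImmersion (colimit.ι d.functor U₀) := d.cover.map_prop U₀
  have : IsIso j := inferInstance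
  have hoi : IsOpenImmersion i :=
    @IsOpenImmersion.comp _ _ _ (Spec.map j) (colimit.ι d.functor U₀) inferInstance (d.cover.map_prop U₀)
  refine ⟨d.glued, g, hfin, i, hoi, ?_⟩
  have hj : extStr f c V ≫ j = α := by
    rw [← Category.assoc, extStr_inc, IsIso.comp_inv_eq, hr]
  refine ((Category.assoc _ _ _).trans (congrArg (Spec.map j ≫ ·) (hι U₀))).trans ?_
  refine (Category.assoc _ _ _).symm.trans ?_
  rw [← Spec.map_comp]
  exact congrArg (fun m ↦ Spec.map m ≫ hV.fromSpec) hj

end UOpenLib
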