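import Mathlib
import Groth.Agent.UOpenLib.Generization
import Groth.Agent.UOpenLib.AffineSpace
import Groth.Agent.UOpenLib.FiniteExtend
import Groth.Agent.DvrDom.Descent
import Groth.Agent.S3404

/-!
# Universal openness at maximal points of fibres is tested on finite base changes
-/

set_option autoImplicit false

universe u

open CategoryTheory Limits AlgebraicGeometry TopologicalSpace Topology MvPolynomial DvrDomLib

namespace UOpenLib

/-- Over a noetherian domain: lifting of generizations gives a generization over the generic point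
of affine space. -/
theorem exists_generization_affine {N : Type u} [CommRing N] [IsDomain N] [IsNoetherianRing N] {d : ℕ}
    {P : Scheme.{u}} [IsAffine P] (u : P ⟶ Spec (CommRingCat.of (MvPolynomial (Fin d) N)))
    [LocallyOfFiniteType u] [LocallyQuasiFinite u] (q : P)
    (hq : (u.base q : PrimeSpectrum (MvPolynomial (Fin d) N)).asIdeal =
      ((u ≫ polyProj N d).base q : PrimeSpectrum N).asIdeal.map C)
    (hlift : ∀ y₁, y₁ ⤳ (u ≫ polyProj N d).base q → ∃ z, z ⤳ q ∧ (u ≫ polyProj N d).base z = y₁) :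
    ∃ z, z ⤳ q ∧ (u.base z : PrimeSpectrum (MvPolynomial (Fin d) N)).asIdeal = ⊥ := by
  let e := P.isoSpec
  obtain ⟨φ, hφ⟩ := Spec.map_surjective (e.inv ≫ u)
  have : LocallyOfFiniteType (Spec.map φ) := hφ ▸ inferInstance
  have : LocallyQuasiFinite (Spec.map φ) := hφ ▸ inferInstance
  have hft : φ.hom.FiniteType := HasRingHomProperty.Spec_iff.mp ‹LocallyOfFiniteType (Spec.map φ)›
  have hqf : φ.hom.QuasiFinite := HasRingHomProperty.Spec_iff.mp ‹LocallyQuasiFinite (Spec.map φ)›
  have he : ∀ z : P, e.inv.base (e.hom.base z) = z := fun z ↦ by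
    rw [← Scheme.Hom.comp_apply, Iso.hom_inv_id]
    rfl
  have hu : ∀ t : ↥(Spec Γ(P, ⊤)),
      PrimeSpectrum.comap φ.hom t = u.base (e.inv.base t) := fun t ↦ by
    rw [← Scheme.Hom.comp_apply, ← hφ]
    rfl
  have hgen : ∀ t : ↥(Spec Γ(P, ⊤)), PrimeSpectrum.comap (φ.hom.comp C) t =
      (u ≫ polyProj N d).base (e.inv.base t) := fun t ↦ by
    rw [Scheme.Hom.comp_apply, ← hu]
    rfl
  let qS : PrimeSpectrum Γ(P, ⊤) := e.hom.base q
  have h1 : qS.asIdeal.comap φ.hom = (qS.asIdeal.comap (φ.hom.comp C)).map C := by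
    have a := hu qS
    have b := hgen qS
    rw [he] at a b
    rw [show qS.asIdeal.comap φ.hom = _ from congrArg PrimeSpectrum.asIdeal a, hq,
      show qS.asIdeal.comap (φ.hom.comp C) = _ from congrArg PrimeSpectrum.asIdeal b]
  obtain ⟨z, hz, hzc⟩ := exists_le_comap_eq_map_C φ.hom hft hqf qS h1 ⟨⊥, Ideal.isPrime_bot⟩ bot_le
    (fun p' hp' _ ↦ by
      have b := hgen qS
      rw [he] at b
      obtain ⟨z, hz, hzp⟩ := hlift p' (by rw [← b]; exact (PrimeSpectrum.le_iff_specializes _ _).mp hp')
      refine ⟨e.hom.base z, (PrimeSpectrum.le_iff_specializes (e.hom.base z : PrimeSpectrum Γ(P, ⊤)) qS).mpr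
        (hz.map e.hom.continuous), ?_⟩
      rw [hgen, he, hzp])
  refine ⟨e.inv.base z, ?_, ?_⟩
  · have := ((PrimeSpectrum.le_iff_specializes z qS).mp hz).map e.inv.continuous
    rwa [he] at this
  · rw [← hu z]
    show z.asIdeal.comap φ.hom = ⊥
    rw [hzc, Ideal.map_bot]

variable {R : CommRingCat.{u}} {B : CommRingCat.{u}} {d : ℕ}
  (uR : Spec B ⟶ Spec (CommRingCat.of (MvPolynomial (Fin d) R)))

/-- The projection to the base. -/
noncomputable abbrev polyBase : Spec B ⟶ Spec R := uR ≫ polyProj R d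

variable (C' : Type u) [CommRing C'] [Algebra R C'] {D : Type u} [CommRing D] [Algebra R D]

/-- The base change maps to affine space. -/
noncomputable def liftPoly :
    Descent.bc (polyBase uR) C' ⟶ Spec (CommRingCat.of (MvPolynomial (Fin d) C')) :=
  (isPullback_polyProj (algebraMap R C') d).lift (pullback.fst _ _ ≫ uR) (pullback.snd _ _)
    (by rw [Category.assoc]; exact pullback.condition)

theorem liftPoly_proj : liftPoly uR C' ≫ polyProj C' d = pullback.snd _ _ :=
  (isPullback_polyProj (algebraMap R C') d).lift_snd _ _ _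

theorem isPullback_liftPoly :
    IsPullback (pullback.fst (polyBase uR) (Spec.map (CommRingCat.ofHom (algebraMap R C'))))
      (liftPoly uR C') uR
      (Spec.map (CommRingCat.ofHom (MvPolynomial.map (σ := Fin d) (algebraMap R C')))) :=
  IsPullback.of_bot ((liftPoly_proj uR C').symm ▸ IsPullback.of_hasPullback _ _)
    ((isPullback_polyProj (algebraMap R C') d).lift_fst _ _ _).symm
    (isPullback_polyProj (algebraMap R C') d)

variable {C'}

theorem isPullback_liftPoly_trans (φ : D →ₐ[R] C') :
    IsPullback (Descent.trans (polyBase uR) φ) (liftPoly uR C') (liftPoly uR D)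
      (Spec.map (CommRingCat.ofHom (MvPolynomial.map (σ := Fin d) φ.toRingHom))) := by
  refine IsPullback.of_bot ?_ ?_ (isPullback_polyProj φ.toRingHom d)
  · rw [liftPoly_proj, liftPoly_proj]
    exact Descent.isPullback_trans _ φ
  · refine (isPullback_polyProj (algebraMap R D) d).hom_ext ?_ ?_
    · rw [Category.assoc, Category.assoc, ← (isPullback_liftPoly uR D).w, Descent.trans_fst_assoc,
        ← Spec.map_comp, ← CommRingCat.ofHom_comp,
        show (MvPolynomial.map φ.toRingHom).comp (MvPolynomial.map (σ := Fin d) (algebraMap R D)) =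
            MvPolynomial.map (algebraMap R C') from
          RingHom.ext fun p ↦ (MvPolynomial.map_map _ _ p).trans (congrArg (fun θ ↦ MvPolynomial.map θ p) φ.comp_algebraMap),
        ← (isPullback_liftPoly uR C').w]
    · rw [Category.assoc, Category.assoc, liftPoly_proj, (isPullback_polyProj φ.toRingHom d).w.symm.symm,
        ← Category.assoc (liftPoly uR C'), liftPoly_proj, Descent.trans_snd]

variable [LocallyOfFiniteType uR] [LocallyQuasiFinite uR]

omit [LocallyOfFiniteType uR] [LocallyQuasiFinite uR] in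
theorem liftPoly_eq_map_C (hint : Algebra.IsIntegral R D) {x : ↥(Spec B)}
    (hx : (uR.base x : PrimeSpectrum (MvPolynomial (Fin d) R)).asIdeal =
      ((polyBase uR).base x : PrimeSpectrum R).asIdeal.map C)
    (q : Descent.bc (polyBase uR) D) (hq : (pullback.fst (polyBase uR) _).base q = x) :
    ((liftPoly uR D).base q : PrimeSpectrum (MvPolynomial (Fin d) D)).asIdeal =
      ((pullback.snd (polyBase uR) (Spec.map (CommRingCat.ofHom (algebraMap R D)))).base q :
        PrimeSpectrum D).asIdeal.map C := by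
  let := MvPolynomial.algebraMvPolynomial (σ := Fin d) (R := R) (S := D)
  let Q : PrimeSpectrum (MvPolynomial (Fin d) D) := (liftPoly uR D).base q
  let m : PrimeSpectrum D := (pullback.snd (polyBase uR) (Spec.map (CommRingCat.ofHom (algebraMap R D)))).base q
  have hm : Q.asIdeal.comap C = m.asIdeal := by
    have := congrArg (fun k ↦ k.base q) (liftPoly_proj uR D)
    exact congrArg PrimeSpectrum.asIdeal this
  have hQ : Q.asIdeal.comap (MvPolynomial.map (algebraMap R D)) =
      ((polyBase uR).base x : PrimeSpectrum R).asIdeal.map C := by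
    rw [← hx, ← hq]
    have := congrArg (fun k ↦ k.base q) (isPullback_liftPoly uR D).w
    exact (congrArg PrimeSpectrum.asIdeal this).symm
  have hle : m.asIdeal.map C ≤ Q.asIdeal := by
    rw [Ideal.map_le_iff_le_comap, hm]
  have hp : m.asIdeal.comap (algebraMap R D) = ((polyBase uR).base x : PrimeSpectrum R).asIdeal := by
    rw [← hq]
    have := congrArg (fun k ↦ k.base q) (pullback.condition (f := polyBase uR)
      (g := Spec.map (CommRingCat.ofHom (algebraMap R D))))
    exact (congrArg PrimeSpectrum.asIdeal this).symm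
  have hprime : (m.asIdeal.map (C (σ := Fin d))).IsPrime := by
    have := MvPolynomial.ker_map (σ := Fin d) (Ideal.Quotient.mk m.asIdeal)
    rw [Ideal.mk_ker] at this
    rw [← this]
    exact RingHom.ker_isPrime _
  refine le_antisymm (fun P hP ↦ ?_) hle
  by_contra hPm
  have : Algebra.IsIntegral (MvPolynomial (Fin d) R) (MvPolynomial (Fin d) D) := inferInstance
  have hlt := Ideal.comap_lt_comap_of_integral_mem_sdiff (R := MvPolynomial (Fin d) R) hle ⟨hP, hPm⟩
    (Algebra.IsIntegral.isIntegral P)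
  refine hlt.ne (le_antisymm hlt.le ?_)
  show Q.asIdeal.comap (MvPolynomial.map (algebraMap R D)) ≤ _
  rw [hQ, Ideal.map_le_iff_le_comap, ← hp]
  intro a ha
  show MvPolynomial.map (algebraMap R D) (C a) ∈ m.asIdeal.map C
  rw [MvPolynomial.map_C]
  exact Ideal.mem_map_of_mem _ ha

/-- Lifting of generizations over all finite subalgebras gives universal openness over an integrally
closed integral extension. -/
theorem isUnivOpenAt_bc [IsNoetherianRing R] (N : Type u) [CommRing N] [IsDomain N] [IsIntegrallyClosed N]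
    [Algebra R N] [Algebra.IsIntegral R N] {x : ↥(Spec B)}
    (hx : (uR.base x : PrimeSpectrum (MvPolynomial (Fin d) R)).asIdeal =
      ((polyBase uR).base x : PrimeSpectrum R).asIdeal.map C)
    (hlift : ∀ S : Subalgebra R N, Module.Finite R S →
      GenLift (polyBase uR) x (Spec.map (CommRingCat.ofHom (algebraMap R S))))
    (w : Descent.bc (polyBase uR) N) (hw : (pullback.fst (polyBase uR) _).base w = x) :
    EGA43.IsUnivOpenAt (pullback.snd (polyBase uR) (Spec.map (CommRingCat.ofHom (algebraMap R N)))) w := by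
  let uN := liftPoly uR N
  have : LocallyOfFiniteType uN := MorphismProperty.of_isPullback (isPullback_liftPoly uR N) ‹_›
  have : LocallyQuasiFinite uN := MorphismProperty.of_isPullback (isPullback_liftPoly uR N) ‹_›
  let η : ↥(Spec (CommRingCat.of (MvPolynomial (Fin d) N))) :=
    (⟨⊥, Ideal.isPrime_bot⟩ : PrimeSpectrum (MvPolynomial (Fin d) N))
  suffices hz : ∃ ζ, ζ ⤳ w ∧ uN.base ζ = η by
    obtain ⟨ζ, hζw, hζ⟩ := hz
    have := isIntegrallyClosed_mvPolynomial_fin N d
    have h1 : EGA43.IsUnivOpenAt uN w :=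
      isUnivOpenAt_of_quasiFinite_normal (O := MvPolynomial (Fin d) N) uN ζ w hζw
        (congrArg PrimeSpectrum.asIdeal hζ)
    have h2 := IsUnivOpenAt.comp h1 (isUnivOpenAt_of_universallyOpen' (polyProj N d) (uN.base w))
    rwa [liftPoly_proj] at h2
  by_contra hcon
  push Not at hcon
  have hfin : (uN.base ⁻¹' {η}).Finite := by
    have : QuasiCompact uN := inferInstance
    exact uN.finite_preimage_singleton η
  let W : Set (Descent.bc (polyBase uR) N) := (⋃ ζ ∈ uN.base ⁻¹' {η}, closure {ζ})ᶜ
  have hW : IsOpen W := (hfin.isClosed_biUnion fun _ _ ↦ isClosed_closure).isOpen_compl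
  have hwW : w ∈ W := by
    simp only [W, Set.mem_compl_iff, Set.mem_iUnion, not_exists]
    exact fun ζ hζ hwζ ↦ hcon ζ (specializes_iff_mem_closure.mpr hwζ) hζ
  obtain ⟨s, V, hwV, hV⟩ := Descent.exists_local_descent (polyBase uR) w W hW hwW
  let S : Subalgebra R N := Algebra.adjoin R (s : Set N)
  have hS : Module.Finite R S := Module.Finite.iff_fg.mpr
    (fg_adjoin_of_finite s.finite_toSet fun a _ ↦ Algebra.IsIntegral.isIntegral a)
  have : IsNoetherianRing S := IsNoetherianRing.of_finite R S
  let t := Descent.trans (polyBase uR) S.val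
  have ht : (pullback.fst (polyBase uR) _).base (t.base w) = x := by
    rw [← Scheme.Hom.comp_apply, Descent.trans_fst, hw]
  let uS := liftPoly uR S
  have : LocallyOfFiniteType uS := MorphismProperty.of_isPullback (isPullback_liftPoly uR S) ‹_›
  have : LocallyQuasiFinite uS := MorphismProperty.of_isPullback (isPullback_liftPoly uR S) ‹_›
  have hint : Algebra.IsIntegral R S := inferInstance
  obtain ⟨z, hzq, hz0⟩ := exists_generization_affine uS (t.base w)
    (by rw [liftPoly_proj]; exact liftPoly_eq_map_C uR hint hx _ ht)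
    (by
      rw [liftPoly_proj]
      exact hlift S hS (t.base w) ht)
  have hzη : uS.base z =
      (Spec.map (CommRingCat.ofHom (MvPolynomial.map (σ := Fin d) S.val.toRingHom))).base η := by
    apply PrimeSpectrum.ext
    rw [hz0]
    show ⊥ = Ideal.comap (MvPolynomial.map S.val.toRingHom) ⊥
    rw [← RingHom.ker_eq_comap_bot]
    exact ((RingHom.injective_iff_ker_eq_bot _).mp
      (MvPolynomial.map_injective _ Subtype.val_injective)).symm
  obtain ⟨ζ, hζ1, hζ2⟩ := image_fst_snd (isPullback_liftPoly_trans uR S.val) z η hzη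
  have hζW : ζ ∈ W := hV ζ (by rw [hζ1]; exact hzq.mem_open V.isOpen hwV)
  exact hζW (Set.mem_biUnion (show ζ ∈ uN.base ⁻¹' {η} from hζ2) (subset_closure rfl))

end UOpenLib

namespace UOpenLib

section Transfer

variable {X Y X' Y' Z : Scheme.{u}} {f : X ⟶ Y} {f' : X' ⟶ Y'} {k : Z ⟶ Y'} {g : Z ⟶ Y}
  {j : X' ⟶ X} [IsOpenImmersion j] {i : Y' ⟶ Y} [Mono i]

/-- Lifting of generizations restricts along open immersions of the source and monomorphisms of the
base. -/
theorem GenLift.transfer (hf : j ≫ f = f' ≫ i) (hk : k ≫ i = g) {x : X'}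
    (h : GenLift f (j.base x) g) : GenLift f' x k := by
  let m := pullback.map f' k f g j (𝟙 Z) i hf.symm (by rw [Category.id_comp, hk])
  have hm : m ≫ pullback.snd f g = pullback.snd f' k :=
    (pullback.lift_snd _ _ _).trans (Category.comp_id _)
  intro x' hx' y₁ hy₁
  obtain ⟨z, hz, hzy⟩ := h (m.base x')
    (by rw [← Scheme.Hom.comp_apply, show m ≫ pullback.fst f g = pullback.fst f' k ≫ j from pullback.lift_fst _ _ _,
      Scheme.Hom.comp_apply, hx']) y₁ (by rwa [← Scheme.Hom.comp_apply, hm])
  obtain ⟨z', rfl⟩ := hz.mem_open m.isOpenEmbedding.isOpen_range ⟨x', rfl⟩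
  exact ⟨z', m.isOpenEmbedding.isInducing.specializes_iff.mp hz,
    by rw [← hm, Scheme.Hom.comp_apply, hzy]⟩

/-- Lifting of generizations along an open subscheme of the base change. -/
theorem GenLift.comp_openImmersion {x : X} {W : Scheme.{u}} (ι : W ⟶ Z) [IsOpenImmersion ι]
    (h : GenLift f x g) : GenLift f x (ι ≫ g) := by
  let m := pullback.lift (f := f) (g := g) (pullback.fst f (ι ≫ g)) (pullback.snd f (ι ≫ g) ≫ ι)
    (by rw [Category.assoc]; exact pullback.condition)
  have sq : IsPullback m (pullback.snd f (ι ≫ g)) (pullback.snd f g) ι :=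
    IsPullback.of_right (by rw [pullback.lift_fst]; exact IsPullback.of_hasPullback f (ι ≫ g))
      (pullback.lift_snd _ _ _) (IsPullback.of_hasPullback f g)
  have : IsOpenImmersion m := MorphismProperty.of_isPullback sq.flip ‹_›
  intro x' hx' y₁ hy₁
  obtain ⟨z, hz, hzy⟩ := h (m.base x') (by rw [← Scheme.Hom.comp_apply, pullback.lift_fst, hx'])
    (ι.base y₁) (by rw [← Scheme.Hom.comp_apply, sq.w, Scheme.Hom.comp_apply]; exact hy₁.map ι.continuous)
  obtain ⟨z', rfl⟩ := hz.mem_open m.isOpenEmbedding.isOpen_range ⟨x', rfl⟩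
  refine ⟨z', m.isOpenEmbedding.isInducing.specializes_iff.mp hz, ι.isOpenEmbedding.injective ?_⟩
  rw [← Scheme.Hom.comp_apply, ← sq.w, Scheme.Hom.comp_apply, hzy]

end Transfer

/-- Universal openness at a maximal point of a fibre is tested on finite base changes. -/
theorem isUnivOpenAt_of_finite {X Y : Scheme.{u}} [IsLocallyNoetherian Y] [QuasiSeparatedSpace Y]
    (f : X ⟶ Y) [LocallyOfFiniteType f] (x : X)
    (hmax : ∀ x' : X, f.base x' = f.base x → x ∈ closure {x'} → x' = x)
    (h : ∀ (Y' : Scheme.{u}) (g : Y' ⟶ Y) [IsFinite g], ∀ x' : ↥(pullback f g),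
      (pullback.fst f g).base x' = x → EGA43.IsOpenAt (pullback.snd f g).base x') :
    EGA43.IsUnivOpenAt f x := by
  obtain ⟨d, hd⟩ := exists_fibreDimAt_eq_nat f x
  obtain ⟨_, ⟨V, hV, rfl⟩, hxV, -⟩ :=
    Y.isBasis_affineOpens.exists_subset_of_mem_open (Set.mem_univ (f.base x)) isOpen_univ
  have hV : IsAffineOpen V := hV
  have : IsNoetherianRing Γ(Y, V) := IsLocallyNoetherian.component_noetherian ⟨V, hV⟩
  obtain ⟨U, hU, hxU, eUV, φ, hφ, hft, hqf⟩ := FibDimLib.exists_qf_affine_nhd f x hV hxV d hd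
  let uR : Spec Γ(X, U) ⟶ Spec (CommRingCat.of (MvPolynomial (Fin d) Γ(Y, V))) :=
    Spec.map (CommRingCat.ofHom φ)
  have : LocallyOfFiniteType uR := HasRingHomProperty.Spec_iff.mpr hft
  have : LocallyQuasiFinite uR := HasRingHomProperty.Spec_iff.mpr hqf
  have hgR : hU.fromSpec ≫ f = polyBase uR ≫ hV.fromSpec := by
    simp only [polyBase, uR, ← Spec.map_comp, ← CommRingCat.ofHom_comp, hφ, CommRingCat.ofHom_hom]
    exact (IsAffineOpen.SpecMap_appLE_fromSpec f hV hU eUV).symm
  let xU : ↥(Spec Γ(X, U)) := hU.primeIdealOf ⟨x, hxU⟩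
  have hxU' : hU.fromSpec.base xU = x := hU.fromSpec_primeIdealOf ⟨x, hxU⟩
  have hx : (uR.base xU : PrimeSpectrum (MvPolynomial (Fin d) Γ(Y, V))).asIdeal =
      ((polyBase uR).base xU : PrimeSpectrum Γ(Y, V)).asIdeal.map C := by
    refine (comap_eq_of_le_fibreClosureDim f hV hU eUV φ hφ hqf hxU
      (by rw [← fibreDimAt_eq_of_max f hmax, hd])).trans ?_
    rw [← comap_primeIdealOf f hV hU eUV φ hφ x hxU]
    rfl
  refine (isUnivOpenAt_iff_dvr f x).mpr fun A _ _ _ g hcl x' hx' hx'cl ↦ ?_
  have hr : Set.range g ⊆ Set.range hV.fromSpec := by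
    rw [hV.range_fromSpec]
    rintro _ ⟨t, rfl⟩
    have hsp : t ⤳ IsLocalRing.closedPoint A := IsLocalRing.specializes_closedPoint t
    exact (hsp.map g.continuous).mem_open V.isOpen (by
      show g.base (IsLocalRing.closedPoint A) ∈ V
      rw [hcl]; exact hxV)
  obtain ⟨ψ, hψ⟩ := Spec.map_surjective (IsOpenImmersion.lift hV.fromSpec g hr)
  have hψg : Spec.map ψ ≫ hV.fromSpec = g := by rw [hψ, IsOpenImmersion.lift_fac]
  let L := FractionRing A
  let : Algebra Γ(Y, V) A := ψ.hom.toAlgebra
  let N := integralClosure Γ(Y, V) L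
  have : IsIntegrallyClosed N := IsIntegrallyClosed.of_isIntegrallyClosedIn N L
  have : Algebra.IsIntegral Γ(Y, V) N := integralClosure.AlgebraIsIntegral
  have hA : ∀ n : N, (n : L) ∈ (algebraMap A L).range := fun n ↦
    IsIntegrallyClosed.isIntegral_iff.mp n.2.tower_top
  have hinj : Function.Injective (algebraMap A L) := IsFractionRing.injective A L
  let e := RingEquiv.ofBijective (algebraMap A L).rangeRestrict
    ⟨fun a b hab ↦ hinj (congrArg Subtype.val hab), (algebraMap A L).rangeRestrict_surjective⟩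
  let ν : N →+* A := e.symm.toRingHom.comp (N.val.toRingHom.codRestrict (algebraMap A L).range hA)
  have hν : ∀ n : N, algebraMap A L (ν n) = n := fun n ↦
    congrArg Subtype.val (e.apply_symm_apply ⟨(n : L), hA n⟩)
  have hνψ : ν.comp (algebraMap Γ(Y, V) N) = ψ.hom := RingHom.ext fun b ↦
    hinj ((hν _).trans (IsScalarTower.algebraMap_apply Γ(Y, V) A L b))
  let θN := Spec.map (CommRingCat.ofHom (algebraMap Γ(Y, V) N))
  let gN := θN ≫ hV.fromSpec
  have hg : Spec.map (CommRingCat.ofHom ν) ≫ gN = g := by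
    rw [← hψg, ← Category.assoc, ← Spec.map_comp, ← CommRingCat.ofHom_comp, hνψ, CommRingCat.ofHom_hom]
  let m := pullback.lift (f := f) (g := gN) (pullback.fst f g)
    (pullback.snd f g ≫ Spec.map (CommRingCat.ofHom ν)) (by rw [Category.assoc, hg]; exact pullback.condition)
  have sq : IsPullback m (pullback.snd f g) (pullback.snd f gN) (Spec.map (CommRingCat.ofHom ν)) :=
    IsPullback.of_right (by rw [pullback.lift_fst, hg]; exact IsPullback.of_hasPullback f g)
      (pullback.lift_snd _ _ _) (IsPullback.of_hasPullback f gN)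
  let mR := pullback.map (polyBase uR) θN f gN hU.fromSpec (𝟙 _) hV.fromSpec hgR.symm
    (by rw [Category.id_comp])
  obtain ⟨w, hw⟩ : m.base x' ∈ Set.range mR.base := by
    rw [Scheme.Pullback.range_map]
    refine ⟨?_, ⟨_, rfl⟩⟩
    show (pullback.fst f gN).base (m.base x') ∈ Set.range hU.fromSpec.base
    rw [← Scheme.Hom.comp_apply, pullback.lift_fst, hx']
    exact ⟨xU, hxU'⟩
  have hwx : (pullback.fst (polyBase uR) θN).base w = xU := by
    refine hU.fromSpec.isOpenEmbedding.injective ?_
    rw [← Scheme.Hom.comp_apply,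
      show pullback.fst (polyBase uR) θN ≫ hU.fromSpec = mR ≫ pullback.fst f gN from
        (pullback.lift_fst _ _ _).symm,
      Scheme.Hom.comp_apply, hw, ← Scheme.Hom.comp_apply, pullback.lift_fst, hx', hxU']
  have h1 := isUnivOpenAt_bc uR N hx (fun S hS ↦ by
    obtain ⟨Y', g', hg', i, hi, hig⟩ := exists_isFinite_extension hV S
    refine GenLift.transfer hgR hig.symm ?_
    rw [hxU']
    exact GenLift.comp_openImmersion i fun z hz y₁ hy₁ ↦
      (Groth.Agent.S3404.result (pullback.snd f g') z).1 (h Y' g' z hz) y₁ hy₁) w hwx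
  have h2 : EGA43.IsUnivOpenAt (pullback.snd f gN) (m.base x') := by
    rw [← hw]
    refine IsUnivOpenAt.of_comp ?_
    rwa [show mR ≫ pullback.snd f gN = pullback.snd (polyBase uR) θN from
      (pullback.lift_snd _ _ _).trans (Category.comp_id _)]
  obtain ⟨z, hz, hzy⟩ := (Groth.Agent.S3404.result (pullback.snd f g) x').1
    (IsUnivOpenAt.isOpenAt h2 sq x' rfl) (⟨⊥, Ideal.isPrime_bot⟩ : PrimeSpectrum A)
    (by rw [hx'cl]; exact (PrimeSpectrum.le_iff_specializes _ _).mp bot_le)
  refine ⟨z, hz, fun e ↦ IsDiscreteValuationRing.not_a_field A ?_⟩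
  exact (congrArg PrimeSpectrum.asIdeal (hzy.symm.trans e)).symm

end UOpenLib
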