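import Mathlib
import Groth.Prelude.Def_CAlg2
import Groth.Agent.UOpenLib.FiniteCriterion
import Groth.Agent.UOpenLib.Chevalley

/-!
# Universal openness over geometrically unibranch points of an irreducible affine base
-/

set_option autoImplicit false

universe u

open CategoryTheory Limits AlgebraicGeometry TopologicalSpace Topology MvPolynomial DvrDomLib

namespace UOpenLib

/-- A morphism which is quasi-finite over affine space over an irreducible affine base is universally
open at points over geometrically unibranch points having a generization over the generic point. -/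
theorem isUnivOpenAt_polyBase_of_unibranch {R B : CommRingCat.{u}} {d : ℕ}
    (uR : Spec B ⟶ Spec (CommRingCat.of (MvPolynomial (Fin d) R))) [LocallyOfFiniteType uR]
    [LocallyQuasiFinite uR] (hnil : (nilradical R).IsPrime) (x : ↥(Spec B))
    (O : Type u) [CommRing O] [IsLocalRing O] [Algebra R O]
    [IsLocalization.AtPrime O ((polyBase uR).base x : PrimeSpectrum R).asIdeal]
    (hO : CAlg2.IsGeomUnibranch O) (ζ : ↥(Spec B)) (hζx : ζ ⤳ x)
    (hζ : (uR.base ζ : PrimeSpectrum (MvPolynomial (Fin d) R)).asIdeal = (nilradical R).map C) :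
    EGA43.IsUnivOpenAt (polyBase uR) x := by
  obtain ⟨⟨hdom, hloc⟩, hres⟩ := hO
  let p : PrimeSpectrum R := (polyBase uR).base x
  have : p.asIdeal.IsPrime := p.2
  have : IsLocalization.AtPrime O p.asIdeal := ‹IsLocalization.AtPrime O _›
  let Rd := CAlg2.red O
  have : IsDomain Rd := hdom
  let N' := CAlg2.normRed O
  have : IsLocalRing N' := hloc
  let K := FractionRing Rd
  have : IsScalarTower R O K := inferInstance
  have : IsScalarTower O Rd K := inferInstance
  let N := integralClosure R K
  have : IsIntegrallyClosed N := IsIntegrallyClosed.of_isIntegrallyClosedIn N K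
  have : Algebra.IsIntegral R N := integralClosure.AlgebraIsIntegral
  let θ : R →+* N := algebraMap R N
  have hθint : θ.IsIntegral := algebraMap_isIntegral_iff.mpr inferInstance
  have hK : ∀ a : R, (θ a : K) = algebraMap Rd K (Ideal.Quotient.mk _ (algebraMap R O a)) := fun _ ↦ rfl
  have hθker : RingHom.ker θ = nilradical R := by
    refine le_antisymm (fun a ha ↦ ?_) (fun a ha ↦ ?_)
    · have h0 : (θ a : K) = 0 := congrArg Subtype.val (RingHom.mem_ker.mp ha)
      rw [hK, map_eq_zero_iff _ (IsFractionRing.injective Rd K), Ideal.Quotient.eq_zero_iff_mem] at h0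
      obtain ⟨n, hn⟩ := h0
      rw [← map_pow, Ideal.zero_eq_bot, Ideal.mem_bot, IsLocalization.map_eq_zero_iff p.asIdeal.primeCompl] at hn
      obtain ⟨m, hm⟩ := hn
      have hmem : (m : R) * a ^ n ∈ nilradical R := by rw [hm]; exact zero_mem _
      rcases hnil.mem_or_mem hmem with h | h
      · exact absurd (nilradical_le_prime p.asIdeal h) m.2
      · exact hnil.mem_of_pow_mem n h
    · exact RingHom.mem_ker.mpr ((IsNilpotent.map (mem_nilradical.mp ha) θ).eq_zero)
  let v := Spec.map (CommRingCat.ofHom θ)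
  have : IsIntegralHom v := IsIntegralHom.SpecMap_iff.mpr hθint
  let η : ↥(Spec (CommRingCat.of N)) := (⟨⊥, Ideal.isPrime_bot⟩ : PrimeSpectrum N)
  have hvη : v.base η = (⟨nilradical R, hnil⟩ : PrimeSpectrum R) := by
    apply PrimeSpectrum.ext
    show Ideal.comap θ ⊥ = nilradical R
    rw [← RingHom.ker_eq_comap_bot, hθker]
  have : Surjective v := ⟨fun P ↦ by
    have hP : P ∈ closure (Set.range v.base) := by
      refine closure_mono (s := {(⟨nilradical R, hnil⟩ : PrimeSpectrum R)})
        (t := Set.range v.base) (Set.singleton_subset_iff.mpr (Set.mem_range.mpr ⟨η, hvη⟩)) ?_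
      exact ((PrimeSpectrum.le_iff_specializes (⟨nilradical R, hnil⟩ : PrimeSpectrum R) P).mp
        (nilradical_le_prime (R := R) (P : PrimeSpectrum R).asIdeal)).mem_closure
    rwa [v.isClosedMap.isClosed_range.closure_eq] at hP⟩
  -- the unique point of the normalization over `p`
  let ρ : N →+* N' := N.val.toRingHom.codRestrict (integralClosure Rd K) fun n ↦
    (n.2.tower_top (A := O)).tower_top
  let n₀ : Ideal N := (IsLocalRing.maximalIdeal N').comap ρ
  have huniqN : ∀ n : PrimeSpectrum N, PrimeSpectrum.comap θ n = p → n.asIdeal ≤ n₀ := by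
    intro n hn a ha
    by_contra hna
    obtain ⟨b, hb⟩ := (IsLocalRing.notMem_maximalIdeal.mp hna).exists_right_inv
    have hbint : IsIntegral O (b : K) := by
      have : Algebra.IsIntegral O Rd := ⟨fun z ↦ by
        obtain ⟨w, rfl⟩ := Ideal.Quotient.mk_surjective z
        exact isIntegral_algebraMap⟩
      exact isIntegral_trans _ b.2
    obtain ⟨s, hs⟩ :=
      IsIntegral.exists_multiple_integral_of_isLocalization p.asIdeal.primeCompl (b : K) hbint
    have hmem : θ (s : R) ∈ n.asIdeal := by
      have he : θ (s : R) = a * ⟨(s : R) • (b : K), hs⟩ := Subtype.ext (by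
        show algebraMap R K s = (a : K) * ((s : R) • (b : K))
        rw [Algebra.smul_def, mul_left_comm, show (a : K) * (b : K) = 1 from congrArg Subtype.val hb,
          mul_one])
      rw [he]
      exact n.asIdeal.mul_mem_right _ ha
    have : (s : R) ∈ p.asIdeal := (congrArg PrimeSpectrum.asIdeal hn).le hmem
    exact s.2 this
  have huniqN' : ∀ n n' : PrimeSpectrum N, PrimeSpectrum.comap θ n = p → PrimeSpectrum.comap θ n' = p →
      n = n' := by
    have hn₀ : (n₀.comap θ) ≤ p.asIdeal := fun a ha ↦ by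
      by_contra hap
      have h1 : IsUnit (ρ (θ a)) := by
        have h2 : ρ (θ a) = algebraMap Rd N' (Ideal.Quotient.mk _ (algebraMap R O a)) := rfl
        rw [h2]
        exact ((IsLocalization.map_units O (⟨a, hap⟩ : p.asIdeal.primeCompl)).map _).map _
      exact (IsLocalRing.notMem_maximalIdeal.mpr h1) ha
    have heq : ∀ n : PrimeSpectrum N, PrimeSpectrum.comap θ n = p → n.asIdeal = n₀ := fun n hn ↦ by
      refine le_antisymm (huniqN n hn) fun a ha ↦ ?_
      by_contra han
      have hlt := Ideal.comap_lt_comap_of_integral_mem_sdiff (R := R) (huniqN n hn) ⟨ha, han⟩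
        (Algebra.IsIntegral.isIntegral a)
      exact hlt.not_ge (hn₀.trans (le_of_eq (congrArg PrimeSpectrum.asIdeal hn).symm))
    exact fun n n' h h' ↦ PrimeSpectrum.ext ((heq n h).trans (heq n' h').symm)
  refine IsUnivOpenAt.descend (v := v) fun x₁ hx₁ ↦ ?_
  let f := polyBase uR
  let f' := pullback.snd f v
  let a := pullback.fst f v
  have hover : ∀ w, a.base w = x → PrimeSpectrum.comap θ (f'.base w) = p := fun w hw ↦ by
    show v.base (f'.base w) = _
    rw [← Scheme.Hom.comp_apply, ← pullback.condition, Scheme.Hom.comp_apply, hw]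
  -- uniqueness of the point over `x`
  have huniq : ∀ w, a.base w = x → w = x₁ := by
    intro w hw
    let k := N' ⧸ IsLocalRing.maximalIdeal N'
    let : Field k := Ideal.Quotient.field _
    let π : N →+* k := (Ideal.Quotient.mk _).comp ρ
    let j : O →+* k :=
      (Ideal.Quotient.mk _).comp ((algebraMap Rd N').comp (Ideal.Quotient.mk (nilradical O)))
    have hj : UniversallyInjective (Spec.map (CommRingCat.ofHom j)) :=
      universallyInjective_of_pow_mem_range _ (hres (IsLocalRing.maximalIdeal N'))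
    have : Mono (Spec.map (CommRingCat.ofHom (algebraMap R O))) := by
      have : Epi (CommRingCat.ofHom (algebraMap R O)) := IsLocalization.epi p.asIdeal.primeCompl O
      have : Mono (CommRingCat.ofHom (algebraMap R O)).op := inferInstance
      exact Functor.map_mono Scheme.Spec (CommRingCat.ofHom (algebraMap R O)).op
    let q := Spec.map (CommRingCat.ofHom π)
    have hq : q ≫ v = Spec.map (CommRingCat.ofHom j) ≫ Spec.map (CommRingCat.ofHom (algebraMap R O)) := by
      rw [← Spec.map_comp, ← Spec.map_comp]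
      rfl
    have hui : UniversallyInjective (q ≫ v) :=
      hq ▸ MorphismProperty.comp_mem @UniversallyInjective _ _ hj inferInstance
    have hqv : v.base (q.base (IsLocalRing.closedPoint k)) = p := by
      apply PrimeSpectrum.ext
      show Ideal.comap θ (Ideal.comap π (IsLocalRing.maximalIdeal k)) = p.asIdeal
      rw [IsLocalRing.isField_iff_maximalIdeal_eq.mp (Field.toIsField k), ← RingHom.ker_eq_comap_bot,
        show RingHom.ker π = n₀ by rw [← RingHom.comap_ker, Ideal.mk_ker]]
      have hn := hover x₁ hx₁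
      have hle := huniqN _ hn
      refine le_antisymm (fun b hb ↦ ?_) ((congrArg PrimeSpectrum.asIdeal hn).symm.le.trans (Ideal.comap_mono hle))
      by_contra hbp
      have h1 : IsUnit (ρ (θ b)) := by
        have h2 : ρ (θ b) = algebraMap Rd N' (Ideal.Quotient.mk _ (algebraMap R O b)) := rfl
        rw [h2]
        exact ((IsLocalization.map_units O (⟨b, hbp⟩ : p.asIdeal.primeCompl)).map _).map _
      exact (IsLocalRing.notMem_maximalIdeal.mpr h1) hb
    have hqe : ∀ w, a.base w = x → f'.base w = q.base (IsLocalRing.closedPoint k) := fun w hw ↦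
      huniqN' _ _ (hover w hw) hqv
    have sq := (IsPullback.of_hasPullback f' q).paste_horiz (IsPullback.of_hasPullback f v)
    have : UniversallyInjective (pullback.fst f' q ≫ a) := MorphismProperty.of_isPullback sq.flip hui
    obtain ⟨w₁, hw₁, -⟩ := Scheme.Pullback.exists_preimage_pullback (f := f') (g := q) x₁
      (IsLocalRing.closedPoint k) (hqe x₁ hx₁)
    obtain ⟨w₂, hw₂, -⟩ := Scheme.Pullback.exists_preimage_pullback (f := f') (g := q) w
      (IsLocalRing.closedPoint k) (hqe w hw)
    have : w₂ = w₁ := (pullback.fst f' q ≫ a).injective (by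
      rw [Scheme.Hom.comp_apply, Scheme.Hom.comp_apply, hw₁, hw₂, hw, hx₁])
    rw [← hw₁, ← hw₂, this]
  -- the map to affine space over the normalization
  have sqP := isPullback_polyProj θ d
  let u' := liftPoly uR N
  have squ := isPullback_liftPoly uR N
  have : LocallyOfFiniteType u' := MorphismProperty.of_isPullback squ ‹_›
  have : LocallyQuasiFinite u' := MorphismProperty.of_isPullback squ ‹_›
  let ηT : PrimeSpectrum (MvPolynomial (Fin d) N) := ⟨⊥, Ideal.isPrime_bot⟩
  have hη : uR.base ζ = (Spec.map (CommRingCat.ofHom (R := MvPolynomial (Fin d) R)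
      (S := MvPolynomial (Fin d) N) (MvPolynomial.map θ))).base ηT := by
    apply PrimeSpectrum.ext
    rw [hζ]
    show (nilradical R).map C = Ideal.comap (MvPolynomial.map θ) ⊥
    rw [← RingHom.ker_eq_comap_bot, MvPolynomial.ker_map, hθker]
  obtain ⟨ζ', hζ'1, hζ'2⟩ := image_fst_snd squ ζ ηT hη
  obtain ⟨w, hw1, hw2⟩ : x ∈ a.base '' closure {ζ'} := by
    rw [← (a.isClosedMap _ isClosed_closure).closure_eq]
    refine closure_mono ?_ (hζx.mem_closure)
    rintro _ rfl
    exact ⟨ζ', subset_closure rfl, hζ'1⟩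
  have hsp : ζ' ⤳ x₁ := (huniq w hw2) ▸ specializes_iff_mem_closure.mpr hw1
  have := isIntegrallyClosed_mvPolynomial_fin N d
  have h1 : EGA43.IsUnivOpenAt u' x₁ :=
    isUnivOpenAt_of_quasiFinite_normal (O := MvPolynomial (Fin d) N) u' ζ' x₁ hsp
      (congrArg PrimeSpectrum.asIdeal hζ'2)
  have h2 := IsUnivOpenAt.comp h1 (isUnivOpenAt_of_universallyOpen' (polyProj N d) (u'.base x₁))
  rwa [liftPoly_proj] at h2

variable {X Y : Scheme.{u}} (g : X ⟶ Y) [LocallyOfFiniteType g]

/-- Universal openness from a large generization over the generic point, at a geometrically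
unibranch point having an irreducible affine neighbourhood. -/
theorem isUnivOpenAt_of_unibranch_affine (x : X) {V : Y.Opens} (hV : IsAffineOpen V) (hxV : g.base x ∈ V)
    (hy : CAlg2.IsGeomUnibranch (Y.presheaf.stalk (g.base x)))
    {ζ : X} (hζx : ζ ⤳ x) (hgen : ∀ y ∈ V, g.base ζ ⤳ y)
    (hdim : FlatMor.fibreDimAt g x ≤ fibreClosureDim g ζ) : EGA43.IsUnivOpenAt g x := by
  obtain ⟨e, hd⟩ := exists_fibreDimAt_eq_nat g x
  obtain ⟨U, hU, hxU, eUV, φ, hφ, hft, hqf⟩ := FibDimLib.exists_qf_affine_nhd g x hV hxV e hd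
  have hζU : ζ ∈ U := hζx.mem_open U.isOpen hxU
  have hζV : g.base ζ ∈ V := eUV hζU
  let pζ : PrimeSpectrum Γ(Y, V) := hV.primeIdealOf ⟨g.base ζ, hζV⟩
  have hnil : pζ.asIdeal = nilradical Γ(Y, V) := by
    refine le_antisymm ?_ (nilradical_le_prime _)
    rw [nilradical_eq_sInf]
    refine le_sInf fun Q hQ ↦ ?_
    obtain ⟨y', hy'V, hy'⟩ := exists_point_of_prime hV ⟨Q, hQ⟩
    have := (primeIdealOf_le_iff hV hζV hy'V).mpr (hgen y' hy'V)
    rw [hy'] at this
    exact this
  let uR : Spec Γ(X, U) ⟶ Spec (CommRingCat.of (MvPolynomial (Fin e) Γ(Y, V))) :=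
    Spec.map (CommRingCat.ofHom φ)
  have : LocallyOfFiniteType uR := HasRingHomProperty.Spec_iff.mpr hft
  have : LocallyQuasiFinite uR := HasRingHomProperty.Spec_iff.mpr hqf
  have hgR : polyBase uR ≫ hV.fromSpec = hU.fromSpec ≫ g := by
    simp only [polyBase, uR, ← Spec.map_comp, ← CommRingCat.ofHom_comp, hφ, CommRingCat.ofHom_hom]
    exact IsAffineOpen.SpecMap_appLE_fromSpec g hV hU eUV
  let x' : ↥(Spec Γ(X, U)) := hU.primeIdealOf ⟨x, hxU⟩
  let ζ' : ↥(Spec Γ(X, U)) := hU.primeIdealOf ⟨ζ, hζU⟩
  have hp : (polyBase uR).base x' = hV.primeIdealOf ⟨g.base x, eUV hxU⟩ :=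
    comap_primeIdealOf g hV hU eUV φ hφ x hxU
  let : Algebra Γ(Y, V) (Y.presheaf.stalk (g.base x)) := (Y.presheaf.germ V (g.base x) hxV).hom.toAlgebra
  have : IsLocalization.AtPrime (Y.presheaf.stalk (g.base x))
      ((polyBase uR).base x' : PrimeSpectrum Γ(Y, V)).asIdeal := by
    rw [hp]
    exact hV.isLocalization_stalk ⟨g.base x, hxV⟩
  have h := isUnivOpenAt_polyBase_of_unibranch uR (hnil ▸ pζ.2) x' (Y.presheaf.stalk (g.base x)) hy ζ'
    ((PrimeSpectrum.le_iff_specializes _ _).mp ((primeIdealOf_le_iff hU hζU hxU).mpr hζx))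
    (by
      rw [← hnil]
      exact comap_eq_of_le_fibreClosureDim g hV hU eUV φ hφ hqf hζU (hd ▸ hdim))
  have h' : EGA43.IsUnivOpenAt (polyBase uR ≫ hV.fromSpec) x' :=
    IsUnivOpenAt.comp h (isUnivOpenAt_of_universallyOpen' hV.fromSpec _)
  rw [hgR] at h'
  have hx' : hU.fromSpec.base x' = x := hU.fromSpec_primeIdealOf ⟨x, hxU⟩
  exact hx' ▸ IsUnivOpenAt.of_comp h'

end UOpenLib
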