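import Mathlib
import Groth.Agent.CompleteLib.Basic

/-!
# Quasi-finite points over complete local rings
-/

set_option autoImplicit false
universe u

open IsLocalRing CategoryTheory AlgebraicGeometry

namespace UOpenLib

/-- The local ring of a quasi-finite algebra at a point over the closed point of a complete Noetherian
local ring is finite. -/
theorem finite_localization_of_quasiFinite {A C : Type u} [CommRing A] [IsLocalRing A] [IsNoetherianRing A]
    [IsAdicComplete (maximalIdeal A) A] [CommRing C] [Algebra A C] [Algebra.FiniteType A C]
    [Algebra.QuasiFinite A C] (q : Ideal C) [q.IsPrime] (hq : q.comap (algebraMap A C) = maximalIdeal A) :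
    Module.Finite A (Localization.AtPrime q) := by
  let D := Localization.AtPrime q
  have : IsNoetherianRing C := Algebra.FiniteType.isNoetherianRing A C
  have : IsNoetherianRing D := IsLocalization.isNoetherianRing q.primeCompl _ inferInstance
  have : Algebra.QuasiFinite C D := Algebra.QuasiFinite.of_isLocalization q.primeCompl
  have : Algebra.QuasiFinite A D := Algebra.QuasiFinite.trans A C D
  have hle : (maximalIdeal A).map (algebraMap A D) ≤ maximalIdeal D := by
    rw [Ideal.map_le_iff_le_comap, ← hq]
    intro a ha
    rw [Ideal.mem_comap, IsScalarTower.algebraMap_apply A C D]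
    exact (IsLocalization.AtPrime.to_map_mem_maximal_iff D q _).mpr ha
  have : IsHausdorff (maximalIdeal A) D := ⟨fun d hd => by
    have h1 : d ∈ ⨅ n : ℕ, maximalIdeal D ^ n := by
      rw [Submodule.mem_iInf]
      intro n
      have h2 := SModEq.zero.mp (hd n)
      rw [Ideal.smul_top_eq_map, Submodule.restrictScalars_mem, Ideal.map_pow] at h2
      exact Ideal.pow_right_mono hle n h2
    rwa [Ideal.iInf_pow_eq_bot_of_isLocalRing _ (maximalIdeal.isMaximal D).ne_top] at h1⟩
  let := Ideal.Quotient.field (maximalIdeal A)
  let k := A ⧸ maximalIdeal A
  have : Module.Finite k (TensorProduct A k D) := Module.Finite.of_quasiFinite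
  have : Module.Finite A (TensorProduct A k D) := Module.Finite.trans k _
  exact CompleteLib.finite_of_quotient_finite
    (Module.Finite.equiv (TensorProduct.quotTensorEquivQuotSMul D (maximalIdeal A)))

/-- A local ring of a Noetherian ring which is a finite module is an open part of the spectrum. -/
theorem isOpenImmersion_of_finite_localization {C : Type u} [CommRing C] [IsNoetherianRing C]
    (q : Ideal C) [q.IsPrime] [Module.Finite C (Localization.AtPrime q)] :
    IsOpenImmersion (Spec.map (CommRingCat.ofHom (algebraMap C (Localization.AtPrime q)))) := by
  let D := Localization.AtPrime q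
  let f := Spec.map (CommRingCat.ofHom (algebraMap C D))
  have : Flat f := by
    rw [HasRingHomProperty.Spec_iff (P := @Flat)]
    exact RingHom.flat_algebraMap_iff.mpr (IsLocalization.flat D q.primeCompl)
  have : LocallyOfFinitePresentation f := by
    rw [HasRingHomProperty.Spec_iff (P := @LocallyOfFinitePresentation)]
    exact RingHom.FinitePresentation.of_finiteType.mp
      (RingHom.Finite.finiteType (RingHom.finite_algebraMap.mpr inferInstance))
  have : Epi (CommRingCat.ofHom (algebraMap C D)) := IsLocalization.epi q.primeCompl _
  have : Mono f := (Scheme.Spec.map_mono (CommRingCat.ofHom (algebraMap C D)).op :)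
  exact IsOpenImmersion.of_flat_of_mono f

end UOpenLib
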